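import Mathlib

/-! Helper lemmas (helper40): adic completeness of finite free modules, the lifting property of retracts of
finite free `A/J`-modules, towers of lifts, and projectivity of a complete module with projective
truncations. -/

set_option autoImplicit false
universe u v w

open Submodule

namespace Groth.Agent.H40

section Pi

variable {A : Type u} [CommRing A] (I : Ideal A) (ι : Type w) [Fintype ι]

theorem mem_pow_smul_top_pi_iff (n : ℕ) (y : ι → A) :
    y ∈ (I ^ n • ⊤ : Submodule A (ι → A)) ↔ ∀ i, y i ∈ I ^ n := by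
  classical
  constructor
  · intro hy i
    refine Submodule.smul_induction_on (p := fun y => y i ∈ I ^ n) hy ?_ ?_
    · intro a ha z _
      simp only [Pi.smul_apply, smul_eq_mul]
      exact Ideal.mul_mem_right _ _ ha
    · intro x z hx hz
      simp only [Pi.add_apply]
      exact Ideal.add_mem _ hx hz
  · intro hy
    rw [pi_eq_sum_univ y]
    apply Submodule.sum_mem
    intro i _
    exact Submodule.smul_mem_smul (hy i) Submodule.mem_top

theorem isAdicComplete_pi [IsAdicComplete I A] : IsAdicComplete I (ι → A) := by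
  have hH : IsHausdorff I (ι → A) := by
    refine ⟨fun x hx => ?_⟩
    funext i
    apply IsHausdorff.haus (inferInstance : IsHausdorff I A)
    intro n
    have := hx n
    rw [SModEq.zero] at this ⊢
    rw [mem_pow_smul_top_pi_iff] at this
    rw [smul_eq_mul, Ideal.mul_top]
    exact this i
  have hP : IsPrecomplete I (ι → A) := by
    refine ⟨fun f hf => ?_⟩
    have hcoord : ∀ i, ∃ b : A, ∀ n, f n i ≡ b [SMOD (I ^ n • ⊤ : Submodule A A)] := by
      intro i
      apply IsPrecomplete.prec (inferInstance : IsPrecomplete I A)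
      intro m n hmn
      have := hf hmn
      rw [SModEq.sub_mem] at this ⊢
      rw [mem_pow_smul_top_pi_iff] at this
      rw [smul_eq_mul, Ideal.mul_top]
      exact this i
    choose b hb using hcoord
    refine ⟨b, fun n => ?_⟩
    rw [SModEq.sub_mem, mem_pow_smul_top_pi_iff]
    intro i
    have := hb i n
    rw [SModEq.sub_mem, smul_eq_mul, Ideal.mul_top] at this
    exact this
  exact { toIsHausdorff := hH, toIsPrecomplete := hP }

end Pi

section Lifting

variable {A : Type u} [CommRing A] (J : Ideal A)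

/-- A retract of a finite free `A/J`-module has the lifting property against surjections of `A`-modules
killed by `J`. -/
theorem exists_lift_of_retract {P : Type*} [AddCommGroup P] [Module A P] {m : ℕ}
    (i : P →ₗ[A] (Fin m → A ⧸ J)) (r : (Fin m → A ⧸ J) →ₗ[A] P) (hri : r ∘ₗ i = LinearMap.id)
    {X Y : Type*} [AddCommGroup X] [Module A X] [AddCommGroup Y] [Module A Y]
    (g : X →ₗ[A] Y) (hg : Function.Surjective g) (hX : ∀ a ∈ J, ∀ x : X, a • x = 0)
    (h : P →ₗ[A] Y) : ∃ h' : P →ₗ[A] X, g ∘ₗ h' = h := by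
  classical
  let q : (Fin m → A) →ₗ[A] (Fin m → A ⧸ J) := (Ideal.Quotient.mkₐ A J).toLinearMap.compLeft (Fin m)
  have hq : Function.Surjective q := by
    intro y
    choose c hc using fun j => Ideal.Quotient.mk_surjective (y j)
    exact ⟨c, funext hc⟩
  obtain ⟨H0, hH0⟩ := Module.projective_lifting_property g (h ∘ₗ r ∘ₗ q) hg
  have hker : LinearMap.ker q ≤ LinearMap.ker H0 := by
    intro c hc
    rw [LinearMap.mem_ker] at hc ⊢
    rw [LinearMap.pi_apply_eq_sum_univ H0 c]
    apply Finset.sum_eq_zero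
    intro j _
    have hcj : c j ∈ J := by
      have := congrFun hc j
      exact Ideal.Quotient.eq_zero_iff_mem.mp this
    exact hX _ hcj _
  let e := LinearMap.quotKerEquivOfSurjective q hq
  let H : (Fin m → A ⧸ J) →ₗ[A] X := (LinearMap.ker q).liftQ H0 hker ∘ₗ e.symm.toLinearMap
  have hHq : H ∘ₗ q = H0 := by
    apply LinearMap.ext
    intro c
    have : e.symm (q c) = (LinearMap.ker q).mkQ c := by
      rw [LinearEquiv.symm_apply_eq]
      rfl
    simp only [H, LinearMap.comp_apply, LinearEquiv.coe_coe, this, Submodule.mkQ_apply,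
      Submodule.liftQ_apply]
  have hgH : g ∘ₗ H = h ∘ₗ r := by
    apply LinearMap.ext
    intro y
    obtain ⟨c, rfl⟩ := hq y
    have h1 := LinearMap.congr_fun hH0 c
    have h2 := LinearMap.congr_fun hHq c
    simp only [LinearMap.comp_apply] at h1 h2 ⊢
    rw [h2, h1]
  refine ⟨H ∘ₗ i, ?_⟩
  rw [← LinearMap.comp_assoc, hgH, LinearMap.comp_assoc, hri, LinearMap.comp_id]

end Lifting

section Tower

variable {A : Type u} [CommRing A]

theorem exists_tower {M : ℕ → Type*} {N : ℕ → Type*} [∀ n, AddCommGroup (M n)] [∀ n, Module A (M n)]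
    [∀ n, AddCommGroup (N n)] [∀ n, Module A (N n)]
    (f : ∀ n, M (n + 1) →ₗ[A] M n) (τ : ∀ n, N (n + 1) →ₗ[A] N n) (t0 : M 0 →ₗ[A] N 0)
    (step : ∀ n (tn : M n →ₗ[A] N n), ∃ t' : M (n + 1) →ₗ[A] N (n + 1), τ n ∘ₗ t' = tn ∘ₗ f n) :
    ∃ t : ∀ n, M n →ₗ[A] N n, t 0 = t0 ∧ ∀ n, τ n ∘ₗ t (n + 1) = t n ∘ₗ f n := by
  refine ⟨fun n => Nat.rec (motive := fun n => M n →ₗ[A] N n) t0
    (fun n tn => Classical.choose (step n tn)) n, rfl, fun n => ?_⟩
  exact Classical.choose_spec (step n _)

end Tower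

section Main

variable {A : Type u} [CommRing A] (I : Ideal A)

/-- `A^m / I^(n+1) A^m` -/
abbrev Fq (m n : ℕ) : Type u := (Fin m → A) ⧸ (I ^ (n + 1) • ⊤ : Submodule A (Fin m → A))

theorem Fq_smul_eq_zero (m n : ℕ) (a : A) (ha : a ∈ I ^ (n + 1)) (x : Fq I m n) : a • x = 0 := by
  obtain ⟨y, rfl⟩ := Submodule.mkQ_surjective _ x
  rw [← map_smul, Submodule.mkQ_apply, Submodule.Quotient.mk_eq_zero]
  exact Submodule.smul_mem_smul ha Submodule.mem_top

theorem strictMono_succ : StrictMono (fun n : ℕ => n + 1) := fun _ _ h => Nat.succ_lt_succ h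

variable [IsAdicComplete I A]

theorem projective_of_tower
    (M : ℕ → Type v) [∀ n, AddCommGroup (M n)] [∀ n, Module A (M n)]
    (f : ∀ n, M (n + 1) →ₗ[A] M n)
    (hk : ∀ n, I ^ (n + 1) • (⊤ : Submodule A (M n)) = ⊥)
    (L : Type v) [AddCommGroup L] [Module A L] [Module.Finite A L] [IsAdicComplete I L]
    (π : ∀ n, L →ₗ[A] M n)
    (hπ : ∀ n, f n ∘ₗ π (n + 1) = π n)
    (hπs : Function.Surjective (π 0))
    (hπk : LinearMap.ker (π 0) = I ^ (0 + 1) • (⊤ : Submodule A L))
    (hproj : ∀ n, ∃ (m : ℕ) (i : M n →ₗ[A] (Fin m → A ⧸ I ^ (n + 1)))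
      (r : (Fin m → A ⧸ I ^ (n + 1)) →ₗ[A] M n), r ∘ₗ i = LinearMap.id) :
    Module.Projective A L := by
  classical
  obtain ⟨m, p, hp⟩ := Module.Finite.exists_fin' A L
  have : IsAdicComplete I (Fin m → A) := isAdicComplete_pi I (Fin m)
  have hp0 : (I ^ (0 + 1) • ⊤ : Submodule A (Fin m → A)) ≤ LinearMap.ker (π 0 ∘ₗ p) := by
    rw [Submodule.smul_le]
    intro a ha y _
    rw [LinearMap.mem_ker, map_smul]
    have : a • (π 0 ∘ₗ p) y ∈ I ^ (0 + 1) • (⊤ : Submodule A (M 0)) :=
      Submodule.smul_mem_smul ha Submodule.mem_top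
    rw [hk 0] at this
    exact this
  obtain ⟨pbar0, hpbar0def⟩ : ∃ pbar0 : Fq I m 0 →ₗ[A] M 0,
      pbar0 = Submodule.liftQ _ (π 0 ∘ₗ p) hp0 := ⟨_, rfl⟩
  have hpbar0mk : ∀ y, pbar0 (Submodule.Quotient.mk y) = π 0 (p y) := by
    intro y; rw [hpbar0def]; rfl
  have hpbar0 : Function.Surjective pbar0 := by
    intro y
    obtain ⟨x, rfl⟩ := (hπs.comp hp) y
    exact ⟨Submodule.Quotient.mk x, hpbar0mk x⟩
  obtain ⟨m0, i0, r0, h0⟩ := hproj 0
  obtain ⟨t0, ht0⟩ := exists_lift_of_retract (I ^ (0 + 1)) i0 r0 h0 pbar0 hpbar0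
    (Fq_smul_eq_zero I m 0) LinearMap.id
  obtain ⟨t, ht0', ht⟩ := exists_tower (M := M) (N := Fq I m) f
    (fun n => Submodule.factorPow I (Fin m → A) (strictMono_succ.monotone n.le_succ)) t0 (by
      intro n tn
      obtain ⟨m', i', r', h'⟩ := hproj (n + 1)
      exact exists_lift_of_retract (I ^ (n + 1 + 1)) i' r' h' _ (Submodule.factor_surjective _)
        (Fq_smul_eq_zero I m (n + 1)) (tn ∘ₗ f n))
  obtain ⟨s0, hs0⟩ : ∃ s0 : L →ₗ[A] (Fin m → A), ∀ n,
      Submodule.mkQ (I ^ (n + 1) • ⊤ : Submodule A (Fin m → A)) ∘ₗ s0 = t n ∘ₗ π n := by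
    have hcompat : ∀ {n : ℕ}, Submodule.factorPow I (Fin m → A) (strictMono_succ.monotone n.le_succ) ∘ₗ
        (t (n + 1) ∘ₗ π (n + 1)) = t n ∘ₗ π n := by
      intro n
      rw [← LinearMap.comp_assoc, ht n, LinearMap.comp_assoc, hπ n]
    exact ⟨IsAdicComplete.StrictMono.lift I strictMono_succ (fun n => t n ∘ₗ π n) hcompat,
      fun n => IsAdicComplete.StrictMono.mkQ_comp_lift I strictMono_succ (fun n => t n ∘ₗ π n) hcompat⟩
  -- `p ∘ s0` is the identity modulo `I`
  have hmod : ∀ x : L, p (s0 x) - x ∈ I • (⊤ : Submodule A L) := by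
    intro x
    have h1 : π 0 (p (s0 x)) = π 0 x := by
      have h2 := LinearMap.congr_fun (hs0 0) x
      simp only [LinearMap.comp_apply, Submodule.mkQ_apply] at h2
      rw [← hpbar0mk, h2, ht0']
      exact LinearMap.congr_fun ht0 (π 0 x)
    have h3 : p (s0 x) - x ∈ LinearMap.ker (π 0) := by
      rw [LinearMap.mem_ker, map_sub, h1, sub_self]
    rw [hπk, zero_add, pow_one] at h3
    exact h3
  -- `u = p ∘ s0` is bijective
  have hpow : ∀ (n : ℕ) (x : L), x ∈ I ^ n • (⊤ : Submodule A L) →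
      x - p (s0 x) ∈ I ^ (n + 1) • (⊤ : Submodule A L) := by
    intro n x hx
    refine Submodule.smul_induction_on (p := fun x => x - p (s0 x) ∈ I ^ (n + 1) • (⊤ : Submodule A L))
      hx ?_ ?_
    · intro a ha y _
      have : a • y - p (s0 (a • y)) = a • (y - p (s0 y)) := by
        rw [map_smul, map_smul, smul_sub]
      rw [this, pow_succ, mul_smul]
      refine Submodule.smul_mem_smul ha ?_
      have := hmod y
      rw [← neg_sub]
      exact Submodule.neg_mem _ this
    · intro y z hy hz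
      have : y + z - p (s0 (y + z)) = (y - p (s0 y)) + (z - p (s0 z)) := by
        rw [map_add, map_add]; abel
      rw [this]
      exact Submodule.add_mem _ hy hz
  have hinj : Function.Injective (p ∘ₗ s0) := by
    rw [← LinearMap.ker_eq_bot, eq_bot_iff]
    intro x hx
    rw [LinearMap.mem_ker, LinearMap.comp_apply] at hx
    have hall : ∀ n, x ∈ I ^ n • (⊤ : Submodule A L) := by
      intro n
      induction n with
      | zero => rw [pow_zero, Ideal.one_eq_top, Submodule.top_smul]; exact Submodule.mem_top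
      | succ n ih =>
        have := hpow n x ih
        rw [hx, sub_zero] at this
        exact this
    rw [Submodule.mem_bot]
    apply IsHausdorff.haus (inferInstance : IsHausdorff I L)
    intro n
    rw [SModEq.zero]
    exact hall n
  have hsurj : Function.Surjective (p ∘ₗ s0) := by
    rw [← LinearMap.range_eq_top, eq_top_iff]
    apply Submodule.le_of_le_smul_of_le_jacobson_bot (I := I) (Module.finite_def.mp inferInstance)
      (IsAdicComplete.le_jacobson_bot I)
    intro x _
    have : x = p (s0 x) + (x - p (s0 x)) := by abel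
    rw [this]
    refine Submodule.add_mem_sup ⟨x, rfl⟩ ?_
    have := hmod x
    rw [← neg_sub]
    exact Submodule.neg_mem _ this
  let e := LinearEquiv.ofBijective (p ∘ₗ s0) ⟨hinj, hsurj⟩
  refine Module.Projective.of_split (s0 ∘ₗ e.symm.toLinearMap) p ?_
  apply LinearMap.ext
  intro x
  have : (p ∘ₗ s0) (e.symm x) = x := e.apply_symm_apply x
  simpa using this

end Main

end Groth.Agent.H40
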