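import Mathlib

/-! Helper lemmas (helper40): Burnside's theorem on irreducible matrix algebras over an algebraically
closed field (Lomonosov–Rosenthal proof), the trace form on `End`, and Kolchin's theorem. -/

set_option autoImplicit false
universe u v w

open Module

namespace Groth.Agent.H40

section Burnside

variable {K : Type u} {V : Type v} [Field K] [AddCommGroup V] [Module K V]

/-- The rank one operator `x ↦ φ x • y`. -/
noncomputable def rankOne (φ : Module.Dual K V) (y : V) : Module.End K V :=
  LinearMap.smulRight φ y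

@[simp] theorem rankOne_apply (φ : Module.Dual K V) (y x : V) : rankOne φ y x = φ x • y := rfl

/-- Transitivity of an irreducible algebra of operators. -/
theorem exists_mem_apply_eq (R : Subalgebra K (Module.End K V))
    (hirr : ∀ W : Submodule K V, (∀ T ∈ R, W ≤ W.comap T) → W = ⊥ ∨ W = ⊤)
    {x : V} (hx : x ≠ 0) (y : V) : ∃ T ∈ R, T x = y := by
  let W : Submodule K V := (Subalgebra.toSubmodule R).map (LinearMap.applyₗ x)
  have hW : ∀ T ∈ R, W ≤ W.comap T := by
    rintro T hT _ ⟨T', hT', rfl⟩
    exact ⟨T * T', R.mul_mem hT hT', rfl⟩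
  have hxW : x ∈ W := ⟨1, R.one_mem, rfl⟩
  rcases hirr W hW with h | h
  · rw [h, Submodule.mem_bot] at hxW
    exact (hx hxW).elim
  · have : y ∈ W := h ▸ Submodule.mem_top
    obtain ⟨T, hT, rfl⟩ := this
    exact ⟨T, hT, rfl⟩

variable [IsAlgClosed K] [FiniteDimensional K V]

/-- An irreducible algebra of operators contains an operator of rank one. -/
theorem exists_rank_one [Nontrivial V] (R : Subalgebra K (Module.End K V))
    (hirr : ∀ W : Submodule K V, (∀ T ∈ R, W ≤ W.comap T) → W = ⊥ ∨ W = ⊤) :
    ∃ T ∈ R, finrank K (LinearMap.range T) = 1 := by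
  classical
  let P : ℕ → Prop := fun n => ∃ T ∈ R, T ≠ 0 ∧ finrank K (LinearMap.range T) = n
  have hP : ∃ n, P n := ⟨_, 1, R.one_mem, one_ne_zero, rfl⟩
  obtain ⟨T0, hT0R, hT0ne, hT0r⟩ := Nat.find_spec hP
  have hmin : ∀ T ∈ R, T ≠ 0 → Nat.find hP ≤ finrank K (LinearMap.range T) :=
    fun T hT hne => Nat.find_min' hP ⟨T, hT, hne, rfl⟩
  refine ⟨T0, hT0R, ?_⟩
  by_contra hne1
  have hpos : 0 < finrank K (LinearMap.range T0) := by
    rw [Module.finrank_pos_iff_exists_ne_zero]
    obtain ⟨x, hx⟩ : ∃ x, T0 x ≠ 0 := by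
      by_contra h
      push Not at h
      exact hT0ne (LinearMap.ext h)
    exact ⟨⟨T0 x, x, rfl⟩, fun h => hx (congrArg Subtype.val h)⟩
  have hgt : 1 < finrank K (LinearMap.range T0) := by omega
  -- two independent vectors in the range
  obtain ⟨u1, hu1⟩ : ∃ u1 : LinearMap.range T0, u1 ≠ 0 :=
    Module.finrank_pos_iff_exists_ne_zero.mp hpos
  obtain ⟨u2, hind⟩ := exists_linearIndependent_pair_of_one_lt_finrank hgt hu1
  obtain ⟨x1, hx1⟩ := u1.2
  obtain ⟨x2, hx2⟩ := u2.2
  have hT0x1 : T0 x1 ≠ 0 := fun h => hu1 (Subtype.ext (by rw [← hx1, h]; rfl))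
  obtain ⟨A, hAR, hA⟩ := exists_mem_apply_eq R hirr hT0x1 x2
  -- the operator `T0 * A` on the range of `T0`
  have hstab : LinearMap.range T0 ≤ (LinearMap.range T0).comap (T0 * A) := by
    rintro _ ⟨z, rfl⟩
    exact ⟨A (T0 z), rfl⟩
  have : Nontrivial (LinearMap.range T0) := ⟨⟨u1, 0, hu1⟩⟩
  obtain ⟨c, hc⟩ := Module.End.exists_eigenvalue ((T0 * A).restrict hstab)
  obtain ⟨w, hw⟩ := hc.exists_hasEigenvector
  have hw' : (T0 * A) (w : V) = c • (w : V) := congrArg Subtype.val hw.apply_eq_smul
  -- the new operator
  have hT1R : (T0 * A - c • 1) * T0 ∈ R :=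
    R.mul_mem (R.sub_mem (R.mul_mem hT0R hAR) (R.smul_mem R.one_mem c)) hT0R
  have hT1x1 : ((T0 * A - c • 1) * T0) x1 = (u2 : V) - c • (u1 : V) := by
    simp only [Module.End.mul_apply, LinearMap.sub_apply, LinearMap.smul_apply, Module.End.one_apply]
    rw [hA, hx2, hx1]
  have hT1ne : (T0 * A - c • 1) * T0 ≠ 0 := by
    intro h
    have h0 : (u2 : V) - c • (u1 : V) = 0 := by rw [← hT1x1, h, LinearMap.zero_apply]
    have h1 : (-c) • u1 + (1 : K) • u2 = 0 := by
      apply Subtype.ext
      simp only [Submodule.coe_add, Submodule.coe_smul, Submodule.coe_zero]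
      rw [← h0]; module
    have := LinearIndependent.pair_iff.mp hind (-c) 1 h1
    exact one_ne_zero this.2
  have hlt : finrank K (LinearMap.range ((T0 * A - c • 1) * T0)) < finrank K (LinearMap.range T0) := by
    have hrange : LinearMap.range ((T0 * A - c • 1) * T0) =
        LinearMap.range ((T0 * A - c • 1).domRestrict (LinearMap.range T0)) := by
      rw [LinearMap.range_domRestrict, Module.End.mul_eq_comp, LinearMap.range_comp]
    rw [hrange]
    have hrn := LinearMap.finrank_range_add_finrank_ker
      ((T0 * A - c • 1).domRestrict (LinearMap.range T0))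
    have hker : 0 < finrank K (LinearMap.ker ((T0 * A - c • 1).domRestrict (LinearMap.range T0))) := by
      rw [Module.finrank_pos_iff_exists_ne_zero]
      refine ⟨⟨w, ?_⟩, fun h => hw.2 (congrArg Subtype.val h)⟩
      rw [LinearMap.mem_ker, LinearMap.domRestrict_apply, LinearMap.sub_apply, LinearMap.smul_apply,
        Module.End.one_apply, hw', sub_self]
    omega
  have := hmin _ hT1R hT1ne
  omega

/-- **Burnside's theorem**: an irreducible algebra of operators on a finite-dimensional vector space
over an algebraically closed field is the full endomorphism algebra. -/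
theorem burnside [Nontrivial V] (R : Subalgebra K (Module.End K V))
    (hirr : ∀ W : Submodule K V, (∀ T ∈ R, W ≤ W.comap T) → W = ⊥ ∨ W = ⊤) : R = ⊤ := by
  classical
  obtain ⟨T0, hT0R, hT0r⟩ := exists_rank_one R hirr
  obtain ⟨⟨y0, hy0mem⟩, hy0ne, hy0span⟩ := finrank_eq_one_iff'.mp hT0r
  have hy0 : y0 ≠ 0 := fun h => hy0ne (Subtype.ext h)
  -- a functional with `ψ y0 = 1`
  obtain ⟨ψ, hψ⟩ : ∃ ψ : Module.Dual K V, ψ y0 = 1 := by
    have : ¬ ∀ φ : Module.Dual K V, φ y0 = 0 :=
      fun h => hy0 ((Module.forall_dual_apply_eq_zero_iff K y0).mp h)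
    push Not at this
    obtain ⟨φ, hφ⟩ := this
    exact ⟨(φ y0)⁻¹ • φ, by simp [hφ]⟩
  have hT0 : ∀ x, T0 x = (ψ (T0 x)) • y0 := by
    intro x
    obtain ⟨c, hc⟩ := hy0span ⟨T0 x, x, rfl⟩
    have hc' : c • y0 = T0 x := congrArg Subtype.val hc
    rw [← hc', map_smul, hψ, smul_eq_mul, mul_one]
  have hφ0ne : ∃ x, ψ (T0 x) ≠ 0 := by
    obtain ⟨x, hx⟩ := hy0mem
    refine ⟨x, ?_⟩
    rw [hx, hψ]; exact one_ne_zero
  -- the functionals `ψ ∘ T0 ∘ B`
  let Φ : Submodule K (Module.Dual K V) :=
    (Subalgebra.toSubmodule R).map ((LinearMap.llcomp K V V K (ψ ∘ₗ T0)))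
  have hΦ : Φ = ⊤ := by
    have hW : ∀ T ∈ R, Φ.dualCoannihilator ≤ Φ.dualCoannihilator.comap T := by
      intro C hC x hx
      rw [Submodule.mem_comap, Submodule.mem_dualCoannihilator]
      rintro _ ⟨B, hB, rfl⟩
      rw [Submodule.mem_dualCoannihilator] at hx
      have := hx _ ⟨B * C, R.mul_mem hB hC, rfl⟩
      simpa using this
    rcases hirr _ hW with h | h
    · rw [← Subspace.dualCoannihilator_dualAnnihilator_eq (W := Φ), h, Submodule.dualAnnihilator_bot]
    · exfalso
      obtain ⟨x, hx⟩ := hφ0ne
      have hxmem : x ∈ Φ.dualCoannihilator := h ▸ Submodule.mem_top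
      rw [Submodule.mem_dualCoannihilator] at hxmem
      have := hxmem _ ⟨1, R.one_mem, rfl⟩
      apply hx
      simpa using this
  -- all rank one operators are in `R`
  have hrank1 : ∀ (φ : Module.Dual K V) (y : V), rankOne φ y ∈ R := by
    intro φ y
    obtain ⟨A, hAR, hA⟩ := exists_mem_apply_eq R hirr hy0 y
    have hφΦ : φ ∈ Φ := hΦ ▸ Submodule.mem_top
    obtain ⟨B, hBR, hB⟩ := hφΦ
    have : rankOne φ y = A * T0 * B := by
      apply LinearMap.ext
      intro x
      have hBx : ψ (T0 (B x)) = φ x := by
        have := LinearMap.congr_fun hB x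
        simpa using this
      rw [rankOne_apply, Module.End.mul_apply, Module.End.mul_apply, hT0 (B x), map_smul, hA, hBx]
    rw [this]
    exact R.mul_mem (R.mul_mem hAR hT0R) hBR
  rw [eq_top_iff]
  intro T _
  let b := Module.finBasis K V
  have hT : T = ∑ i, rankOne (b.coord i) (T (b i)) := by
    apply LinearMap.ext
    intro x
    rw [LinearMap.sum_apply]
    simp only [rankOne_apply, Basis.coord_apply]
    conv_lhs => rw [← b.sum_repr x, map_sum]
    simp only [map_smul]
  rw [hT]
  exact R.sum_mem (fun i _ => hrank1 _ _)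

end Burnside

section Trace

variable {K : Type u} {V : Type v} [Field K] [AddCommGroup V] [Module K V] [FiniteDimensional K V]

theorem trace_rankOne (φ : Module.Dual K V) (y : V) : LinearMap.trace K V (rankOne φ y) = φ y := by
  have h : rankOne φ y = dualTensorHom K V V (φ ⊗ₜ[K] y) := by
    apply LinearMap.ext; intro x; simp
  rw [h, LinearMap.trace_eq_contract_apply, contractLeft_apply]

/-- The trace form on `End K V` is nondegenerate. -/
theorem eq_zero_of_trace_mul_eq_zero (N : Module.End K V)
    (h : ∀ X : Module.End K V, LinearMap.trace K V (N * X) = 0) : N = 0 := by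
  apply LinearMap.ext
  intro y
  rw [LinearMap.zero_apply, ← Module.forall_dual_apply_eq_zero_iff K]
  intro φ
  have h1 := h (rankOne φ y)
  have h2 : N * rankOne φ y = rankOne φ (N y) := by
    apply LinearMap.ext; intro x; simp
  rw [h2, trace_rankOne] at h1
  exact h1

theorem trace_of_isNilpotent_sub_one (T : Module.End K V) (hT : IsNilpotent (T - 1)) :
    LinearMap.trace K V T = (finrank K V : K) := by
  have h1 : T = (T - 1) + 1 := by abel
  rw [h1, map_add, LinearMap.trace_one, (LinearMap.isNilpotent_trace_of_isNilpotent hT).eq_zero,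
    zero_add]

end Trace

section Kolchin

variable {K : Type u} [Field K] [IsAlgClosed K]

/-- Kolchin's theorem over an algebraically closed field, for a monoid of unipotent operators. -/
theorem kolchin_aux : ∀ (n : ℕ) (V : Type v) [AddCommGroup V] [Module K V] [FiniteDimensional K V]
    [Nontrivial V], finrank K V = n → ∀ S : Submonoid (Module.End K V),
    (∀ T ∈ S, IsNilpotent (T - 1)) → ∃ v : V, v ≠ 0 ∧ ∀ T ∈ S, T v = v := by
  intro n
  induction n using Nat.strong_induction_on with
  | _ n ih =>
    intro V _ _ _ _ hn S hS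
    by_cases hred : ∃ W : Submodule K V, (∀ T ∈ S, W ≤ W.comap T) ∧ W ≠ ⊥ ∧ W ≠ ⊤
    · obtain ⟨W, hW, hW0, hW1⟩ := hred
      have hlt : finrank K W < n := hn ▸ Submodule.finrank_lt hW1
      have : Nontrivial W := (Submodule.nontrivial_iff_ne_bot).mpr hW0
      let SW : Submonoid (Module.End K W) :=
        { carrier := {T' | ∃ T ∈ S, ∀ w : W, (T' w : V) = T w}
          one_mem' := ⟨1, S.one_mem, fun w => rfl⟩
          mul_mem' := by
            rintro T1' T2' ⟨T1, hT1, h1⟩ ⟨T2, hT2, h2⟩
            refine ⟨T1 * T2, S.mul_mem hT1 hT2, fun w => ?_⟩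
            rw [Module.End.mul_apply, h1, h2, Module.End.mul_apply] }
      have hSW : ∀ T' ∈ SW, IsNilpotent (T' - 1) := by
        rintro T' ⟨T, hT, h⟩
        obtain ⟨m, hm⟩ := hS T hT
        refine ⟨m, ?_⟩
        have hpow : ∀ (j : ℕ) (w : W), (((T' - 1) ^ j) w : V) = ((T - 1) ^ j) w := by
          intro j
          induction j with
          | zero => intro w; simp
          | succ j ihj =>
            intro w
            rw [pow_succ, pow_succ, Module.End.mul_apply, Module.End.mul_apply, ihj,
              LinearMap.sub_apply, LinearMap.sub_apply, Module.End.one_apply, Module.End.one_apply,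
              Submodule.coe_sub, h]
        apply LinearMap.ext
        intro w
        apply Subtype.ext
        rw [hpow, hm]
        rfl
      obtain ⟨w, hw0, hw⟩ := ih _ hlt W rfl SW hSW
      refine ⟨w, fun h => hw0 (Subtype.ext h), fun T hT => ?_⟩
      have hmem : T.restrict (hW T hT) ∈ SW := ⟨T, hT, fun w => rfl⟩
      have := hw _ hmem
      exact congrArg Subtype.val this
    · -- irreducible case
      push Not at hred
      have hirr : ∀ W : Submodule K V,
          (∀ T ∈ Algebra.adjoin K (S : Set (Module.End K V)), W ≤ W.comap T) → W = ⊥ ∨ W = ⊤ := by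
        intro W hW
        by_contra hcon
        push Not at hcon
        exact hcon.2 (hred W (fun T hT => hW T (Algebra.subset_adjoin hT)) hcon.1)
      have htop := burnside _ hirr
      have hspan : Submodule.span K (S : Set (Module.End K V)) = ⊤ := by
        have := Algebra.adjoin_eq_span K (S : Set (Module.End K V))
        rw [Submonoid.closure_eq, htop] at this
        rw [← this]
        rfl
      have htriv : ∀ T ∈ S, T = 1 := by
        intro T hT
        have : T - 1 = 0 := by
          apply eq_zero_of_trace_mul_eq_zero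
          intro X
          have hX : X ∈ Submodule.span K (S : Set (Module.End K V)) := hspan ▸ Submodule.mem_top
          refine Submodule.span_induction (p := fun X _ => LinearMap.trace K V ((T - 1) * X) = 0)
            ?_ ?_ ?_ ?_ hX
          · intro X hXS
            rw [sub_mul, one_mul, map_sub,
              trace_of_isNilpotent_sub_one _ (hS _ (S.mul_mem hT hXS)),
              trace_of_isNilpotent_sub_one _ (hS _ hXS), sub_self]
          · rw [mul_zero, map_zero]
          · intro X Y _ _ hX hY
            rw [mul_add, map_add, hX, hY, add_zero]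
          · intro a X _ hX
            rw [mul_smul_comm, map_smul, hX, smul_zero]
        exact sub_eq_zero.mp this
      obtain ⟨v, hv⟩ := exists_ne (0 : V)
      exact ⟨v, hv, fun T hT => by rw [htriv T hT, Module.End.one_apply]⟩

end Kolchin

section Descent

variable {k : Type u} [Field k] {V : Type v} [AddCommGroup V] [Module k V]

open TensorProduct in
theorem equivFinsupp_baseChange {K : Type w} [Field K] [Algebra k K] {ι : Type*} [DecidableEq ι]
    (b : Basis ι k K)
    (T : Module.End k V) (x : K ⊗[k] V) (i : ι) :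
    TensorProduct.equivFinsuppOfBasisLeft b (T.baseChange K x) i =
      T (TensorProduct.equivFinsuppOfBasisLeft b x i) := by
  induction x using TensorProduct.induction_on with
  | zero => simp
  | tmul c v =>
    rw [LinearMap.baseChange_tmul, TensorProduct.equivFinsuppOfBasisLeft_apply_tmul_apply,
      TensorProduct.equivFinsuppOfBasisLeft_apply_tmul_apply, map_smul]
  | add x y hx hy => simp only [map_add, Finsupp.add_apply, hx, hy]

/-- **Kolchin's theorem** for a monoid of unipotent operators over an arbitrary field. -/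
theorem kolchin [FiniteDimensional k V] [Nontrivial V] (S : Submonoid (Module.End k V))
    (hS : ∀ T ∈ S, IsNilpotent (T - 1)) : ∃ v : V, v ≠ 0 ∧ ∀ T ∈ S, T v = v := by
  classical
  let K := AlgebraicClosure k
  have hnt : Nontrivial (TensorProduct k K V) := by
    apply Module.nontrivial_of_finrank_pos (R := K)
    rw [Module.finrank_baseChange]
    exact Module.finrank_pos
  let S' : Submonoid (Module.End K (TensorProduct k K V)) :=
    S.map (Module.End.baseChangeHom k K V : Module.End k V →* Module.End K (TensorProduct k K V))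
  have hS' : ∀ T' ∈ S', IsNilpotent (T' - 1) := by
    rintro _ ⟨T, hT, rfl⟩
    have := (hS T hT).map (Module.End.baseChangeHom k K V)
    rw [map_sub, map_one] at this
    exact this
  obtain ⟨x, hx0, hx⟩ := kolchin_aux (K := K) _ (TensorProduct k K V) rfl S' hS'
  let b := Module.Free.chooseBasis k K
  have hex : ∃ i, TensorProduct.equivFinsuppOfBasisLeft b x i ≠ 0 := by
    by_contra h
    push Not at h
    apply hx0
    apply (TensorProduct.equivFinsuppOfBasisLeft b).injective
    rw [map_zero]
    ext i
    exact h i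
  obtain ⟨i, hi⟩ := hex
  refine ⟨_, hi, fun T hT => ?_⟩
  have h1 := hx _ ⟨T, hT, rfl⟩
  have h2 : (Module.End.baseChangeHom k K V : Module.End k V →* _) T = T.baseChange K := rfl
  rw [h2] at h1
  rw [← equivFinsupp_baseChange, h1]

end Descent

end Groth.Agent.H40
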