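import Mathlib
import Groth.Agent.Lib.Helper75.CompletedModules

/-! # Chevalley's lemma for finite modules over a complete Noetherian local ring (helper40)

A descending chain of submodules with zero intersection is cofinal with the `𝔫`-adic filtration.
(Module version of `Groth.Agent.Lib.Helper31.Zariski.chevalley`, same proof.) -/

set_option autoImplicit false
universe u v

namespace Groth.Agent.H40.ChevalleyMod

open IsLocalRing

variable {R : Type u} [CommRing R] [IsNoetherianRing R] [IsLocalRing R]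
  {Q : Type v} [AddCommGroup Q] [Module R Q] [Module.Finite R Q]

lemma isArtinian_quot_pow (j : ℕ) :
    IsArtinian R (Q ⧸ ((maximalIdeal R) ^ j • ⊤ : Submodule R Q)) := by
  have h1 : IsArtinianRing (R ⧸ (maximalIdeal R) ^ j) := by
    rcases Nat.eq_zero_or_pos j with rfl | hj
    · have : Subsingleton (R ⧸ (maximalIdeal R) ^ 0) := by
        rw [pow_zero, Ideal.one_eq_top]; exact Ideal.Quotient.subsingleton_iff.mpr rfl
      infer_instance
    · apply IsLocalRing.quotient_artinian_of_mem_minimalPrimes_of_isLocalRing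
      refine ⟨⟨inferInstance, Ideal.pow_le_self hj.ne'⟩, fun p hp _ => ?_⟩
      have := hp.1
      exact Ideal.IsPrime.le_of_pow_le hp.2
  have h2 : Module.Finite (R ⧸ (maximalIdeal R) ^ j)
      (Q ⧸ ((maximalIdeal R) ^ j • ⊤ : Submodule R Q)) :=
    Module.Finite.of_restrictScalars_finite R _ _
  have h3 : IsArtinian (R ⧸ (maximalIdeal R) ^ j)
      (Q ⧸ ((maximalIdeal R) ^ j • ⊤ : Submodule R Q)) := inferInstance
  exact isArtinian_of_surjective_algebraMap (R := R ⧸ (maximalIdeal R) ^ j)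
    (Ideal.Quotient.mk_surjective)

lemma exists_stab (a : ℕ → Submodule R Q) (ha : Antitone a) (j : ℕ) :
    ∃ N, ∀ n, N ≤ n → a n ⊔ (maximalIdeal R) ^ j • ⊤ = a N ⊔ (maximalIdeal R) ^ j • ⊤ := by
  have := isArtinian_quot_pow (R := R) (Q := Q) j
  set P : Submodule R Q := (maximalIdeal R) ^ j • ⊤ with hP
  let f : ℕ →o (Submodule R (Q ⧸ P))ᵒᵈ :=
    ⟨fun n => OrderDual.toDual ((a n).map P.mkQ), fun p q h => Submodule.map_mono (ha h)⟩
  obtain ⟨N, hN⟩ := IsArtinian.monotone_stabilizes f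
  refine ⟨N, fun n hn => ?_⟩
  have h := hN n hn
  have key : ∀ W : Submodule R Q, W ⊔ P = (W.map P.mkQ).comap P.mkQ := by
    intro W
    rw [Submodule.comap_map_eq, Submodule.ker_mkQ]
  rw [key, key]
  exact congrArg (Submodule.comap _) (congrArg OrderDual.ofDual h).symm

lemma mem_of_forall_mem_sup_pow (W : Submodule R Q) (x : Q)
    (hx : ∀ j, x ∈ W ⊔ ((maximalIdeal R) ^ j • ⊤ : Submodule R Q)) : x ∈ W := by
  have h := Ideal.iInf_pow_smul_eq_bot_of_isLocalRing (R := R) (M := Q ⧸ W) (maximalIdeal R)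
    (Ideal.IsMaximal.ne_top inferInstance)
  have hmem : W.mkQ x ∈ (⨅ i : ℕ, (maximalIdeal R) ^ i • ⊤ : Submodule R (Q ⧸ W)) := by
    rw [Submodule.mem_iInf]
    intro j
    obtain ⟨y, hy, z, hz, rfl⟩ := Submodule.mem_sup.mp (hx j)
    have hy0 : W.mkQ y = 0 := (Submodule.Quotient.mk_eq_zero W).mpr hy
    rw [map_add, hy0, zero_add]
    have : ((maximalIdeal R) ^ j • ⊤ : Submodule R Q).map W.mkQ ≤
        ((maximalIdeal R) ^ j • ⊤ : Submodule R (Q ⧸ W)) := by
      rw [Submodule.map_smul'']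
      exact smul_mono_right _ le_top
    exact this ⟨z, hz, rfl⟩
  rw [h] at hmem
  exact (Submodule.Quotient.mk_eq_zero W).mp ((Submodule.mem_bot _).mp hmem)

/-- **Chevalley's lemma** for finite modules. -/
theorem chevalley [IsAdicComplete (maximalIdeal R) R] (a : ℕ → Submodule R Q) (ha : Antitone a)
    (hbot : ⨅ n, a n = ⊥) (k : ℕ) : ∃ n, a n ≤ ((maximalIdeal R) ^ k • ⊤ : Submodule R Q) := by
  have hcompl : IsAdicComplete (maximalIdeal R) Q :=
    Groth.Agent.Lib.Helper75.CompletedModules.isAdicComplete_of_finite Q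
  set m := maximalIdeal R with hm
  by_contra hcon
  push Not at hcon
  let P : ℕ → Submodule R Q := fun j => m ^ j • ⊤
  have hPanti : Antitone P := fun i j hij =>
    Submodule.smul_mono_left (Ideal.pow_le_pow_right hij)
  let b : ℕ → Submodule R Q := fun j => ⨅ n, a n ⊔ P j
  choose N hN using exists_stab a ha
  have hb : ∀ j n, N j ≤ n → b j = a n ⊔ P j := by
    intro j n hn
    apply le_antisymm (iInf_le _ n)
    refine le_iInf fun n' => ?_
    rcases le_total n n' with h | h
    · change a n ⊔ m ^ j • ⊤ ≤ a n' ⊔ m ^ j • ⊤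
      rw [hN j n' (hn.trans h), ← hN j n hn]
    · exact sup_le_sup_right (ha h) _
  have hb_anti : Antitone b := fun i j hij =>
    iInf_mono fun n => sup_le_sup_left (hPanti hij) _
  have hmb : ∀ j, P j ≤ b j := fun j => le_iInf fun n => le_sup_right
  have hab : ∀ j, ∃ n, a n ≤ b j := fun j =>
    ⟨N j, by rw [hb j (N j) le_rfl]; exact le_sup_left⟩
  have hstep : ∀ j, b j ≤ b (j + 1) ⊔ P j := by
    intro j
    rw [hb j (max (N j) (N (j + 1))) (le_max_left _ _),
      hb (j + 1) (max (N j) (N (j + 1))) (le_max_right _ _)]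
    exact sup_le (le_sup_of_le_left le_sup_left) le_sup_right
  have hbbot : ⨅ j, b j = ⊥ := by
    rw [eq_bot_iff, ← hbot]
    refine le_iInf fun n => ?_
    intro x hx
    have hx' : ∀ j, x ∈ a n ⊔ P j := fun j =>
      (Submodule.mem_iInf _).mp ((Submodule.mem_iInf _).mp hx j) n
    exact mem_of_forall_mem_sup_pow (a n) x hx'
  obtain ⟨n0, hn0⟩ := hab k
  obtain ⟨x0, hx0a, hx0⟩ := SetLike.not_le_iff_exists.mp (hcon n0)
  have hx0b : x0 ∈ b k := hn0 hx0a
  have hnext : ∀ j (x : Q), x ∈ b j → ∃ y, y ∈ b (j + 1) ∧ x - y ∈ P j := by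
    intro j x hx
    obtain ⟨y, hy, z, hz, rfl⟩ := Submodule.mem_sup.mp (hstep j hx)
    exact ⟨y, hy, by simpa using hz⟩
  choose g hg1 hg2 using hnext
  let s : (i : ℕ) → {x : Q // x ∈ b (k + i)} := fun i =>
    Nat.rec ⟨x0, hx0b⟩ (fun i p => ⟨g (k + i) p.1 p.2, hg1 (k + i) p.1 p.2⟩) i
  have hs1 : ∀ i, (s i).1 - (s (i + 1)).1 ∈ P (k + i) := fun i => hg2 (k + i) (s i).1 (s i).2
  have hcauchy : ∀ i n, i ≤ n → (s i).1 - (s n).1 ∈ P (k + i) := by
    intro i n hin
    induction n, hin using Nat.le_induction with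
    | base => simp
    | succ n hin ih =>
      have : (s i).1 - (s (n + 1)).1 = ((s i).1 - (s n).1) + ((s n).1 - (s (n + 1)).1) := by abel
      rw [this]
      exact Submodule.add_mem _ ih (hPanti (by omega) (hs1 n))
  obtain ⟨L, hL⟩ := IsPrecomplete.prec' (I := m) (M := Q) (fun i => (s i).1)
    (fun {p q} hpq => by
      rw [SModEq.sub_mem]
      exact hPanti (Nat.le_add_left _ _) (hcauchy p q hpq))
  have hL' : ∀ n, (s n).1 - L ∈ P n := fun n => by
    have := hL n
    rwa [SModEq.sub_mem] at this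
  have hLb : ∀ j, L ∈ b j := by
    intro j
    have h1 : (s j).1 ∈ b j := hb_anti (Nat.le_add_left j k) (s j).2
    have h2 : (s j).1 - L ∈ b j := hmb j (hL' j)
    have : L = (s j).1 - ((s j).1 - L) := by abel
    rw [this]; exact Submodule.sub_mem _ h1 h2
  have hL0 : L = 0 := by
    have : L ∈ ⨅ j, b j := (Submodule.mem_iInf _).mpr hLb
    rw [hbbot] at this; exact this
  apply hx0
  have h1 : x0 - (s k).1 ∈ P k := by
    have h0 := hcauchy 0 k (Nat.zero_le _)
    have hs0 : (s 0).1 = x0 := rfl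
    rw [hs0, add_zero] at h0
    exact h0
  have h2 := hL' k
  rw [hL0, sub_zero] at h2
  have : x0 = (x0 - (s k).1) + (s k).1 := by abel
  rw [this]; exact Submodule.add_mem _ h1 h2

end Groth.Agent.H40.ChevalleyMod
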