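import Mathlib
import Groth.Prelude.Def_CoactBr
import Groth.Prelude.Def_HopfRep

/-! # Class functions on an affine group scheme are the cocommutative elements (helper40)

For a commutative Hopf algebra `A` over `R`, an element `f : A` satisfies `f (x g x⁻¹) = f g` for all
points `x, g` of `Spec A` with values in any `R`-scheme iff `Δ f` is symmetric. -/

set_option autoImplicit false
universe u
open CategoryTheory MonoidalCategory CartesianMonoidalCategory MonObj GrpObj AlgebraicGeometry Opposite
open CoactBr Limits TensorProduct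

namespace Groth.Agent.H40.ClassFn

noncomputable local instance braidedAlgSpecOf' (R : Type u) [CommRing R] :
    (algSpec (CommRingCat.of R)).Braided :=
  braidedAlgSpec

section Ev

variable {R : Type u} [CommRing R] {A : Type u} [CommRing A] [Algebra R A]

/-- the value of the function `f` at the point `h`. -/
noncomputable def ev {T : Over (Spec (CommRingCat.of R))} (h : T ⟶ sp R A) (f : A) : Γ(T.left, ⊤) :=
  h.left.appTop ((Scheme.ΓSpecIso (CommRingCat.of A)).inv f)

theorem ev_comp {T T' : Over (Spec (CommRingCat.of R))} (k : T' ⟶ T) (h : T ⟶ sp R A) (f : A) :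
    ev (k ≫ h) f = k.left.appTop (ev h f) := by
  simp [ev]

theorem ev_pt {K : Type u} [CommRing K] [Algebra R K] (φ : A →ₐ[R] K) (f : A) :
    ev (pt φ) f = (Scheme.ΓSpecIso (CommRingCat.of K)).inv (φ f) := by
  rw [ev, pt_left]
  have := Scheme.ΓSpecIso_inv_naturality (CommRingCat.ofHom φ.toRingHom)
  exact (congrArg (fun m => m f) this).symm

theorem ev_comp_pt {T : Over (Spec (CommRingCat.of R))} {B : Type u} [CommRing B] [Algebra R B]
    (k : T ⟶ sp R B) (φ : A →ₐ[R] B) (f : A) : ev (k ≫ pt φ) f = ev k (φ f) := by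
  rw [ev_comp, ev_pt]
  rfl

end Ev

variable {R : Type u} [CommRing R] {A : Type u} [CommRing A] [HopfAlgebra R A]

/-- the pair `(y, z)` as a point of `Spec (A ⊗ A)`. -/
noncomputable def pair {T : Over (Spec (CommRingCat.of R))} (y z : T ⟶ sp R A) :
    T ⟶ sp R (A ⊗[R] A) :=
  lift y z ≫ Functor.LaxMonoidal.μ (algSpec (CommRingCat.of R)) (op (.of R A)) (op (.of R A))

theorem mul_eq {T : Over (Spec (CommRingCat.of R))} (y z : T ⟶ sp R A) :
    y * z = pair y z ≫ pt (Bialgebra.comulAlgHom R A) :=
  (Hom.mul_def y z).trans (Category.assoc _ _ _).symm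

theorem pair_swap {T : Over (Spec (CommRingCat.of R))} (y z : T ⟶ sp R A) :
    pair z y = pair y z ≫ pt (Algebra.TensorProduct.comm R A A).toAlgHom := by
  have h1 : lift z y = lift y z ≫ (β_ (sp R A) (sp R A)).hom := (lift_braiding_hom y z).symm
  have hb : (algSpec (CommRingCat.of R)).map
      (β_ (op (CommAlgCat.of R A)) (op (CommAlgCat.of R A))).hom =
      pt (Algebra.TensorProduct.comm R A A).toAlgHom := rfl
  have e0 : Functor.LaxMonoidal.μ (algSpec (CommRingCat.of R)) (op (.of R A)) (op (.of R A)) ≫
      (algSpec (CommRingCat.of R)).map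
        (β_ (op (CommAlgCat.of R A)) (op (CommAlgCat.of R A))).hom =
      (β_ (sp R A) (sp R A)).hom ≫
        Functor.LaxMonoidal.μ (algSpec (CommRingCat.of R)) (op (.of R A)) (op (.of R A)) :=
    Functor.LaxBraided.braided _ _
  have e3 : (β_ (sp R A) (sp R A)).hom ≫
        Functor.LaxMonoidal.μ (algSpec (CommRingCat.of R)) (op (.of R A)) (op (.of R A)) =
      Functor.LaxMonoidal.μ (algSpec (CommRingCat.of R)) (op (.of R A)) (op (.of R A)) ≫
      pt (Algebra.TensorProduct.comm R A A).toAlgHom := by
    rw [← hb]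
    exact e0.symm
  exact Eq.trans (congrArg (fun m => m ≫
      Functor.LaxMonoidal.μ (algSpec (CommRingCat.of R)) (op (.of R A)) (op (.of R A))) h1)
    (Eq.trans (Category.assoc _ _ _)
      (Eq.trans (congrArg (fun m => lift y z ≫ m) e3) (Category.assoc _ _ _).symm))

theorem mul_eq' {T : Over (Spec (CommRingCat.of R))} (y z : T ⟶ sp R A) :
    z * y = pair y z ≫ pt ((Algebra.TensorProduct.comm R A A).toAlgHom.comp
        (Bialgebra.comulAlgHom R A)) := by
  rw [mul_eq, pair_swap, Category.assoc, ← pt_comp]

/-- `f (y z) = f (z y)` for cocommutative `f`. -/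
theorem ev_mul_comm {T : Over (Spec (CommRingCat.of R))} (y z : T ⟶ sp R A) (f : A)
    (hf : Algebra.TensorProduct.comm R A A (Coalgebra.comul (R := R) f) = Coalgebra.comul (R := R) f) :
    ev (y * z) f = ev (z * y) f := by
  rw [mul_eq, mul_eq', ev_comp_pt, ev_comp_pt]
  congr 1
  exact hf.symm

/-- **Class functions are the cocommutative elements.** -/
theorem classFn_iff (f : A) :
    (∀ (T : Over (Spec (CommRingCat.of R))) (x g : T ⟶ sp R A),
      (x * g * x⁻¹).left.appTop ((Scheme.ΓSpecIso (CommRingCat.of A)).inv f) =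
        g.left.appTop ((Scheme.ΓSpecIso (CommRingCat.of A)).inv f)) ↔
      Algebra.TensorProduct.comm R A A (Coalgebra.comul (R := R) f) = Coalgebra.comul (R := R) f := by
  constructor
  · intro h
    let a : sp R (A ⊗[R] A) ⟶ sp R A := pt Algebra.TensorProduct.includeLeft
    let b : sp R (A ⊗[R] A) ⟶ sp R A := pt Algebra.TensorProduct.includeRight
    have h1 := h _ a (b * a)
    have e : a * (b * a) * a⁻¹ = a * b := by group
    rw [e] at h1
    change ev (a * b) f = ev (b * a) f at h1
    rw [pt_mul_pt, pt_mul_pt, ev_pt, ev_pt] at h1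
    have hinj : Function.Injective
        ((Scheme.ΓSpecIso (CommRingCat.of (A ⊗[R] A))).inv : _ → _) :=
      ((ConcreteCategory.isIso_iff_bijective _).mp inferInstance).1
    have h2 := hinj h1
    simp only [AlgHom.comp_apply, Bialgebra.comulAlgHom_apply] at h2
    have l1 : ∀ t : A ⊗[R] A, Algebra.TensorProduct.lift
        (Algebra.TensorProduct.includeLeft : A →ₐ[R] A ⊗[R] A)
        (Algebra.TensorProduct.includeRight : A →ₐ[R] A ⊗[R] A) (fun _ _ => Commute.all _ _) t = t := by
      intro t
      induction t using TensorProduct.induction_on with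
      | zero => simp
      | tmul x y => simp
      | add x y hx hy => rw [map_add, hx, hy]
    have l2 : ∀ t : A ⊗[R] A, Algebra.TensorProduct.lift
        (Algebra.TensorProduct.includeRight : A →ₐ[R] A ⊗[R] A)
        (Algebra.TensorProduct.includeLeft : A →ₐ[R] A ⊗[R] A) (fun _ _ => Commute.all _ _) t =
          Algebra.TensorProduct.comm R A A t := by
      intro t
      induction t using TensorProduct.induction_on with
      | zero => simp
      | tmul x y => simp
      | add x y hx hy => rw [map_add, map_add, hx, hy]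
    rw [l1, l2] at h2
    exact h2.symm
  · intro hf T x g
    change ev (x * g * x⁻¹) f = ev g f
    rw [_root_.mul_assoc, ev_mul_comm x (g * x⁻¹) f hf, inv_mul_cancel_right]

end Groth.Agent.H40.ClassFn
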