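import Groth.Agent.Lib.Helper93.Comod

/-! Helper lemmas (helper40): comodules over a coalgebra (over a commutative ring) which is an
internal direct sum of subcoalgebras. -/

set_option autoImplicit false
universe u v w w'

open TensorProduct

namespace Groth.Agent.H40

open Groth.Agent.Lib.Helper93.Comod

section DualActRing

variable {R : Type u} [CommRing R] {C : Type v} [AddCommGroup C] [Module R C] [Coalgebra R C]
  {V : Type w'} [AddCommGroup V] [Module R V] [HopfRep.Comod R C V]

/-- `(id ⊗ φ) ∘ Δ` on the coalgebra. -/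
noncomputable def rAct (φ : C →ₗ[R] R) : C →ₗ[R] C :=
  (TensorProduct.rid R C).toLinearMap ∘ₗ φ.lTensor C ∘ₗ Coalgebra.comul (R := R) (A := C)

/-- `(φ ⊗ id) ∘ Δ` on the coalgebra. -/
noncomputable def lAct (φ : C →ₗ[R] R) : C →ₗ[R] C :=
  (TensorProduct.lid R C).toLinearMap ∘ₗ φ.rTensor C ∘ₗ Coalgebra.comul (R := R) (A := C)

omit [Coalgebra R C] [HopfRep.Comod R C V] in
theorem rid_lTensor_assoc_symm (φ : C →ₗ[R] R) (u : V ⊗[R] (C ⊗[R] C)) :
    (TensorProduct.rid R (V ⊗[R] C)) (φ.lTensor (V ⊗[R] C) ((TensorProduct.assoc R V C C).symm u)) =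
      ((TensorProduct.rid R C).toLinearMap ∘ₗ φ.lTensor C).lTensor V u := by
  induction u using TensorProduct.induction_on with
  | zero => simp
  | tmul x t =>
    induction t using TensorProduct.induction_on with
    | zero => simp
    | tmul c d => simp [TensorProduct.tmul_smul]
    | add a b ha hb => simp only [TensorProduct.tmul_add, map_add, ha, hb]
  | add a b ha hb => simp only [map_add, ha, hb]

omit [Coalgebra R C] [HopfRep.Comod R C V] in
theorem rTensor_rid_lTensor_assoc_symm (φ : C →ₗ[R] R) (u : V ⊗[R] (C ⊗[R] C)) :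
    ((TensorProduct.rid R V).toLinearMap ∘ₗ φ.lTensor V).rTensor C
        ((TensorProduct.assoc R V C C).symm u) =
      ((TensorProduct.lid R C).toLinearMap ∘ₗ φ.rTensor C).lTensor V u := by
  induction u using TensorProduct.induction_on with
  | zero => simp
  | tmul x t =>
    induction t using TensorProduct.induction_on with
    | zero => simp
    | tmul c d => simp [TensorProduct.smul_tmul]
    | add a b ha hb => simp only [TensorProduct.tmul_add, map_add, ha, hb]
  | add a b ha hb => simp only [map_add, ha, hb]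

theorem coact_rTensor_coact' (v : V) :
    (HopfRep.Comod.coact (k := R) (A := C) (V := V)).rTensor C
        (HopfRep.Comod.coact (k := R) (A := C) v) =
      (TensorProduct.assoc R V C C).symm
        ((Coalgebra.comul (R := R) (A := C)).lTensor V (HopfRep.Comod.coact (k := R) (A := C) v)) := by
  have hco := LinearMap.congr_fun (HopfRep.Comod.coassoc (k := R) (A := C) (V := V)) v
  simp only [LinearMap.comp_apply, LinearEquiv.coe_coe] at hco
  rw [← hco, LinearEquiv.symm_apply_apply]

/-- `ρ (φ · v) = (id ⊗ rAct φ)(ρ v)`. -/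
theorem coact_dualAct (φ : C →ₗ[R] R) (v : V) :
    HopfRep.Comod.coact (k := R) (A := C) (dualAct C V φ v) =
      (rAct φ).lTensor V (HopfRep.Comod.coact (k := R) (A := C) v) := by
  rw [dualAct_apply, ← rid_lTensor_rTensor, coact_rTensor_coact', rid_lTensor_assoc_symm, rAct,
    ← LinearMap.comp_assoc, LinearMap.lTensor_comp, LinearMap.comp_apply]
  simp only [LinearMap.lTensor_comp, LinearMap.comp_apply]

/-- `((φ · -) ⊗ id)(ρ v) = (id ⊗ lAct φ)(ρ v)`. -/
theorem rTensor_dualAct_coact (φ : C →ₗ[R] R) (v : V) :
    (dualAct C V φ).rTensor C (HopfRep.Comod.coact (k := R) (A := C) v) =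
      (lAct φ).lTensor V (HopfRep.Comod.coact (k := R) (A := C) v) := by
  have e : dualAct C V φ = ((TensorProduct.rid R V).toLinearMap ∘ₗ φ.lTensor V) ∘ₗ
      HopfRep.Comod.coact (k := R) (A := C) := rfl
  rw [e, LinearMap.rTensor_comp, LinearMap.comp_apply, coact_rTensor_coact',
    rTensor_rid_lTensor_assoc_symm, lAct, ← LinearMap.comp_assoc, LinearMap.lTensor_comp,
    LinearMap.comp_apply]
  simp only [LinearMap.lTensor_comp, LinearMap.comp_apply]

theorem coact_injective : Function.Injective (HopfRep.Comod.coact (k := R) (A := C) (V := V)) := by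
  intro x y h
  have hc := HopfRep.Comod.counit_comp (k := R) (A := C) (V := V)
  have hx := LinearMap.congr_fun hc x
  have hy := LinearMap.congr_fun hc y
  simp only [LinearMap.comp_apply, LinearMap.flip_apply, TensorProduct.mk_apply] at hx hy
  rw [h, hy] at hx
  have := congrArg (TensorProduct.rid R V) hx
  simpa using this.symm

end DualActRing

section Decomp

variable {R : Type u} [CommRing R] {C : Type v} [AddCommGroup C] [Module R C] [Coalgebra R C]
  {ι : Type w} [DecidableEq ι] (D : ι → Submodule R C)

/-- The projection of `C = ⨁ D i` onto the `i`-th summand, as an endomorphism of `C`. -/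
noncomputable def cproj (h : DirectSum.IsInternal D) (i : ι) : C →ₗ[R] C :=
  (D i).subtype ∘ₗ DirectSum.component R ι (fun i => D i) i ∘ₗ
    (LinearEquiv.ofBijective (DirectSum.coeLinearMap D) h).symm.toLinearMap

variable {D}

omit [Coalgebra R C] in
theorem cproj_apply (h : DirectSum.IsInternal D) (i : ι) (x : C) :
    cproj D h i x = ((LinearEquiv.ofBijective (DirectSum.coeLinearMap D) h).symm x i : C) := rfl

omit [Coalgebra R C] in
theorem cproj_mem (h : DirectSum.IsInternal D) (i : ι) (x : C) : cproj D h i x ∈ D i := by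
  rw [cproj_apply]
  exact Submodule.coe_mem _

omit [Coalgebra R C] in
theorem cproj_of_mem (h : DirectSum.IsInternal D) {i : ι} {x : C} (hx : x ∈ D i) :
    cproj D h i x = x := by
  rw [cproj_apply, h.ofBijective_coeLinearMap_of_mem hx]

omit [Coalgebra R C] in
theorem cproj_of_mem_ne (h : DirectSum.IsInternal D) {i j : ι} (hij : i ≠ j) {x : C}
    (hx : x ∈ D i) : cproj D h j x = 0 := by
  rw [cproj_apply, h.ofBijective_coeLinearMap_of_mem_ne hij hx]
  rfl

omit [Coalgebra R C] in
theorem cproj_comp_subtype_same (h : DirectSum.IsInternal D) (i : ι) :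
    cproj D h i ∘ₗ (D i).subtype = (D i).subtype := by
  apply LinearMap.ext
  intro x
  exact cproj_of_mem h x.2

omit [Coalgebra R C] in
theorem cproj_comp_subtype_ne (h : DirectSum.IsInternal D) {i j : ι} (hij : i ≠ j) :
    cproj D h j ∘ₗ (D i).subtype = 0 := by
  apply LinearMap.ext
  intro x
  exact cproj_of_mem_ne h hij x.2

omit [Coalgebra R C] in
theorem exists_finset_sum_cproj (h : DirectSum.IsInternal D) (c : C) :
    ∃ F : Finset ι, ∀ F' : Finset ι, F ⊆ F' → ∑ i ∈ F', cproj D h i c = c := by
  have hc : c ∈ ⨆ i, D i := by rw [h.submodule_iSup_eq_top]; exact Submodule.mem_top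
  induction hc using Submodule.iSup_induction' with
  | mem j x hx =>
    refine ⟨{j}, fun F' hF' => ?_⟩
    rw [Finset.sum_eq_single_of_mem j (hF' (Finset.mem_singleton_self j))]
    · exact cproj_of_mem h hx
    · intro i _ hij
      exact cproj_of_mem_ne h (Ne.symm hij) hx
  | zero => exact ⟨∅, fun F' _ => by simp⟩
  | add x y _ _ hx hy =>
    obtain ⟨F₁, h₁⟩ := hx
    obtain ⟨F₂, h₂⟩ := hy
    refine ⟨F₁ ∪ F₂, fun F' hF' => ?_⟩
    simp only [map_add, Finset.sum_add_distrib]
    rw [h₁ F' (Finset.union_subset_left hF'), h₂ F' (Finset.union_subset_right hF')]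

omit [Coalgebra R C] in
theorem exists_finset_sum_lTensor_cproj (h : DirectSum.IsInternal D)
    {V : Type w'} [AddCommGroup V] [Module R V] (t : V ⊗[R] C) :
    ∃ F : Finset ι, ∀ F' : Finset ι, F ⊆ F' → ∑ i ∈ F', (cproj D h i).lTensor V t = t := by
  induction t using TensorProduct.induction_on with
  | zero => exact ⟨∅, fun F' _ => by simp⟩
  | tmul x c =>
    obtain ⟨F, hF⟩ := exists_finset_sum_cproj h c
    refine ⟨F, fun F' hF' => ?_⟩
    simp only [LinearMap.lTensor_tmul]
    rw [← TensorProduct.tmul_sum, hF F' hF']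
  | add x y hx hy =>
    obtain ⟨F₁, h₁⟩ := hx
    obtain ⟨F₂, h₂⟩ := hy
    refine ⟨F₁ ∪ F₂, fun F' hF' => ?_⟩
    simp only [map_add, Finset.sum_add_distrib]
    rw [h₁ F' (Finset.union_subset_left hF'), h₂ F' (Finset.union_subset_right hF')]

variable (hD : ∀ i, ∀ d ∈ D i, Coalgebra.comul (R := R) d ∈
      LinearMap.range (TensorProduct.map (D i).subtype (D i).subtype))

include hD in
theorem comul_cproj (h : DirectSum.IsInternal D) (i : ι) (c : C) :
    Coalgebra.comul (R := R) (cproj D h i c) = (cproj D h i).lTensor C (Coalgebra.comul (R := R) c) ∧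
    Coalgebra.comul (R := R) (cproj D h i c) = (cproj D h i).rTensor C (Coalgebra.comul (R := R) c) := by
  have hc : c ∈ ⨆ i, D i := by rw [h.submodule_iSup_eq_top]; exact Submodule.mem_top
  induction hc using Submodule.iSup_induction' with
  | mem j x hx =>
    obtain ⟨r, hr⟩ := hD j x hx
    by_cases hji : j = i
    · subst hji
      rw [cproj_of_mem h hx, ← hr]
      constructor
      · rw [← LinearMap.comp_apply, LinearMap.lTensor_comp_map, cproj_comp_subtype_same]
      · rw [← LinearMap.comp_apply, LinearMap.rTensor_comp_map, cproj_comp_subtype_same]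
    · rw [cproj_of_mem_ne h hji hx, map_zero, ← hr]
      constructor
      · rw [← LinearMap.comp_apply, LinearMap.lTensor_comp_map, cproj_comp_subtype_ne h hji,
          TensorProduct.map_zero_right, LinearMap.zero_apply]
      · rw [← LinearMap.comp_apply, LinearMap.rTensor_comp_map, cproj_comp_subtype_ne h hji,
          TensorProduct.map_zero_left, LinearMap.zero_apply]
  | zero => simp
  | add x y _ _ hx hy =>
    simp only [map_add]
    exact ⟨by rw [hx.1, hy.1], by rw [hx.2, hy.2]⟩

include hD in
theorem rAct_counit_comp_cproj (h : DirectSum.IsInternal D) (i : ι) :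
    rAct (Coalgebra.counit (R := R) (A := C) ∘ₗ cproj D h i) = cproj D h i := by
  apply LinearMap.ext
  intro c
  rw [rAct, LinearMap.comp_apply, LinearMap.comp_apply, LinearMap.lTensor_comp,
    LinearMap.comp_apply, ← (comul_cproj hD h i c).1, Coalgebra.lTensor_counit_comul]
  simp

include hD in
theorem lAct_counit_comp_cproj (h : DirectSum.IsInternal D) (i : ι) :
    lAct (Coalgebra.counit (R := R) (A := C) ∘ₗ cproj D h i) = cproj D h i := by
  apply LinearMap.ext
  intro c
  rw [lAct, LinearMap.comp_apply, LinearMap.comp_apply, LinearMap.rTensor_comp,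
    LinearMap.comp_apply, ← (comul_cproj hD h i c).2, Coalgebra.rTensor_counit_comul]
  simp

end Decomp

section Main

variable {R : Type u} [CommRing R] {C : Type v} [AddCommGroup C] [Module R C] [Coalgebra R C]
  {ι : Type w} [DecidableEq ι] {D : ι → Submodule R C}
  (hD : ∀ i, ∀ d ∈ D i, Coalgebra.comul (R := R) d ∈
      LinearMap.range (TensorProduct.map (D i).subtype (D i).subtype))
  (h : DirectSum.IsInternal D)
  (V : Type w') [AddCommGroup V] [Module R V] [HopfRep.Comod R C V]

/-- The `i`-th component of a comodule: vectors whose coaction lies in `V ⊗ D i`. -/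
def isoComp (D : ι → Submodule R C) (V : Type w') [AddCommGroup V] [Module R V]
    [HopfRep.Comod R C V] (i : ι) : Submodule R V :=
  (LinearMap.range (LinearMap.lTensor V (D i).subtype)).comap
    (HopfRep.Comod.coact (k := R) (A := C) (V := V))

/-- The projection of a comodule onto its `i`-th component. -/
noncomputable def vproj (i : ι) : V →ₗ[R] V :=
  dualAct C V (Coalgebra.counit (R := R) (A := C) ∘ₗ cproj D h i)

variable {V}

include hD in
theorem coact_vproj (i : ι) (v : V) :
    HopfRep.Comod.coact (k := R) (A := C) (vproj h V i v) =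
      (cproj D h i).lTensor V (HopfRep.Comod.coact (k := R) (A := C) v) := by
  rw [vproj, coact_dualAct, rAct_counit_comp_cproj hD]

include hD in
theorem rTensor_vproj_coact (i : ι) (v : V) :
    (vproj h V i).rTensor C (HopfRep.Comod.coact (k := R) (A := C) v) =
      (cproj D h i).lTensor V (HopfRep.Comod.coact (k := R) (A := C) v) := by
  rw [vproj, rTensor_dualAct_coact, lAct_counit_comp_cproj hD]

omit [Coalgebra R C] in
theorem cproj_factor (i : ι) :
    cproj D h i = (D i).subtype ∘ₗ LinearMap.codRestrict (D i) (cproj D h i) (cproj_mem h i) := by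
  apply LinearMap.ext
  intro x
  rfl

include hD in
theorem vproj_mem (i : ι) (v : V) : vproj h V i v ∈ isoComp D V i := by
  rw [isoComp, Submodule.mem_comap, coact_vproj hD, cproj_factor h i, LinearMap.lTensor_comp,
    LinearMap.comp_apply]
  exact ⟨_, rfl⟩

include hD in
theorem vproj_of_mem {i : ι} {v : V} (hv : v ∈ isoComp D V i) : vproj h V i v = v := by
  apply coact_injective (R := R) (C := C)
  rw [coact_vproj hD]
  obtain ⟨r, hr⟩ := hv
  rw [← hr, ← LinearMap.comp_apply, ← LinearMap.lTensor_comp, cproj_comp_subtype_same]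

include hD in
theorem vproj_of_mem_ne {i j : ι} (hij : i ≠ j) {v : V} (hv : v ∈ isoComp D V i) :
    vproj h V j v = 0 := by
  apply coact_injective (R := R) (C := C)
  rw [coact_vproj hD, map_zero]
  obtain ⟨r, hr⟩ := hv
  rw [← hr, ← LinearMap.comp_apply, ← LinearMap.lTensor_comp, cproj_comp_subtype_ne h hij,
    LinearMap.lTensor_zero, LinearMap.zero_apply]

include hD in
theorem exists_finset_sum_vproj (v : V) : ∃ F : Finset ι, ∑ i ∈ F, vproj h V i v = v := by
  obtain ⟨F, hF⟩ := exists_finset_sum_lTensor_cproj h (HopfRep.Comod.coact (k := R) (A := C) v)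
  refine ⟨F, ?_⟩
  apply coact_injective (R := R) (C := C)
  rw [map_sum]
  simp_rw [coact_vproj hD]
  exact hF F le_rfl

include hD h in
/-- The components are subcomodules. -/
theorem isSubcomod_isoComp (i : ι) :
    HopfRep.IsSubcomod (k := R) (A := C) (isoComp D V i) := by
  intro v hv
  have e1 : HopfRep.Comod.coact (k := R) (A := C) v =
      (vproj h V i).rTensor C (HopfRep.Comod.coact (k := R) (A := C) v) := by
    rw [rTensor_vproj_coact hD, ← coact_vproj hD, vproj_of_mem hD h hv]
  have hfac : vproj h V i = (isoComp D V i).subtype ∘ₗ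
      LinearMap.codRestrict (isoComp D V i) (vproj h V i) (vproj_mem hD h i) := by
    apply LinearMap.ext
    intro x
    rfl
  rw [e1, hfac, LinearMap.rTensor_comp, LinearMap.comp_apply]
  exact ⟨_, rfl⟩

include hD h in
theorem coact_mem_map_isoComp (i : ι) (v : V) (hv : v ∈ isoComp D V i) :
    HopfRep.Comod.coact (k := R) (A := C) v ∈
      LinearMap.range (TensorProduct.map (isoComp D V i).subtype (D i).subtype) := by
  have e1 : HopfRep.Comod.coact (k := R) (A := C) v =
      (vproj h V i).rTensor C (HopfRep.Comod.coact (k := R) (A := C) v) := by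
    rw [rTensor_vproj_coact hD, ← coact_vproj hD, vproj_of_mem hD h hv]
  have hfac : vproj h V i = (isoComp D V i).subtype ∘ₗ
      LinearMap.codRestrict (isoComp D V i) (vproj h V i) (vproj_mem hD h i) := by
    apply LinearMap.ext
    intro x
    rfl
  obtain ⟨r, hr⟩ := hv
  rw [e1, ← hr, hfac, ← LinearMap.comp_apply, LinearMap.rTensor_comp_lTensor]
  refine ⟨(LinearMap.codRestrict (isoComp D V i) (vproj h V i) (vproj_mem hD h i)).rTensor (D i) r, ?_⟩
  rw [← LinearMap.comp_apply, LinearMap.map_comp_rTensor]

include hD h in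
theorem iSupIndep_isoComp : iSupIndep (isoComp D V) := by
  rw [iSupIndep_def]
  intro i
  rw [disjoint_iff, eq_bot_iff]
  intro x hx
  have h1 : vproj h V i x = x := vproj_of_mem hD h hx.1
  have h2 : vproj h V i x = 0 := by
    have hle : (⨆ (j) (_ : j ≠ i), isoComp D V j) ≤ LinearMap.ker (vproj h V i) := by
      apply iSup_le
      intro j
      apply iSup_le
      intro hj y hy
      exact vproj_of_mem_ne hD h hj hy
    exact hle hx.2
  rw [Submodule.mem_bot, ← h1, h2]

include hD h in
theorem iSup_isoComp : (⨆ i, isoComp D V i) = ⊤ := by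
  rw [eq_top_iff]
  intro v _
  obtain ⟨F, hF⟩ := exists_finset_sum_vproj hD h v
  rw [← hF]
  apply Submodule.sum_mem
  intro i _
  exact Submodule.mem_iSup_of_mem i (vproj_mem hD h i v)

end Main

end Groth.Agent.H40
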