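import Groth.Agent.H40.Coeff9
import Groth.Agent.H40.CoalgSum
import Groth.Agent.H40.TensorSimple
import Groth.Agent.H40.Burnside

/-! # Characters of comodules on coordinate spaces (helper40)

Matrix coefficients `mc i j` of a comodule structure on `Fin d → k`, the character `chr = ∑ mc i i`,
Burnside-type independence of matrix coefficients of a simple comodule, and: a cocommutative element
in the coefficient space of a simple comodule (over an algebraically closed field) is a multiple of
the character. -/

set_option autoImplicit false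
universe u v w w'

open TensorProduct

namespace Groth.Agent.H40.ClassFnAlg

open Groth.Agent.H40 Groth.Agent.Lib.Helper93.Comod

section MC

variable {k : Type u} [Field k] {C : Type v} [AddCommGroup C] [Module k C] [Coalgebra k C]
  {d : ℕ} [HopfRep.Comod k C (Fin d → k)]

/-- The matrix coefficient `a_ij`: `ρ e_j = ∑ i, e_i ⊗ a_ij`. -/
noncomputable def mc (i j : Fin d) : C :=
  TensorProduct.lid k C (LinearMap.rTensor C (LinearMap.proj i)
    (HopfRep.Comod.coact (k := k) (A := C) (Pi.single j (1 : k) : Fin d → k)))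

/-- The character `∑ i, a_ii`. -/
noncomputable def chr : C := ∑ i : Fin d, mc (k := k) (C := C) i i

theorem mc_eq_coeffMap (i j : Fin d) :
    mc (k := k) (C := C) i j =
      coeffMap (C := C) (LinearMap.proj i : (Fin d → k) →ₗ[k] k) (Pi.single j (1 : k)) := rfl

omit [Coalgebra k C] [HopfRep.Comod k C (Fin d → k)] in
theorem tensor_expand (t : (Fin d → k) ⊗[k] C) :
    t = ∑ i : Fin d, (Pi.single i (1 : k) : Fin d → k) ⊗ₜ[k]
      lslice (LinearMap.proj i : (Fin d → k) →ₗ[k] k) t := by
  induction t using TensorProduct.induction_on with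
  | zero => simp
  | tmul x c =>
    simp only [lslice_tmul, LinearMap.proj_apply]
    simp_rw [← TensorProduct.smul_tmul]
    rw [← TensorProduct.sum_tmul]
    congr 1
    ext j
    simp [Finset.sum_apply, Pi.single_apply]
  | add a b ha hb =>
    simp only [map_add, TensorProduct.tmul_add, Finset.sum_add_distrib]
    rw [← ha, ← hb]

theorem coact_single (j : Fin d) :
    HopfRep.Comod.coact (k := k) (A := C) (Pi.single j (1 : k) : Fin d → k) =
      ∑ i : Fin d, (Pi.single i (1 : k) : Fin d → k) ⊗ₜ[k] mc (k := k) (C := C) i j :=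
  tensor_expand _

theorem comul_mc (i j : Fin d) :
    Coalgebra.comul (R := k) (mc (k := k) (C := C) i j) =
      ∑ l : Fin d, mc (k := k) (C := C) i l ⊗ₜ[k] mc (k := k) (C := C) l j := by
  have h := LinearMap.congr_fun (isComodHom_coeffMap (C := C)
    (LinearMap.proj i : (Fin d → k) →ₗ[k] k)) (Pi.single j (1 : k))
  simp only [LinearMap.comp_apply] at h
  change Coalgebra.comul (R := k) (mc (k := k) (C := C) i j) = _ at h
  rw [h, coact_single, map_sum]
  simp only [LinearMap.rTensor_tmul]
  rfl

theorem counit_mc (i j : Fin d) :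
    Coalgebra.counit (R := k) (mc (k := k) (C := C) i j) = if i = j then 1 else 0 := by
  have h := LinearMap.congr_fun (HopfRep.Comod.counit_comp (k := k) (A := C) (V := Fin d → k))
    (Pi.single j (1 : k))
  simp only [LinearMap.comp_apply, LinearMap.flip_apply, TensorProduct.mk_apply] at h
  have h2 := congrArg (lslice (LinearMap.proj i : (Fin d → k) →ₗ[k] k)) h
  rw [lslice_lTensor, lslice_tmul] at h2
  change Coalgebra.counit (R := k) (mc (k := k) (C := C) i j) = _ at h2
  rw [h2]
  simp [Pi.single_apply]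

theorem counit_chr : Coalgebra.counit (R := k) (chr (k := k) (C := C) (d := d)) = (d : k) := by
  rw [chr, map_sum]
  simp [counit_mc]

end MC

section DualActL

variable {k : Type u} [Field k] {C : Type v} [AddCommGroup C] [Module k C] [Coalgebra k C]
  {V : Type w} [AddCommGroup V] [Module k V] [HopfRep.Comod k C V]

variable (C V) in
/-- `φ ↦ (id ⊗ φ) ∘ ρ` as a linear map to the endomorphism algebra. -/
noncomputable def dualActL : (C →ₗ[k] k) →ₗ[k] Module.End k V where
  toFun φ := dualAct C V φ
  map_add' φ ψ := by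
    apply LinearMap.ext
    intro v
    simp [dualAct_apply, LinearMap.lTensor_add]
  map_smul' a φ := by
    apply LinearMap.ext
    intro v
    simp [dualAct_apply, LinearMap.lTensor_smul]

theorem dualActL_apply (φ : C →ₗ[k] k) : dualActL C V φ = dualAct C V φ := rfl

variable (C V) in
/-- The algebra of operators `(id ⊗ φ) ∘ ρ`. -/
noncomputable def dualAlg : Subalgebra k (Module.End k V) :=
  (LinearMap.range (dualActL (k := k) C V)).toSubalgebra
    (show (1 : Module.End k V) ∈ LinearMap.range (dualActL (k := k) C V) from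
      ⟨Coalgebra.counit (R := k) (A := C), by
        apply LinearMap.ext
        intro v
        exact dualAct_counit v⟩)
    (by
      rintro _ _ ⟨φ, rfl⟩ ⟨ψ, rfl⟩
      refine ⟨convFun φ ψ, ?_⟩
      apply LinearMap.ext
      intro v
      exact (dualAct_dualAct φ ψ v).symm)

theorem mem_dualAlg (T : Module.End k V) :
    T ∈ dualAlg (k := k) C V ↔ ∃ φ : C →ₗ[k] k, dualAct C V φ = T :=
  Iff.rfl

/-- Burnside: over an algebraically closed field every endomorphism of a finite-dimensional simple
comodule is of the form `(id ⊗ φ) ∘ ρ`. -/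
theorem exists_dualAct_eq [IsAlgClosed k] [FiniteDimensional k V]
    (hV : HopfRep.IsSimpleComod k C V) (T : Module.End k V) :
    ∃ φ : C →ₗ[k] k, dualAct C V φ = T := by
  have := hV.1
  have h : dualAlg (k := k) C V = ⊤ := by
    apply burnside
    intro W hW
    apply hV.2 W
    rw [isSubcomod_iff]
    intro φ w hw
    exact hW (dualAct C V φ) ((mem_dualAlg _).2 ⟨φ, rfl⟩) hw
  have hT : T ∈ dualAlg (k := k) C V := by rw [h]; exact Algebra.mem_top
  exact (mem_dualAlg T).1 hT

end DualActL

section Cocomm

variable {k : Type u} [Field k] {C : Type v} [AddCommGroup C] [Module k C] [Coalgebra k C]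
  {d : ℕ} [HopfRep.Comod k C (Fin d → k)]

omit [Coalgebra k C] [HopfRep.Comod k C (Fin d → k)] in
theorem rid_lTensor_apply (φ : C →ₗ[k] k) (t : (Fin d → k) ⊗[k] C) (i : Fin d) :
    (TensorProduct.rid k (Fin d → k) (φ.lTensor (Fin d → k) t)) i =
      φ (lslice (LinearMap.proj i : (Fin d → k) →ₗ[k] k) t) := by
  induction t using TensorProduct.induction_on with
  | zero => simp
  | tmul x c => simp [mul_comm]
  | add a b ha hb => simp only [map_add, Pi.add_apply, ha, hb]

theorem dualAct_single_apply (φ : C →ₗ[k] k) (i j : Fin d) :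
    dualAct C (Fin d → k) φ (Pi.single j (1 : k)) i = φ (mc (k := k) (C := C) i j) := by
  rw [dualAct_apply, rid_lTensor_apply]
  rfl

/-- The matrix of `(id ⊗ φ) ∘ ρ`. -/
noncomputable def mat (φ : C →ₗ[k] k) : Matrix (Fin d) (Fin d) k :=
  LinearMap.toMatrix' (dualAct C (Fin d → k) φ)

theorem mat_apply (φ : C →ₗ[k] k) (i j : Fin d) :
    mat (d := d) φ i j = φ (mc (k := k) (C := C) i j) := by
  rw [mat, LinearMap.toMatrix'_apply]
  exact dualAct_single_apply φ i j

theorem mat_convFun (φ ψ : C →ₗ[k] k) :
    mat (d := d) (convFun φ ψ) = mat (d := d) φ * mat (d := d) ψ := by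
  rw [mat, mat, mat, ← LinearMap.toMatrix'_comp]
  congr 1
  apply LinearMap.ext
  intro v
  exact (dualAct_dualAct φ ψ v).symm

theorem exists_mat_eq [IsAlgClosed k] (hV : HopfRep.IsSimpleComod k C (Fin d → k))
    (X : Matrix (Fin d) (Fin d) k) : ∃ φ : C →ₗ[k] k, mat (d := d) φ = X := by
  obtain ⟨φ, hφ⟩ := exists_dualAct_eq hV (Matrix.toLin' X)
  refine ⟨φ, ?_⟩
  rw [mat, hφ, LinearMap.toMatrix'_toLin']

omit [HopfRep.Comod k C (Fin d → k)] in
theorem convFun_comm_of_cocomm (f : C)
    (hco : TensorProduct.comm k C C (Coalgebra.comul (R := k) f) = Coalgebra.comul (R := k) f)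
    (φ ψ : C →ₗ[k] k) : convFun φ ψ f = convFun ψ φ f := by
  have key : ∀ t : C ⊗[k] C, LinearMap.mul' k k (TensorProduct.map φ ψ (TensorProduct.comm k C C t)) =
      LinearMap.mul' k k (TensorProduct.map ψ φ t) := by
    intro t
    induction t using TensorProduct.induction_on with
    | zero => simp
    | tmul x y => simp [mul_comm]
    | add a b ha hb => simp only [map_add, ha, hb]
  unfold convFun
  simp only [LinearMap.comp_apply]
  rw [← key, hco]

theorem mem_span_mc (f : C) (hf : f ∈ cfs (C := C) (⊤ : Submodule k (Fin d → k))) :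
    ∃ a : Fin d × Fin d → k, f = ∑ p : Fin d × Fin d, a p • mc (k := k) (C := C) p.1 p.2 := by
  have h1 : cfs (C := C) (⊤ : Submodule k (Fin d → k)) ≤
      Submodule.span k (Set.range fun p : Fin d × Fin d => mc (k := k) (C := C) p.1 p.2) := by
    rw [cfs_top_eq_iSup_basis (Pi.basisFun k (Fin d))]
    apply iSup_le
    intro i
    rintro _ ⟨x, rfl⟩
    have hx : x = ∑ j : Fin d, x j • (Pi.single j (1 : k) : Fin d → k) := by
      ext l
      simp [Finset.sum_apply, Pi.single_apply]
    have hc : (Pi.basisFun k (Fin d)).coord i = (LinearMap.proj i : (Fin d → k) →ₗ[k] k) := by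
      apply LinearMap.ext
      intro y
      simp
    rw [hc, hx, map_sum]
    apply Submodule.sum_mem
    intro j _
    rw [map_smul]
    apply Submodule.smul_mem
    apply Submodule.subset_span
    exact ⟨(i, j), rfl⟩
  obtain ⟨a, ha⟩ := (Submodule.mem_span_range_iff_exists_fun k).1 (h1 hf)
  exact ⟨a, ha.symm⟩

/-- A cocommutative element of the coefficient space of a simple comodule over an algebraically
closed field is a scalar multiple of the character. -/
theorem eq_smul_chr_of_cocomm [IsAlgClosed k] (hV : HopfRep.IsSimpleComod k C (Fin d → k)) (f : C)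
    (hf : f ∈ cfs (C := C) (⊤ : Submodule k (Fin d → k)))
    (hco : TensorProduct.comm k C C (Coalgebra.comul (R := k) f) = Coalgebra.comul (R := k) f) :
    ∃ a : k, f = a • chr (k := k) (C := C) (d := d) := by
  classical
  obtain ⟨a, ha⟩ := mem_span_mc f hf
  -- the functional `L X = ∑ a_ij X_ij`
  have hφ : ∀ φ : C →ₗ[k] k, φ f = ∑ p : Fin d × Fin d, a p * mat (d := d) φ p.1 p.2 := by
    intro φ
    rw [ha, map_sum]
    apply Finset.sum_congr rfl
    intro p _
    rw [map_smul, smul_eq_mul, mat_apply]
  have hL : ∀ X Y : Matrix (Fin d) (Fin d) k,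
      ∑ p : Fin d × Fin d, a p * (X * Y) p.1 p.2 = ∑ p : Fin d × Fin d, a p * (Y * X) p.1 p.2 := by
    intro X Y
    obtain ⟨φ, rfl⟩ := exists_mat_eq (C := C) hV X
    obtain ⟨ψ, rfl⟩ := exists_mat_eq (C := C) hV Y
    rw [← mat_convFun, ← mat_convFun, ← hφ, ← hφ]
    exact convFun_comm_of_cocomm f hco φ ψ
  have hs : ∀ i j : Fin d,
      ∑ p : Fin d × Fin d, a p * (Matrix.single i j (1 : k)) p.1 p.2 = a (i, j) := by
    intro i j
    rw [Finset.sum_eq_single (i, j)]
    · simp
    · rintro ⟨p, q⟩ _ hne
      have : ¬ (i = p ∧ j = q) := by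
        rintro ⟨rfl, rfl⟩
        exact hne rfl
      simp [this]
    · intro h
      exact absurd (Finset.mem_univ _) h
  have hoff : ∀ p s : Fin d, p ≠ s → a (p, s) = 0 := by
    intro p s hps
    have h := hL (Matrix.single p p (1 : k)) (Matrix.single p s (1 : k))
    rw [Matrix.single_mul_single_same, Matrix.single_mul_single_of_ne _ _ _ _ (Ne.symm hps), mul_one,
      hs] at h
    simpa using h
  have hdiag : ∀ p q : Fin d, a (p, p) = a (q, q) := by
    intro p q
    have h := hL (Matrix.single p q (1 : k)) (Matrix.single q p (1 : k))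
    rw [Matrix.single_mul_single_same, Matrix.single_mul_single_same, mul_one, hs, hs] at h
    exact h
  have hne : Nonempty (Fin d) := by
    by_contra hemp
    rw [not_nonempty_iff] at hemp
    have := hV.1
    exact not_subsingleton (Fin d → k) inferInstance
  obtain ⟨p0⟩ := hne
  refine ⟨a (p0, p0), ?_⟩
  rw [ha, Fintype.sum_prod_type, chr, Finset.smul_sum]
  apply Finset.sum_congr rfl
  intro i _
  rw [Finset.sum_eq_single i]
  · rw [hdiag i p0]
  · intro j _ hji
    rw [hoff i j (Ne.symm hji), zero_smul]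
  · intro h
    exact absurd (Finset.mem_univ _) h

theorem comm_comul_chr :
    TensorProduct.comm k C C (Coalgebra.comul (R := k) (chr (k := k) (C := C) (d := d))) =
      Coalgebra.comul (R := k) (chr (k := k) (C := C) (d := d)) := by
  rw [chr, map_sum, map_sum]
  simp_rw [comul_mc, map_sum, TensorProduct.comm_tmul]
  exact Finset.sum_comm

theorem chr_mem_cfs :
    chr (k := k) (C := C) (d := d) ∈ cfs (C := C) (⊤ : Submodule k (Fin d → k)) := by
  rw [chr]
  apply Submodule.sum_mem
  intro i _
  rw [mc_eq_coeffMap]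
  exact coeffMap_mem_cfs _ _ Submodule.mem_top

end Cocomm

section Transport

variable {k : Type u} [Field k] {C : Type v} [AddCommGroup C] [Module k C] [Coalgebra k C]
  {V : Type w} [AddCommGroup V] [Module k V] [HopfRep.Comod k C V]
  {W : Type w'} [AddCommGroup W] [Module k W] [HopfRep.Comod k C W]

theorem isSimpleComod_of_equiv (e : V ≃ₗ[k] W) (he : Hoch.IsComodHom C e.toLinearMap)
    (hV : HopfRep.IsSimpleComod k C V) : HopfRep.IsSimpleComod k C W := by
  have := hV.1
  refine ⟨e.symm.toEquiv.nontrivial, ?_⟩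
  intro U hU
  rcases hV.2 (U.comap e.toLinearMap) (isSubcomod_comap e.toLinearMap he U hU) with h | h
  · left
    rw [eq_bot_iff]
    intro u hu
    have h1 : e.symm u ∈ U.comap e.toLinearMap := by
      rw [Submodule.mem_comap]
      simpa using hu
    rw [h, Submodule.mem_bot] at h1
    rw [Submodule.mem_bot]
    simpa using h1
  · right
    rw [eq_top_iff]
    intro w _
    have h1 : e.symm w ∈ U.comap e.toLinearMap := by rw [h]; exact Submodule.mem_top
    rw [Submodule.mem_comap] at h1
    simpa using h1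

theorem cfs_top_eq_of_equiv (e : V ≃ₗ[k] W) (he : Hoch.IsComodHom C e.toLinearMap) :
    cfs (C := C) (⊤ : Submodule k W) = cfs (C := C) (⊤ : Submodule k V) := by
  have := cfs_range_eq_of_injective (C := C) e.toLinearMap he e.injective
  rw [← this, LinearMap.range_eq_top.2 e.surjective]

/-- Simple comodules with the same coefficient space are isomorphic. -/
theorem exists_equiv_of_cfs_eq (hV : HopfRep.IsSimpleComod k C V) (hW : HopfRep.IsSimpleComod k C W)
    (h : cfs (C := C) (⊤ : Submodule k V) = cfs (C := C) (⊤ : Submodule k W)) :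
    ∃ e : V ≃ₗ[k] W, Hoch.IsComodHom C e.toLinearMap := by
  have hD := cfs_top_simple (C := C) hV
  obtain ⟨S, hSD, hS⟩ := exists_simpleSub_le (k := k) (C := C) (V := C) _
    (isSubcomod_of_isSubcoalg _ hD.2.1) hD.1
  obtain ⟨g, hg, hginj, hgr⟩ := exists_hom_of_simpleSub_le hV S hS hSD
  obtain ⟨g', hg', hginj', hgr'⟩ := exists_hom_of_simpleSub_le hW S hS (h ▸ hSD)
  obtain ⟨e, he, -⟩ := exists_equiv_of_range_eq g g' hg hg' hginj hginj' (hgr.trans hgr'.symm)
  exact ⟨e, he⟩

end Transport

section Main

variable {k : Type u} [Field k] [IsAlgClosed k] {C : Type v} [AddCommGroup C] [Module k C]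
  [Coalgebra k C]

variable (k C) in
/-- The set of all characters of comodule structures on coordinate spaces. -/
def chars : Set C :=
  Set.range fun p : (Σ d : ℕ, HopfRep.Comod k C (Fin d → k)) => @chr k _ C _ _ _ p.1 p.2

theorem mem_span_chars_of_mem_simpleSubcoalg (D : Submodule k C) (hD : IsSimpleSubcoalg D) (g : C)
    (hg : g ∈ D)
    (hco : TensorProduct.comm k C C (Coalgebra.comul (R := k) g) = Coalgebra.comul (R := k) g) :
    g ∈ Submodule.span k (chars k C) := by
  obtain ⟨S, hSD, hS⟩ := exists_simpleSub_le (k := k) (C := C) (V := C) D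
    (isSubcomod_of_isSubcoalg D hD.2.1) hD.1
  have hcf : cfs (C := C) (V := C) S = D := eq_cfs_of_simpleSub_le D hD S hS hSD
  have hfin : Module.Finite k S := finite_of_isSimpleSub S hS
  let cS : HopfRep.Comod k C S := ComodSub.Comod.restr (HopfRep.Comod.regular k C) S hS.2.1
  have hsimp : @HopfRep.IsSimpleComod k C _ _ _ _ S _ _ cS := isSimpleComod_restr S hS
  have hcfS : @cfs k _ C _ _ _ S _ _ cS ⊤ = cfs (C := C) (V := C) S := cfs_top_restr S hS.2.1
  let d := Module.finrank k S
  let e : S ≃ₗ[k] (Fin d → k) := (Module.finBasis k S).equivFun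
  let c : HopfRep.Comod k C (Fin d → k) := ComodTens.Comod.ofEquiv e cS
  have he : @Hoch.IsComodHom k _ C _ _ _ S _ _ cS (Fin d → k) _ _ c e.toLinearMap := by
    apply LinearMap.ext
    intro v
    exact ComodTens.ofEquiv_coact_apply e cS v
  have hsimp' : @HopfRep.IsSimpleComod k C _ _ _ _ (Fin d → k) _ _ c :=
    @isSimpleComod_of_equiv k _ C _ _ _ S _ _ cS (Fin d → k) _ _ c e he hsimp
  have hcf' : @cfs k _ C _ _ _ (Fin d → k) _ _ c ⊤ = D := by
    rw [@cfs_top_eq_of_equiv k _ C _ _ _ S _ _ cS (Fin d → k) _ _ c e he, hcfS, hcf]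
  obtain ⟨a, ha⟩ := @eq_smul_chr_of_cocomm k _ C _ _ _ d c _ hsimp' g (by rw [hcf']; exact hg) hco
  rw [ha]
  apply Submodule.smul_mem
  apply Submodule.subset_span
  exact ⟨⟨d, c⟩, rfl⟩

/-- Over an algebraically closed field, a cocommutative element of a cosemisimple coalgebra is a
linear combination of characters. -/
theorem mem_span_chars_of_cocomm (hss : HopfRep.IsSemisimpleComod k C C) (f : C)
    (hco : TensorProduct.comm k C C (Coalgebra.comul (R := k) f) = Coalgebra.comul (R := k) f) :
    f ∈ Submodule.span k (chars k C) := by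
  classical
  have htop := iSup_simpleSub_eq_top_of_isSemisimple hss
  have hind : iSupIndep (fun D : {D : Submodule k C // IsSimpleSubcoalg D} => D.1) :=
    iSupIndep_simpleSubcoalg
  have hsup : (⨆ D : {D : Submodule k C // IsSimpleSubcoalg D}, D.1) = ⊤ := by
    rw [eq_top_iff, ← htop]
    apply iSup_le
    intro S
    refine (le_cfs_regular S.1).trans ?_
    exact le_iSup (fun D : {D : Submodule k C // IsSimpleSubcoalg D} => D.1)
      ⟨cfs (C := C) (V := C) S.1, isSimpleSubcoalg_cfs S.1 S.2⟩
  have hint : DirectSum.IsInternal (fun D : {D : Submodule k C // IsSimpleSubcoalg D} => D.1) :=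
    (DirectSum.isInternal_submodule_iff_iSupIndep_and_iSup_eq_top _).2 ⟨hind, hsup⟩
  have hD : ∀ i : {D : Submodule k C // IsSimpleSubcoalg D}, ∀ x ∈ i.1,
      Coalgebra.comul (R := k) x ∈ LinearMap.range (TensorProduct.map i.1.subtype i.1.subtype) :=
    fun i => i.2.2.1
  obtain ⟨F, hF⟩ := exists_finset_sum_cproj hint f
  rw [← hF F subset_rfl]
  apply Submodule.sum_mem
  intro i _
  apply mem_span_chars_of_mem_simpleSubcoalg i.1 i.2 _ (cproj_mem hint i f)
  have h1 := comul_cproj hD hint i f
  calc TensorProduct.comm k C C (Coalgebra.comul (R := k) (cproj _ hint i f))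
      = TensorProduct.comm k C C ((cproj _ hint i).lTensor C (Coalgebra.comul (R := k) f)) := by
        rw [← h1.1]
    _ = (cproj _ hint i).rTensor C (TensorProduct.comm k C C (Coalgebra.comul (R := k) f)) :=
        (LinearMap.rTensor_comm _ _).symm
    _ = (cproj _ hint i).rTensor C (Coalgebra.comul (R := k) f) := by rw [hco]
    _ = Coalgebra.comul (R := k) (cproj _ hint i f) := h1.2.symm

omit [IsAlgClosed k] in
/-- Characters are cocommutative, hence so is every linear combination. -/
theorem cocomm_of_mem_span_chars (f : C) (hf : f ∈ Submodule.span k (chars k C)) :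
    TensorProduct.comm k C C (Coalgebra.comul (R := k) f) = Coalgebra.comul (R := k) f := by
  induction hf using Submodule.span_induction with
  | mem x hx =>
    obtain ⟨p, rfl⟩ := hx
    exact @comm_comul_chr k _ C _ _ _ p.1 p.2
  | zero => simp
  | add x y _ _ hx hy => rw [map_add, map_add, hx, hy]
  | smul a x _ hx => rw [map_smul, map_smul, hx]

omit [IsAlgClosed k] in
/-- Characters of pairwise non-isomorphic simple comodules are linearly independent. -/
theorem linearIndependent_chr [CharZero k] (n : ℕ) (d : Fin n → ℕ)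
    (c : (i : Fin n) → HopfRep.Comod k C (Fin (d i) → k))
    (hs : ∀ i, @HopfRep.IsSimpleComod k C _ _ _ _ (Fin (d i) → k) _ _ (c i))
    (hne : ∀ i j, i ≠ j → ∀ P : (Fin (d i) → k) ≃ₗ[k] (Fin (d j) → k),
      LinearMap.rTensor C P.toLinearMap ∘ₗ (c i).coact ≠ (c j).coact ∘ₗ P.toLinearMap) :
    LinearIndependent k (fun i : Fin n => @chr k _ C _ _ _ (d i) (c i)) := by
  let D : Fin n → {D : Submodule k C // IsSimpleSubcoalg D} := fun i =>
    ⟨@cfs k _ C _ _ _ (Fin (d i) → k) _ _ (c i) ⊤,
      @cfs_top_simple k _ C _ _ _ (Fin (d i) → k) _ _ (c i) (hs i)⟩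
  have hinj : Function.Injective D := by
    intro i j hij
    by_contra hne'
    have h : @cfs k _ C _ _ _ (Fin (d i) → k) _ _ (c i) ⊤ =
        @cfs k _ C _ _ _ (Fin (d j) → k) _ _ (c j) ⊤ := congrArg Subtype.val hij
    obtain ⟨e, he⟩ := @exists_equiv_of_cfs_eq k _ C _ _ _ (Fin (d i) → k) _ _ (c i)
      (Fin (d j) → k) _ _ (c j) (hs i) (hs j) h
    exact hne i j hne' e he.symm
  have hind := (iSupIndep_simpleSubcoalg (k := k) (C := C)).comp hinj
  refine hind.linearIndependent _ (fun i => @chr_mem_cfs k _ C _ _ _ (d i) (c i)) ?_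
  intro i h0
  have h1 := @counit_chr k _ C _ _ _ (d i) (c i)
  rw [h0, map_zero] at h1
  have hd : d i = 0 := by exact_mod_cast h1.symm
  have := (hs i).1
  have hsub : Subsingleton (Fin (d i) → k) := by
    rw [hd]
    infer_instance
  exact not_subsingleton _ hsub

end Main

end Groth.Agent.H40.ClassFnAlg
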