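import Mathlib
import Groth.Prelude.Def_GLin
import Groth.Prelude.Def_Hoch

/-! # Coaction algebras from algebra maps: symmetric algebras (helper40)

* `comodOfAlgHom`: a comodule structure on a commutative algebra from an algebra map
  `ρ : P → P ⊗ A` satisfying coassociativity and counitality as algebra maps.
* `symComod`: the induced coaction on the symmetric algebra of a comodule, for which
  `SymmetricAlgebra.lift` of a comodule map into a coaction algebra is equivariant. -/

set_option autoImplicit false
universe u v w w'
open TensorProduct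

namespace Groth.Agent.H40.CoactAlgHom

section Gen

variable {k : Type u} [CommRing k] {A : Type v} [CommRing A] [Bialgebra k A]
  {P : Type w} [CommRing P] [Algebra k P]

/-- A comodule structure from an algebra map satisfying the two laws as algebra maps. -/
@[reducible] noncomputable def comodOfAlgHom (ρ : P →ₐ[k] P ⊗[k] A)
    (h1 : ((Algebra.TensorProduct.assoc k k k P A A).toAlgHom.comp
        ((Algebra.TensorProduct.map ρ (AlgHom.id k A)).comp ρ)) =
      (Algebra.TensorProduct.map (AlgHom.id k P) (Bialgebra.comulAlgHom k A)).comp ρ)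
    (h2 : (Algebra.TensorProduct.map (AlgHom.id k P) (Bialgebra.counitAlgHom k A)).comp ρ =
      Algebra.TensorProduct.includeLeft) : HopfRep.Comod k A P where
  coact := ρ.toLinearMap
  coassoc := by
    apply LinearMap.ext
    intro x
    exact AlgHom.congr_fun h1 x
  counit_comp := by
    apply LinearMap.ext
    intro x
    exact AlgHom.congr_fun h2 x

theorem isCoactAlg_comodOfAlgHom (ρ : P →ₐ[k] P ⊗[k] A)
    (h1 : ((Algebra.TensorProduct.assoc k k k P A A).toAlgHom.comp
        ((Algebra.TensorProduct.map ρ (AlgHom.id k A)).comp ρ)) =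
      (Algebra.TensorProduct.map (AlgHom.id k P) (Bialgebra.comulAlgHom k A)).comp ρ)
    (h2 : (Algebra.TensorProduct.map (AlgHom.id k P) (Bialgebra.counitAlgHom k A)).comp ρ =
      Algebra.TensorProduct.includeLeft) :
    @GLin.IsCoactAlg k _ A _ _ P _ _ (comodOfAlgHom ρ h1 h2) :=
  @GLin.IsCoactAlg.mk k _ A _ _ P _ _ (comodOfAlgHom ρ h1 h2) (map_one ρ) (map_mul ρ)

variable [HopfRep.Comod k A P] [GLin.IsCoactAlg k A P]

/-- Coassociativity of a coaction algebra, as an identity of algebra maps. -/
theorem coactAlgHom_assoc :
    ((Algebra.TensorProduct.assoc k k k P A A).toAlgHom.comp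
        ((Algebra.TensorProduct.map (GLin.coactAlgHom k A P) (AlgHom.id k A)).comp
          (GLin.coactAlgHom k A P))) =
      (Algebra.TensorProduct.map (AlgHom.id k P) (Bialgebra.comulAlgHom k A)).comp
        (GLin.coactAlgHom k A P) := by
  apply AlgHom.ext
  intro x
  exact LinearMap.congr_fun (HopfRep.Comod.coassoc (k := k) (A := A) (V := P)) x

/-- Counitality of a coaction algebra, as an identity of algebra maps. -/
theorem coactAlgHom_counit :
    (Algebra.TensorProduct.map (AlgHom.id k P) (Bialgebra.counitAlgHom k A)).comp
        (GLin.coactAlgHom k A P) = Algebra.TensorProduct.includeLeft := by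
  apply AlgHom.ext
  intro x
  exact LinearMap.congr_fun (HopfRep.Comod.counit_comp (k := k) (A := A) (V := P)) x

end Gen

section Intertwine

variable {k : Type u} [CommRing k] {A : Type v} [CommRing A] [Bialgebra k A]
  {V : Type w} [AddCommGroup V] [Module k V] [HopfRep.Comod k A V]
  {Q : Type w'} [CommRing Q] [Algebra k Q]

/-- Coassociativity on the image of an intertwining linear map. -/
theorem h1_apply_of_intertwine (j : V →ₗ[k] Q) (ρ : Q →ₐ[k] Q ⊗[k] A)
    (hj : ∀ v, ρ (j v) = LinearMap.rTensor A j (HopfRep.Comod.coact (k := k) (A := A) v)) (v : V) :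
    (Algebra.TensorProduct.assoc k k k Q A A).toAlgHom
        (Algebra.TensorProduct.map ρ (AlgHom.id k A) (ρ (j v))) =
      Algebra.TensorProduct.map (AlgHom.id k Q) (Bialgebra.comulAlgHom k A) (ρ (j v)) := by
  rw [hj]
  have hV := LinearMap.congr_fun (HopfRep.Comod.coassoc (k := k) (A := A) (V := V)) v
  simp only [LinearMap.comp_apply, LinearEquiv.coe_coe] at hV
  have key1 : ∀ t : V ⊗[k] A,
      (Algebra.TensorProduct.assoc k k k Q A A).toAlgHom
        (Algebra.TensorProduct.map ρ (AlgHom.id k A) (LinearMap.rTensor A j t)) =
      TensorProduct.map j (LinearMap.id : A ⊗[k] A →ₗ[k] A ⊗[k] A)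
        (TensorProduct.assoc k V A A
          (LinearMap.rTensor A (HopfRep.Comod.coact (k := k) (A := A)) t)) := by
    intro t
    induction t using TensorProduct.induction_on with
    | zero => simp
    | tmul x a =>
      simp only [LinearMap.rTensor_tmul, Algebra.TensorProduct.map_tmul, hj,
        AlgHom.coe_id, id_eq]
      generalize HopfRep.Comod.coact (k := k) (A := A) x = s
      induction s using TensorProduct.induction_on with
      | zero => simp
      | tmul y b => simp
      | add y z hy hz =>
        simp only [map_add, TensorProduct.add_tmul, hy, hz]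
    | add x y hx hy => simp only [map_add, hx, hy]
  have key2 : ∀ t : V ⊗[k] A,
      Algebra.TensorProduct.map (AlgHom.id k Q) (Bialgebra.comulAlgHom k A)
        (LinearMap.rTensor A j t) =
      TensorProduct.map j (LinearMap.id : A ⊗[k] A →ₗ[k] A ⊗[k] A)
        (LinearMap.lTensor V (CoalgebraStruct.comul (R := k) (A := A)) t) := by
    intro t
    induction t using TensorProduct.induction_on with
    | zero => simp
    | tmul x a => simp
    | add x y hx hy => simp only [map_add, hx, hy]
  rw [key1, key2, hV]

/-- Counitality on the image of an intertwining linear map. -/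
theorem h2_apply_of_intertwine (j : V →ₗ[k] Q) (ρ : Q →ₐ[k] Q ⊗[k] A)
    (hj : ∀ v, ρ (j v) = LinearMap.rTensor A j (HopfRep.Comod.coact (k := k) (A := A) v)) (v : V) :
    Algebra.TensorProduct.map (AlgHom.id k Q) (Bialgebra.counitAlgHom k A) (ρ (j v)) =
      j v ⊗ₜ[k] (1 : k) := by
  rw [hj]
  have hV := LinearMap.congr_fun (HopfRep.Comod.counit_comp (k := k) (A := A) (V := V)) v
  simp only [LinearMap.comp_apply, LinearMap.flip_apply, TensorProduct.mk_apply] at hV
  have key : ∀ t : V ⊗[k] A,
      Algebra.TensorProduct.map (AlgHom.id k Q) (Bialgebra.counitAlgHom k A)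
        (LinearMap.rTensor A j t) =
      LinearMap.rTensor k j
        (LinearMap.lTensor V (CoalgebraStruct.counit (R := k) (A := A)) t) := by
    intro t
    induction t using TensorProduct.induction_on with
    | zero => simp
    | tmul x a => simp
    | add x y hx hy => simp only [map_add, hx, hy]
  rw [key, hV]
  simp

end Intertwine

section Sym

variable {k : Type u} [CommRing k] {A : Type v} [CommRing A] [Bialgebra k A]
  {V : Type w} [AddCommGroup V] [Module k V] [HopfRep.Comod k A V]

/-- The coaction on the symmetric algebra of a comodule. -/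
noncomputable def symCoact : SymmetricAlgebra k V →ₐ[k] SymmetricAlgebra k V ⊗[k] A :=
  SymmetricAlgebra.lift
    ((LinearMap.rTensor A (SymmetricAlgebra.ι k V)) ∘ₗ HopfRep.Comod.coact (k := k) (A := A))

theorem symCoact_ι (v : V) :
    symCoact (A := A) (SymmetricAlgebra.ι k V v) =
      LinearMap.rTensor A (SymmetricAlgebra.ι k V) (HopfRep.Comod.coact (k := k) (A := A) v) :=
  SymmetricAlgebra.lift_ι_apply _ _

theorem symCoact_h1 :
    ((Algebra.TensorProduct.assoc k k k (SymmetricAlgebra k V) A A).toAlgHom.comp
        ((Algebra.TensorProduct.map (symCoact (A := A) (V := V)) (AlgHom.id k A)).comp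
          (symCoact (A := A) (V := V)))) =
      (Algebra.TensorProduct.map (AlgHom.id k (SymmetricAlgebra k V))
        (Bialgebra.comulAlgHom k A)).comp (symCoact (A := A) (V := V)) := by
  apply SymmetricAlgebra.algHom_ext
  apply LinearMap.ext
  intro v
  exact h1_apply_of_intertwine (SymmetricAlgebra.ι k V) symCoact symCoact_ι v

theorem symCoact_h2 :
    (Algebra.TensorProduct.map (AlgHom.id k (SymmetricAlgebra k V))
        (Bialgebra.counitAlgHom k A)).comp (symCoact (A := A) (V := V)) =
      Algebra.TensorProduct.includeLeft := by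
  apply SymmetricAlgebra.algHom_ext
  apply LinearMap.ext
  intro v
  exact h2_apply_of_intertwine (SymmetricAlgebra.ι k V) symCoact symCoact_ι v

/-- The symmetric algebra of a comodule as a comodule. -/
@[reducible] noncomputable def symComod : HopfRep.Comod k A (SymmetricAlgebra k V) :=
  comodOfAlgHom (symCoact (A := A) (V := V)) symCoact_h1 symCoact_h2

theorem symComod_isCoactAlg :
    @GLin.IsCoactAlg k _ A _ _ (SymmetricAlgebra k V) _ _ (symComod (A := A) (V := V)) :=
  isCoactAlg_comodOfAlgHom _ _ _

/-- The lift of a comodule map into a coaction algebra is equivariant. -/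
theorem coact_lift {R : Type w'} [CommRing R] [Algebra k R] [HopfRep.Comod k A R]
    [GLin.IsCoactAlg k A R] (f : V →ₗ[k] R) (hf : Hoch.IsComodHom A f)
    (x : SymmetricAlgebra k V) :
    HopfRep.Comod.coact (k := k) (A := A) (SymmetricAlgebra.lift f x) =
      Algebra.TensorProduct.map (SymmetricAlgebra.lift f) (AlgHom.id k A)
        (symCoact (A := A) (V := V) x) := by
  have h : (GLin.coactAlgHom k A R).comp (SymmetricAlgebra.lift f) =
      (Algebra.TensorProduct.map (SymmetricAlgebra.lift f) (AlgHom.id k A)).comp
        (symCoact (A := A) (V := V)) := by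
    apply SymmetricAlgebra.algHom_ext
    apply LinearMap.ext
    intro v
    change HopfRep.Comod.coact (k := k) (A := A) (SymmetricAlgebra.lift f (SymmetricAlgebra.ι k V v)) =
      Algebra.TensorProduct.map (SymmetricAlgebra.lift f) (AlgHom.id k A)
        (symCoact (A := A) (V := V) (SymmetricAlgebra.ι k V v))
    rw [symCoact_ι, SymmetricAlgebra.lift_ι_apply]
    have h1 := LinearMap.congr_fun hf v
    simp only [LinearMap.comp_apply] at h1
    rw [h1]
    generalize HopfRep.Comod.coact (k := k) (A := A) v = t
    induction t using TensorProduct.induction_on with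
    | zero => simp
    | tmul y b => simp [SymmetricAlgebra.lift_ι_apply]
    | add y z hy hz => simp only [map_add, hy, hz]
  exact AlgHom.congr_fun h x

end Sym

section Loc

variable {k : Type u} [CommRing k] {A : Type v} [CommRing A] [Bialgebra k A]
  {P : Type w} [CommRing P] [Algebra k P] [HopfRep.Comod k A P] [GLin.IsCoactAlg k A P]
  (h : P) (L : Type w') [CommRing L] [Algebra P L] [Algebra k L] [IsScalarTower k P L]

/-- `P → P ⊗ A → L ⊗ A`. -/
noncomputable def locBase : P →ₐ[k] L ⊗[k] A :=
  (Algebra.TensorProduct.map (Algebra.algHom k P L) (AlgHom.id k A)).comp (GLin.coactAlgHom k A P)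

variable {h} in
theorem isUnit_locBase [IsLocalization.Away h L]
    (hh : HopfRep.Comod.coact (k := k) (A := A) h = h ⊗ₜ[k] (1 : A)) :
    IsUnit (locBase (k := k) (A := A) L h) := by
  have h1 : locBase (k := k) (A := A) L h = (algebraMap P L h) ⊗ₜ[k] (1 : A) := by
    simp only [locBase, AlgHom.comp_apply, GLin.coactAlgHom_apply, hh,
      Algebra.TensorProduct.map_tmul, AlgHom.coe_id, id_eq]
    rfl
  rw [h1]
  have hu := IsLocalization.Away.algebraMap_isUnit (S := L) h
  exact hu.map (Algebra.TensorProduct.includeLeft : L →ₐ[k] L ⊗[k] A)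

variable [IsLocalization.Away h L]
  (hh : HopfRep.Comod.coact (k := k) (A := A) h = h ⊗ₜ[k] (1 : A))

/-- The coaction on the localization at an invariant element. -/
noncomputable def locCoact : L →ₐ[k] L ⊗[k] A :=
  IsLocalization.Away.liftAlgHom h (f := locBase (k := k) (A := A) L) (isUnit_locBase L hh)

theorem locCoact_algebraMap (x : P) :
    locCoact h L hh (algebraMap P L x) =
      LinearMap.rTensor A (Algebra.algHom k P L).toLinearMap
        (HopfRep.Comod.coact (k := k) (A := A) x) := by
  unfold locCoact
  rw [IsLocalization.Away.liftAlgHom_apply, IsLocalization.Away.lift_eq]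
  rfl

theorem locCoact_h1 :
    ((Algebra.TensorProduct.assoc k k k L A A).toAlgHom.comp
        ((Algebra.TensorProduct.map (locCoact h L hh) (AlgHom.id k A)).comp (locCoact h L hh))) =
      (Algebra.TensorProduct.map (AlgHom.id k L) (Bialgebra.comulAlgHom k A)).comp
        (locCoact h L hh) := by
  apply IsLocalization.algHom_ext (Submonoid.powers h)
  apply AlgHom.ext
  intro x
  exact h1_apply_of_intertwine (Algebra.algHom k P L).toLinearMap (locCoact h L hh)
    (locCoact_algebraMap h L hh) x

theorem locCoact_h2 :
    (Algebra.TensorProduct.map (AlgHom.id k L) (Bialgebra.counitAlgHom k A)).comp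
        (locCoact h L hh) = Algebra.TensorProduct.includeLeft := by
  apply IsLocalization.algHom_ext (Submonoid.powers h)
  apply AlgHom.ext
  intro x
  exact h2_apply_of_intertwine (Algebra.algHom k P L).toLinearMap (locCoact h L hh)
    (locCoact_algebraMap h L hh) x

/-- The localization at an invariant element as a comodule. -/
@[reducible] noncomputable def locComod : HopfRep.Comod k A L :=
  comodOfAlgHom (locCoact h L hh) (locCoact_h1 h L hh) (locCoact_h2 h L hh)

theorem locComod_isCoactAlg :
    @GLin.IsCoactAlg k _ A _ _ L _ _ (locComod h L hh) :=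
  isCoactAlg_comodOfAlgHom _ _ _

/-- The lift of an equivariant algebra map inverting `h` is equivariant. -/
theorem coact_locLift {R : Type*} [CommRing R] [Algebra k R] [HopfRep.Comod k A R]
    [GLin.IsCoactAlg k A R] (f : P →ₐ[k] R)
    (hf : ∀ x, HopfRep.Comod.coact (k := k) (A := A) (f x) =
      Algebra.TensorProduct.map f (AlgHom.id k A) (HopfRep.Comod.coact (k := k) (A := A) x))
    (hu : IsUnit (f h)) (y : L) :
    HopfRep.Comod.coact (k := k) (A := A) (IsLocalization.Away.liftAlgHom h (f := f) hu y) =
      Algebra.TensorProduct.map (IsLocalization.Away.liftAlgHom (S := L) h (f := f) hu)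
        (AlgHom.id k A) (locCoact h L hh y) := by
  have key : (GLin.coactAlgHom k A R).comp (IsLocalization.Away.liftAlgHom (S := L) h (f := f) hu) =
      (Algebra.TensorProduct.map (IsLocalization.Away.liftAlgHom (S := L) h (f := f) hu)
        (AlgHom.id k A)).comp (locCoact h L hh) := by
    apply IsLocalization.algHom_ext (Submonoid.powers h)
    apply AlgHom.ext
    intro x
    change HopfRep.Comod.coact (k := k) (A := A)
        (IsLocalization.Away.liftAlgHom (S := L) h (f := f) hu (algebraMap P L x)) =
      Algebra.TensorProduct.map (IsLocalization.Away.liftAlgHom (S := L) h (f := f) hu)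
        (AlgHom.id k A) (locCoact h L hh (algebraMap P L x))
    rw [locCoact_algebraMap, IsLocalization.Away.liftAlgHom_apply, IsLocalization.Away.lift_eq]
    change HopfRep.Comod.coact (k := k) (A := A) (f x) = _
    rw [hf]
    generalize HopfRep.Comod.coact (k := k) (A := A) x = t
    induction t using TensorProduct.induction_on with
    | zero => simp
    | tmul p a =>
      simp only [Algebra.TensorProduct.map_tmul, LinearMap.rTensor_tmul, AlgHom.toLinearMap_apply,
        AlgHom.coe_id, id_eq]
      congr 1
      change f p = IsLocalization.Away.lift h hu (algebraMap P L p)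
      rw [IsLocalization.Away.lift_eq]
      rfl
    | add p q hp hq => simp only [map_add, hp, hq]
  exact AlgHom.congr_fun key y

end Loc

end Groth.Agent.H40.CoactAlgHom
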