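import Groth.Agent.H40.Diag
import Groth.Agent.Lib.Helper93.Comod
import Groth.Prelude.Def_ComodSub

/-! Helper lemmas (helper40): coefficient spaces of comodules over a coalgebra over a field,
simple subcomodules, isotypic arguments. -/

set_option autoImplicit false
universe u v w w' w''

open TensorProduct

namespace Groth.Agent.H40

section LSlice

variable {k : Type u} [Field k] {V : Type v} {C : Type w}
  [AddCommGroup V] [Module k V] [AddCommGroup C] [Module k C]

/-- `(ψ ⊗ id) t` read in `C`. -/
noncomputable def lslice (ψ : V →ₗ[k] k) : V ⊗[k] C →ₗ[k] C :=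
  (TensorProduct.lid k C).toLinearMap ∘ₗ LinearMap.rTensor C ψ

@[simp] theorem lslice_tmul (ψ : V →ₗ[k] k) (x : V) (c : C) :
    lslice ψ (x ⊗ₜ[k] c) = ψ x • c := by
  simp [lslice]

theorem lslice_add (ψ φ : V →ₗ[k] k) (t : V ⊗[k] C) :
    lslice (ψ + φ) t = lslice ψ t + lslice φ t := by
  induction t using TensorProduct.induction_on with
  | zero => simp
  | tmul x y => simp [add_smul]
  | add x y hx hy => simp only [map_add, hx, hy]; abel

theorem lslice_smul (a : k) (ψ : V →ₗ[k] k) (t : V ⊗[k] C) :
    lslice (a • ψ) t = a • lslice ψ t := by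
  induction t using TensorProduct.induction_on with
  | zero => simp
  | tmul x y => simp [smul_smul]
  | add x y hx hy => simp only [map_add, hx, hy, smul_add]

/-- Over a field, a tensor all of whose left slices lie in `D` lies in `V ⊗ D`. -/
theorem mem_range_lTensor_subtype_of_forall_lslice (D : Submodule k C) (t : V ⊗[k] C)
    (ht : ∀ ψ : V →ₗ[k] k, lslice ψ t ∈ D) :
    t ∈ LinearMap.range (LinearMap.lTensor V D.subtype) := by
  classical
  let b := Module.Free.chooseBasis k V
  let e := TensorProduct.equivFinsuppOfBasisLeft (N := C) b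
  have key : ∀ (s : V ⊗[k] C) i, e s i = lslice (b.coord i) s := by
    intro s i
    exact TensorProduct.equivFinsuppOfBasisLeft_apply b s i
  have h1 : t = e.symm (e t) := (e.symm_apply_apply t).symm
  rw [h1, TensorProduct.equivFinsuppOfBasisLeft_symm_apply]
  apply Submodule.sum_mem
  intro i _
  have hi : e t i ∈ D := by rw [key]; exact ht _
  exact ⟨b i ⊗ₜ[k] (⟨e t i, hi⟩ : D), by simp⟩

theorem lslice_lTensor {C' : Type w'} [AddCommGroup C'] [Module k C'] (β : C →ₗ[k] C')
    (ψ : V →ₗ[k] k) (t : V ⊗[k] C) :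
    lslice ψ (LinearMap.lTensor V β t) = β (lslice ψ t) := by
  induction t using TensorProduct.induction_on with
  | zero => simp
  | tmul x y => simp
  | add x y hx hy => simp only [map_add, hx, hy]

theorem lslice_rTensor {V' : Type w'} [AddCommGroup V'] [Module k V'] (f : V →ₗ[k] V')
    (ψ : V' →ₗ[k] k) (t : V ⊗[k] C) :
    lslice ψ (LinearMap.rTensor C f t) = lslice (ψ ∘ₗ f) t := by
  induction t using TensorProduct.induction_on with
  | zero => simp
  | tmul x y => simp
  | add x y hx hy => simp only [map_add, hx, hy]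

theorem lslice_mem_of_mem_range (D : Submodule k C) (t : V ⊗[k] C)
    (ht : t ∈ LinearMap.range (LinearMap.lTensor V D.subtype)) (ψ : V →ₗ[k] k) :
    lslice ψ t ∈ D := by
  obtain ⟨s, rfl⟩ := ht
  rw [lslice_lTensor]
  exact (lslice ψ s).2

theorem mem_range_lTensor_subtype_iff (D : Submodule k C) (t : V ⊗[k] C) :
    t ∈ LinearMap.range (LinearMap.lTensor V D.subtype) ↔ ∀ ψ : V →ₗ[k] k, lslice ψ t ∈ D :=
  ⟨fun h ψ => lslice_mem_of_mem_range D t h ψ, mem_range_lTensor_subtype_of_forall_lslice D t⟩

theorem mem_range_lTensor_inf (D₁ D₂ : Submodule k C) (t : V ⊗[k] C)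
    (h₁ : t ∈ LinearMap.range (LinearMap.lTensor V D₁.subtype))
    (h₂ : t ∈ LinearMap.range (LinearMap.lTensor V D₂.subtype)) :
    t ∈ LinearMap.range (LinearMap.lTensor V (D₁ ⊓ D₂).subtype) := by
  rw [mem_range_lTensor_subtype_iff] at h₁ h₂ ⊢
  exact fun ψ => ⟨h₁ ψ, h₂ ψ⟩

theorem mem_range_rTensor_inf (S₁ S₂ : Submodule k V) (t : V ⊗[k] C)
    (h₁ : t ∈ LinearMap.range (LinearMap.rTensor C S₁.subtype))
    (h₂ : t ∈ LinearMap.range (LinearMap.rTensor C S₂.subtype)) :
    t ∈ LinearMap.range (LinearMap.rTensor C (S₁ ⊓ S₂).subtype) := by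
  apply mem_range_rTensor_subtype_of_forall_slice
  intro ψ
  exact ⟨slice_mem_of_mem_range S₁ t h₁ ψ, slice_mem_of_mem_range S₂ t h₂ ψ⟩

/-- Over a field, `(S ⊗ C) ∩ (V ⊗ D) = S ⊗ D` inside `V ⊗ C`. -/
theorem mem_range_map_subtype_iff (S : Submodule k V) (D : Submodule k C) (t : V ⊗[k] C) :
    t ∈ LinearMap.range (TensorProduct.map S.subtype D.subtype) ↔
      t ∈ LinearMap.range (LinearMap.rTensor C S.subtype) ∧
        t ∈ LinearMap.range (LinearMap.lTensor V D.subtype) := by
  constructor
  · rintro ⟨s, rfl⟩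
    constructor
    · refine ⟨LinearMap.lTensor S D.subtype s, ?_⟩
      rw [← LinearMap.comp_apply, LinearMap.rTensor_comp_lTensor]
    · refine ⟨LinearMap.rTensor D S.subtype s, ?_⟩
      rw [← LinearMap.comp_apply, LinearMap.lTensor_comp_rTensor]
  · rintro ⟨⟨s, rfl⟩, h2⟩
    obtain ⟨π, hπ⟩ := LinearMap.exists_leftInverse_of_injective D.subtype
      (LinearMap.ker_eq_bot.2 D.injective_subtype)
    obtain ⟨r, hr⟩ := h2
    refine ⟨LinearMap.lTensor S π s, ?_⟩
    have e1 : LinearMap.lTensor V (D.subtype ∘ₗ π) (LinearMap.rTensor C S.subtype s) =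
        LinearMap.rTensor C S.subtype s := by
      rw [← hr, LinearMap.lTensor_comp, LinearMap.comp_apply, ← LinearMap.comp_apply (LinearMap.lTensor V π),
        ← LinearMap.lTensor_comp, hπ, LinearMap.lTensor_id, LinearMap.id_apply]
    have e2 : TensorProduct.map S.subtype D.subtype ∘ₗ LinearMap.lTensor S π =
        LinearMap.lTensor V (D.subtype ∘ₗ π) ∘ₗ LinearMap.rTensor C S.subtype := by
      apply TensorProduct.ext'
      intro x y
      simp
    rw [← LinearMap.comp_apply, e2, LinearMap.comp_apply, e1]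

end LSlice

section Coeff

variable {k : Type u} [Field k] {C : Type v} [AddCommGroup C] [Module k C] [Coalgebra k C]
  {V : Type w} [AddCommGroup V] [Module k V] [HopfRep.Comod k C V]

/-- The "matrix coefficient" map `v ↦ (ψ ⊗ id)(ρ v)`. -/
noncomputable def coeffMap (ψ : V →ₗ[k] k) : V →ₗ[k] C :=
  lslice ψ ∘ₗ HopfRep.Comod.coact (k := k) (A := C)

theorem coeffMap_apply (ψ : V →ₗ[k] k) (v : V) :
    coeffMap (C := C) ψ v = lslice ψ (HopfRep.Comod.coact (k := k) (A := C) v) := rfl

theorem coeffMap_add (ψ φ : V →ₗ[k] k) :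
    coeffMap (C := C) (ψ + φ) = coeffMap (C := C) ψ + coeffMap (C := C) φ := by
  apply LinearMap.ext
  intro v
  simp [coeffMap_apply, lslice_add]

theorem coeffMap_smul (a : k) (ψ : V →ₗ[k] k) :
    coeffMap (C := C) (a • ψ) = a • coeffMap (C := C) ψ := by
  apply LinearMap.ext
  intro v
  simp [coeffMap_apply, lslice_smul]

omit [Coalgebra k C] [HopfRep.Comod k C V] in
theorem lslice_assoc (ψ : V →ₗ[k] k) (u : (V ⊗[k] C) ⊗[k] C) :
    lslice ψ (TensorProduct.assoc k V C C u) = LinearMap.rTensor C (lslice ψ) u := by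
  induction u using TensorProduct.induction_on with
  | zero => simp
  | tmul t d =>
    induction t using TensorProduct.induction_on with
    | zero => simp
    | tmul x c => simp [TensorProduct.smul_tmul']
    | add a b ha hb => simp only [TensorProduct.add_tmul, map_add, ha, hb]
  | add a b ha hb => simp only [map_add, ha, hb]

/-- The coefficient map is a morphism of comodules to the regular comodule. -/
theorem isComodHom_coeffMap (ψ : V →ₗ[k] k) : Hoch.IsComodHom C (coeffMap (C := C) ψ) := by
  unfold Hoch.IsComodHom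
  apply LinearMap.ext
  intro v
  have hco := LinearMap.congr_fun (HopfRep.Comod.coassoc (k := k) (A := C) (V := V)) v
  simp only [LinearMap.comp_apply, LinearEquiv.coe_coe] at hco
  simp only [LinearMap.comp_apply]
  change Coalgebra.comul (R := k) (coeffMap (C := C) ψ v) = _
  rw [coeffMap_apply, ← lslice_lTensor, ← hco, lslice_assoc, coeffMap, LinearMap.rTensor_comp,
    LinearMap.comp_apply]

/-- The coefficient space of a submodule `S` of a comodule: the span of all `(ψ ⊗ id)(ρ s)`. -/
noncomputable def cfs (S : Submodule k V) : Submodule k C :=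
  ⨆ ψ : V →ₗ[k] k, S.map (coeffMap (C := C) ψ)

theorem coeffMap_mem_cfs (S : Submodule k V) (ψ : V →ₗ[k] k) {s : V} (hs : s ∈ S) :
    coeffMap (C := C) ψ s ∈ cfs (C := C) S :=
  Submodule.mem_iSup_of_mem ψ (Submodule.mem_map_of_mem hs)

theorem cfs_le_iff (S : Submodule k V) (D : Submodule k C) :
    cfs (C := C) S ≤ D ↔ ∀ s ∈ S, HopfRep.Comod.coact (k := k) (A := C) s ∈
      LinearMap.range (LinearMap.lTensor V D.subtype) := by
  constructor
  · intro h s hs
    apply mem_range_lTensor_subtype_of_forall_lslice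
    intro ψ
    exact h (coeffMap_mem_cfs S ψ hs)
  · intro h
    apply iSup_le
    intro ψ
    rw [Submodule.map_le_iff_le_comap]
    intro s hs
    exact lslice_mem_of_mem_range D _ (h s hs) ψ

theorem coact_mem_cfs (S : Submodule k V) {s : V} (hs : s ∈ S) :
    HopfRep.Comod.coact (k := k) (A := C) s ∈
      LinearMap.range (LinearMap.lTensor V (cfs (C := C) S).subtype) :=
  (cfs_le_iff S _).1 le_rfl s hs

theorem cfs_mono {S S' : Submodule k V} (h : S ≤ S') : cfs (C := C) S ≤ cfs (C := C) S' :=
  iSup_mono fun _ => Submodule.map_mono h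

theorem cfs_iSup {ι : Sort*} (S : ι → Submodule k V) :
    cfs (C := C) (⨆ i, S i) = ⨆ i, cfs (C := C) (S i) := by
  unfold cfs
  simp_rw [Submodule.map_iSup]
  exact iSup_comm

theorem isLeast_cfs_top :
    IsLeast {D' : Submodule k C | ∀ e : V, HopfRep.Comod.coact (k := k) (A := C) e ∈
      LinearMap.range (LinearMap.lTensor V D'.subtype)} (cfs (C := C) (⊤ : Submodule k V)) := by
  constructor
  · intro e
    exact coact_mem_cfs ⊤ Submodule.mem_top
  · intro D' hD'
    exact (cfs_le_iff ⊤ D').2 fun s _ => hD' s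

theorem eq_zero_of_coact_eq_zero (s : V) (h2 : HopfRep.Comod.coact (k := k) (A := C) s = 0) :
    s = 0 := by
  have h3 := coactSlice_counit (k := k) (C := C) s
  rw [coactSlice, LinearMap.comp_apply, h2, map_zero] at h3
  exact h3.symm

theorem eq_zero_of_coact_mem_range_bot (s : V)
    (h1 : HopfRep.Comod.coact (k := k) (A := C) s ∈
      LinearMap.range (LinearMap.lTensor V (⊥ : Submodule k C).subtype)) : s = 0 := by
  obtain ⟨r, hr⟩ := h1
  apply eq_zero_of_coact_eq_zero (k := k) (C := C)
  rw [← hr]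
  have : (⊥ : Submodule k C).subtype = 0 := by
    apply LinearMap.ext
    intro x
    exact (Submodule.mem_bot k).1 x.2
  rw [this, LinearMap.lTensor_zero, LinearMap.zero_apply]

/-- If the coefficient space vanishes then so does the submodule. -/
theorem eq_bot_of_cfs_eq_bot (S : Submodule k V) (h : cfs (C := C) S = ⊥) : S = ⊥ := by
  rw [eq_bot_iff]
  intro s hs
  have h1 := coact_mem_cfs (C := C) S hs
  rw [h] at h1
  obtain ⟨r, hr⟩ := h1
  have h2 : HopfRep.Comod.coact (k := k) (A := C) s = 0 := by
    rw [← hr]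
    have : (⊥ : Submodule k C).subtype = 0 := by
      apply LinearMap.ext
      intro x
      exact (Submodule.mem_bot k).1 x.2
    rw [this, LinearMap.lTensor_zero, LinearMap.zero_apply]
  have h3 := coactSlice_counit (k := k) (C := C) s
  rw [coactSlice, LinearMap.comp_apply, h2, map_zero] at h3
  rw [Submodule.mem_bot]
  exact h3.symm

/-- The predicate "subcoalgebra" used in the statements. -/
def IsSubcoalg (D : Submodule k C) : Prop :=
  ∀ b ∈ D, Coalgebra.comul (R := k) b ∈
    LinearMap.range (TensorProduct.map D.subtype D.subtype)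

/-- The coefficient space of a subcomodule is a subcoalgebra. -/
theorem isSubcoalg_cfs (S : Submodule k V) (hS : HopfRep.IsSubcomod (k := k) (A := C) S) :
    IsSubcoalg (cfs (C := C) S) := by
  intro b hb
  unfold cfs at hb
  induction hb using Submodule.iSup_induction' with
  | mem ψ x hx =>
    obtain ⟨s, hs, rfl⟩ := hx
    have hc := LinearMap.congr_fun (isComodHom_coeffMap (C := C) ψ) s
    simp only [LinearMap.comp_apply] at hc
    change Coalgebra.comul (R := k) (coeffMap (C := C) ψ s) = _ at hc
    rw [hc, mem_range_map_subtype_iff]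
    constructor
    · obtain ⟨s', hs'⟩ := hS s hs
      rw [← hs', ← LinearMap.comp_apply, ← LinearMap.rTensor_comp]
      have hmem : ∀ x : S, (coeffMap (C := C) ψ ∘ₗ S.subtype) x ∈ cfs (C := C) S :=
        fun x => coeffMap_mem_cfs S ψ x.2
      have hfac : coeffMap (C := C) ψ ∘ₗ S.subtype =
          (cfs (C := C) S).subtype ∘ₗ LinearMap.codRestrict _ _ hmem := by
        apply LinearMap.ext
        intro x
        rfl
      rw [hfac, LinearMap.rTensor_comp, LinearMap.comp_apply]
      exact ⟨_, rfl⟩
    · obtain ⟨r, hr⟩ := coact_mem_cfs (C := C) S hs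
      rw [← hr, ← LinearMap.comp_apply, LinearMap.rTensor_comp_lTensor,
        ← LinearMap.lTensor_comp_rTensor, LinearMap.comp_apply]
      exact ⟨_, rfl⟩
  | zero =>
    rw [map_zero]
    exact Submodule.zero_mem _
  | add x y _ _ hx hy =>
    rw [map_add]
    exact Submodule.add_mem _ hx hy

/-- A subspace of the regular comodule is contained in its coefficient space. -/
theorem le_cfs_regular (S : Submodule k C) : S ≤ cfs (C := C) (V := C) S := by
  intro s hs
  have h := coeffMap_mem_cfs (C := C) S (Coalgebra.counit (R := k) (A := C)) hs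
  have e : coeffMap (C := C) (V := C) (Coalgebra.counit (R := k) (A := C)) s = s := by
    rw [coeffMap_apply]
    change lslice _ (Coalgebra.comul (R := k) s) = s
    rw [lslice, LinearMap.comp_apply, Coalgebra.rTensor_counit_comul]
    simp
  rwa [e] at h

/-- A subcoalgebra is a subcomodule of the regular comodule. -/
theorem isSubcomod_of_isSubcoalg (D : Submodule k C) (hD : IsSubcoalg D) :
    HopfRep.IsSubcomod (k := k) (A := C) (V := C) D := by
  intro b hb
  exact ((mem_range_map_subtype_iff D D _).1 (hD b hb)).1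

/-- The coefficient space of a subspace of a subcoalgebra lies in the subcoalgebra. -/
theorem cfs_le_of_le_isSubcoalg (D : Submodule k C) (hD : IsSubcoalg D) (S : Submodule k C)
    (hSD : S ≤ D) : cfs (C := C) (V := C) S ≤ D := by
  rw [cfs_le_iff]
  intro s hs
  exact ((mem_range_map_subtype_iff D D _).1 (hD s (hSD hs))).2

theorem isSubcoalg_inf (D₁ D₂ : Submodule k C) (h₁ : IsSubcoalg D₁) (h₂ : IsSubcoalg D₂) :
    IsSubcoalg (D₁ ⊓ D₂) := by
  intro b hb
  have a1 := (mem_range_map_subtype_iff D₁ D₁ _).1 (h₁ b hb.1)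
  have a2 := (mem_range_map_subtype_iff D₂ D₂ _).1 (h₂ b hb.2)
  rw [mem_range_map_subtype_iff]
  exact ⟨mem_range_rTensor_inf _ _ _ a1.1 a2.1, mem_range_lTensor_inf _ _ _ a1.2 a2.2⟩

end Coeff

end Groth.Agent.H40
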