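import Groth.Agent.H40.Coeff

/-! Helper lemmas (helper40): coefficient spaces, part 2: finiteness, functoriality, simple
subcomodules and the isotypic argument. -/

set_option autoImplicit false
universe u v w w' w''

open TensorProduct

namespace Groth.Agent.H40

section Coeff2

variable {k : Type u} [Field k] {C : Type v} [AddCommGroup C] [Module k C] [Coalgebra k C]
  {V : Type w} [AddCommGroup V] [Module k V] [HopfRep.Comod k C V]

/-- The coefficient space of a finite-dimensional subspace is finite-dimensional. -/
theorem finite_cfs (S : Submodule k V) [Module.Finite k S] : Module.Finite k (cfs (C := C) S) := by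
  classical
  obtain ⟨G, hG⟩ : S.FG := (Submodule.fg_iff_finiteDimensional S).2 inferInstance
  choose F hF using fun v : V => TensorProduct.exists_finset (HopfRep.Comod.coact (k := k) (A := C) v)
  let T : Finset C := G.biUnion fun g => (F g).image Prod.snd
  let D₀ : Submodule k C := Submodule.span k (T : Set C)
  have hD₀ : Module.Finite k D₀ := FiniteDimensional.span_finset k T
  have hle : cfs (C := C) S ≤ D₀ := by
    rw [cfs_le_iff]
    have hsub : S ≤ (LinearMap.range (LinearMap.lTensor V D₀.subtype)).comap
        (HopfRep.Comod.coact (k := k) (A := C)) := by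
      rw [← hG, Submodule.span_le]
      intro g hg
      rw [SetLike.mem_coe, Submodule.mem_comap, hF g]
      apply Submodule.sum_mem
      intro i hi
      have hiT : i.2 ∈ D₀ := by
        apply Submodule.subset_span
        rw [Finset.mem_coe, Finset.mem_biUnion]
        exact ⟨g, hg, Finset.mem_image_of_mem _ hi⟩
      exact ⟨i.1 ⊗ₜ[k] (⟨i.2, hiT⟩ : D₀), by simp⟩
    intro s hs
    exact hsub hs
  exact Submodule.finiteDimensional_of_le hle

end Coeff2

end Groth.Agent.H40
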