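import Groth.Agent.H40.Coeff2

/-! Helper lemmas (helper40): simple subcomodules. -/

set_option autoImplicit false
universe u v w w' w''

open TensorProduct

namespace Groth.Agent.H40

section SimpleSub

variable {k : Type u} [Field k] {C : Type v} [AddCommGroup C] [Module k C] [Coalgebra k C]
  {V : Type w} [AddCommGroup V] [Module k V] [HopfRep.Comod k C V]

/-- A simple subcomodule: a nonzero subcomodule with no proper nonzero subcomodules. -/
def IsSimpleSub (S : Submodule k V) : Prop :=
  S ≠ ⊥ ∧ HopfRep.IsSubcomod (k := k) (A := C) S ∧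
    ∀ S' : Submodule k V, HopfRep.IsSubcomod (k := k) (A := C) S' → S' ≤ S → S' = ⊥ ∨ S' = S

/-- Every nonzero subcomodule contains a simple subcomodule. -/
theorem exists_simpleSub_le (B : Submodule k V) (hB : HopfRep.IsSubcomod (k := k) (A := C) B)
    (hB0 : B ≠ ⊥) : ∃ S : Submodule k V, S ≤ B ∧ IsSimpleSub (C := C) S := by
  obtain ⟨b, hbB, hb0⟩ := Submodule.exists_mem_ne_zero_of_ne_bot hB0
  obtain ⟨W, hWf, hbW, hWs⟩ := exists_finite_subcomod_mem (k := k) (C := C) (V := V) b
  have hfin : Module.Finite k ↥(W ⊓ B) := Submodule.finiteDimensional_inf_left W B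
  have hne : W ⊓ B ≠ ⊥ := by
    intro h
    have : b ∈ W ⊓ B := ⟨hbW, hbB⟩
    rw [h, Submodule.mem_bot] at this
    exact hb0 this
  have hsub : HopfRep.IsSubcomod (k := k) (A := C) (W ⊓ B) :=
    Groth.Agent.Lib.Helper93.Comod.isSubcomod_inf W B hWs hB
  obtain ⟨S, hSle, hS0, hS, hmin⟩ := exists_minimal_subcomod (k := k) (C := C) (W ⊓ B) hne hsub
  exact ⟨S, hSle.trans inf_le_right, hS0, hS, hmin⟩

end SimpleSub

end Groth.Agent.H40
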