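import Groth.Agent.H40.Coeff3

/-! Helper lemmas (helper40): isotypic arguments for simple subcomodules. -/

set_option autoImplicit false
universe u v w w' w''

open TensorProduct

namespace Groth.Agent.H40

open Groth.Agent.Lib.Helper93.Comod

section Iso

variable {k : Type u} [Field k] {C : Type v} [AddCommGroup C] [Module k C] [Coalgebra k C]
  {V : Type w} [AddCommGroup V] [Module k V] [HopfRep.Comod k C V]

omit [Coalgebra k C] [HopfRep.Comod k C V] in
theorem lslice_zero (t : V ⊗[k] C) : lslice (0 : V →ₗ[k] k) t = 0 := by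
  simp [lslice]

/-- A functional agreeing with `ψ` on `S` and vanishing on `T`, for disjoint `S`, `T`. -/
theorem exists_functional_of_disjoint (S T : Submodule k V) (hdisj : Disjoint S T)
    (ψ : V →ₗ[k] k) :
    ∃ ψ' : V →ₗ[k] k, (∀ s ∈ S, ψ' s = ψ s) ∧ ∀ t ∈ T, ψ' t = 0 := by
  have hinj : LinearMap.ker (T.mkQ ∘ₗ S.subtype) = ⊥ := by
    rw [eq_bot_iff]
    intro x hx
    rw [LinearMap.mem_ker, LinearMap.comp_apply, Submodule.mkQ_apply,
      Submodule.Quotient.mk_eq_zero] at hx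
    have : (x : V) ∈ S ⊓ T := ⟨x.2, hx⟩
    rw [hdisj.eq_bot, Submodule.mem_bot] at this
    rw [Submodule.mem_bot]
    exact Subtype.ext this
  obtain ⟨π, hπ⟩ := LinearMap.exists_leftInverse_of_injective _ hinj
  refine ⟨ψ ∘ₗ S.subtype ∘ₗ π ∘ₗ T.mkQ, ?_, ?_⟩
  · intro s hs
    have := LinearMap.congr_fun hπ ⟨s, hs⟩
    simp only [LinearMap.comp_apply, Submodule.subtype_apply, LinearMap.id_apply] at this
    simp only [LinearMap.comp_apply]
    rw [this]
    rfl
  · intro t ht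
    simp only [LinearMap.comp_apply]
    have : T.mkQ t = 0 := by
      rw [Submodule.mkQ_apply, Submodule.Quotient.mk_eq_zero]
      exact ht
    rw [this, map_zero, map_zero, map_zero]

theorem coeffMap_eq_of_eqOn (S : Submodule k V) (hS : HopfRep.IsSubcomod (k := k) (A := C) S)
    (ψ ψ' : V →ₗ[k] k) (h : ∀ s ∈ S, ψ' s = ψ s) {s : V} (hs : s ∈ S) :
    coeffMap (C := C) ψ' s = coeffMap (C := C) ψ s := by
  obtain ⟨s', hs'⟩ := hS s hs
  rw [coeffMap_apply, coeffMap_apply, ← hs', lslice_rTensor, lslice_rTensor]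
  have : ψ' ∘ₗ S.subtype = ψ ∘ₗ S.subtype := by
    apply LinearMap.ext
    intro x
    exact h x x.2
  rw [this]

/-- Comparison of coefficient spaces along a common complement. -/
theorem cfs_le_of_le_sup_disjoint (S S' T : Submodule k V)
    (hS : HopfRep.IsSubcomod (k := k) (A := C) S) (hT : HopfRep.IsSubcomod (k := k) (A := C) T)
    (hdisj : Disjoint S T) (hle : S ≤ S' ⊔ T) : cfs (C := C) S ≤ cfs (C := C) S' := by
  unfold cfs
  apply iSup_le
  intro ψ
  rw [Submodule.map_le_iff_le_comap]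
  intro s hs
  rw [Submodule.mem_comap]
  obtain ⟨ψ', h1, h2⟩ := exists_functional_of_disjoint S T hdisj ψ
  rw [← coeffMap_eq_of_eqOn S hS ψ ψ' h1 hs]
  obtain ⟨a, ha, t, ht, rfl⟩ := Submodule.mem_sup.1 (hle hs)
  have h0 : coeffMap (C := C) ψ' t = 0 := by
    rw [coeffMap_eq_of_eqOn T hT 0 ψ' (fun t ht => by rw [h2 t ht]; rfl) ht, coeffMap_apply,
      lslice_zero]
  rw [map_add, h0, add_zero]
  exact Submodule.mem_iSup_of_mem ψ' (Submodule.mem_map_of_mem ha)

/-- The key isotypic lemma: a simple subcomodule inside a sum of simple subcomodules shares a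
complement with one of them. -/
theorem exists_disjoint_of_le_iSup {ι : Type*} (S : Submodule k V) (hS : IsSimpleSub (C := C) S)
    (Sf : ι → Submodule k V) (hSf : ∀ i, IsSimpleSub (C := C) (Sf i)) (hle : S ≤ ⨆ i, Sf i) :
    ∃ i, ∃ T : Submodule k V, HopfRep.IsSubcomod (k := k) (A := C) T ∧ Disjoint S T ∧
      Disjoint (Sf i) T ∧ Sf i ≤ S ⊔ T ∧ S ≤ Sf i ⊔ T := by
  classical
  obtain ⟨hS0, hSs, hSmin⟩ := hS
  obtain ⟨s, hsS, hs0⟩ := Submodule.exists_mem_ne_zero_of_ne_bot hS0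
  obtain ⟨I, hI⟩ := Submodule.exists_finset_of_mem_iSup Sf (hle hsS)
  let P : Finset ι → Prop := fun I => ¬ Disjoint S (⨆ i ∈ I, Sf i)
  have hPI : P I := by
    intro hd
    have : s ∈ S ⊓ ⨆ i ∈ I, Sf i := ⟨hsS, hI⟩
    rw [hd.eq_bot, Submodule.mem_bot] at this
    exact hs0 this
  obtain ⟨I₀, hP₀, hmin⟩ := WellFounded.has_min (measure (Finset.card (α := ι))).wf
    {I | P I} ⟨I, hPI⟩
  have hne : I₀.Nonempty := by
    rw [Finset.nonempty_iff_ne_empty]
    rintro rfl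
    apply hP₀
    simp
  obtain ⟨i₀, hi₀⟩ := hne
  let T : Submodule k V := ⨆ i ∈ I₀.erase i₀, Sf i
  have hTs : HopfRep.IsSubcomod (k := k) (A := C) T :=
    isSubcomod_iSup _ fun i => isSubcomod_iSup _ fun _ => (hSf i).2.1
  have hdisjT : Disjoint S T := by
    by_contra hcon
    exact hmin (I₀.erase i₀) hcon (Finset.card_erase_lt_of_mem hi₀)
  have hsplit : (⨆ i ∈ I₀, Sf i) = Sf i₀ ⊔ T := by
    conv_lhs => rw [← Finset.insert_erase hi₀]
    rw [Finset.iSup_insert]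
  have hSle : S ≤ Sf i₀ ⊔ T := by
    rw [← hsplit]
    have hinf : S ⊓ (⨆ i ∈ I₀, Sf i) ≠ ⊥ := fun h => hP₀ (disjoint_iff.2 h)
    have hsub : HopfRep.IsSubcomod (k := k) (A := C) (S ⊓ ⨆ i ∈ I₀, Sf i) :=
      isSubcomod_inf _ _ hSs
        (isSubcomod_iSup _ fun i => isSubcomod_iSup _ fun _ => (hSf i).2.1)
    rcases hSmin _ hsub inf_le_left with h | h
    · exact absurd h hinf
    · exact inf_eq_left.1 h
  have hdisj2 : Disjoint (Sf i₀) T := by
    rw [disjoint_iff]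
    rcases (hSf i₀).2.2 _ (isSubcomod_inf _ _ (hSf i₀).2.1 hTs) inf_le_left with h | h
    · exact h
    · exfalso
      have h1 : Sf i₀ ≤ T := inf_eq_left.1 h
      have h2 : S ≤ T := hSle.trans (sup_le h1 le_rfl)
      have h3 : S ⊓ T = S := inf_eq_left.2 h2
      rw [hdisjT.eq_bot] at h3
      exact hS0 h3.symm
  refine ⟨i₀, T, hTs, hdisjT, hdisj2, ?_, hSle⟩
  rcases (hSf i₀).2.2 _ (isSubcomod_inf _ _ (hSf i₀).2.1 (isSubcomod_sup _ _ hSs hTs))
    inf_le_left with h | h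
  · exfalso
    obtain ⟨a, ha, t, ht, hat⟩ := Submodule.mem_sup.1 (hSle hsS)
    have ha' : a ∈ Sf i₀ ⊓ (S ⊔ T) := by
      refine ⟨ha, ?_⟩
      have : a = s - t := by rw [← hat]; abel
      rw [this]
      exact Submodule.sub_mem _ (Submodule.mem_sup_left hsS) (Submodule.mem_sup_right ht)
    rw [h, Submodule.mem_bot] at ha'
    rw [ha', zero_add] at hat
    have : s ∈ S ⊓ T := ⟨hsS, hat ▸ ht⟩
    rw [hdisjT.eq_bot, Submodule.mem_bot] at this
    exact hs0 this
  · exact inf_eq_left.1 h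

theorem exists_cfs_eq_of_le_iSup {ι : Type*} (S : Submodule k V) (hS : IsSimpleSub (C := C) S)
    (Sf : ι → Submodule k V) (hSf : ∀ i, IsSimpleSub (C := C) (Sf i)) (hle : S ≤ ⨆ i, Sf i) :
    ∃ i, cfs (C := C) S = cfs (C := C) (Sf i) := by
  obtain ⟨i, T, hT, h1, h2, h3, h4⟩ := exists_disjoint_of_le_iSup S hS Sf hSf hle
  exact ⟨i, le_antisymm (cfs_le_of_le_sup_disjoint S (Sf i) T hS.2.1 hT h1 h4)
    (cfs_le_of_le_sup_disjoint (Sf i) S T (hSf i).2.1 hT h2 h3)⟩

end Iso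

end Groth.Agent.H40
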