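import Groth.Agent.H40.Coeff4

/-! Helper lemmas (helper40): coefficient spaces and comodule maps; simple comodules. -/

set_option autoImplicit false
universe u v w w' w''

open TensorProduct

namespace Groth.Agent.H40

open Groth.Agent.Lib.Helper93.Comod

section Maps

variable {k : Type u} [Field k] {C : Type v} [AddCommGroup C] [Module k C] [Coalgebra k C]
  {V : Type w} [AddCommGroup V] [Module k V] [HopfRep.Comod k C V]
  {V' : Type w'} [AddCommGroup V'] [Module k V'] [HopfRep.Comod k C V']

theorem coeffMap_comp_of_isComodHom (f : V →ₗ[k] V') (hf : Hoch.IsComodHom C f)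
    (ψ : V' →ₗ[k] k) : coeffMap (C := C) ψ ∘ₗ f = coeffMap (C := C) (ψ ∘ₗ f) := by
  apply LinearMap.ext
  intro v
  have hc := LinearMap.congr_fun hf v
  simp only [LinearMap.comp_apply] at hc
  rw [LinearMap.comp_apply, coeffMap_apply, hc, lslice_rTensor, coeffMap_apply]

theorem cfs_map_le (f : V →ₗ[k] V') (hf : Hoch.IsComodHom C f) (S : Submodule k V) :
    cfs (C := C) (S.map f) ≤ cfs (C := C) S := by
  unfold cfs
  apply iSup_le
  intro ψ
  rw [← Submodule.map_comp, coeffMap_comp_of_isComodHom f hf]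
  exact le_iSup (fun φ : V →ₗ[k] k => S.map (coeffMap (C := C) φ)) (ψ ∘ₗ f)

theorem cfs_map_eq_of_injective (f : V →ₗ[k] V') (hf : Hoch.IsComodHom C f)
    (hinj : Function.Injective f) (S : Submodule k V) :
    cfs (C := C) (S.map f) = cfs (C := C) S := by
  apply le_antisymm (cfs_map_le f hf S)
  obtain ⟨g, hg⟩ := LinearMap.exists_leftInverse_of_injective f (LinearMap.ker_eq_bot.2 hinj)
  unfold cfs
  apply iSup_le
  intro ψ
  have e : coeffMap (C := C) ψ = coeffMap (C := C) (ψ ∘ₗ g) ∘ₗ f := by
    rw [coeffMap_comp_of_isComodHom f hf, LinearMap.comp_assoc, hg, LinearMap.comp_id]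
  rw [e, Submodule.map_comp]
  exact le_iSup (fun φ : V' →ₗ[k] k => (S.map f).map (coeffMap (C := C) φ)) (ψ ∘ₗ g)

theorem cfs_range_eq_of_injective (f : V →ₗ[k] V') (hf : Hoch.IsComodHom C f)
    (hinj : Function.Injective f) :
    cfs (C := C) (LinearMap.range f) = cfs (C := C) (⊤ : Submodule k V) := by
  rw [← Submodule.map_top, cfs_map_eq_of_injective f hf hinj]

/-- A comodule map out of a simple comodule is zero or injective. -/
theorem eq_zero_or_injective_of_isSimpleComod (hV : HopfRep.IsSimpleComod k C V)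
    (f : V →ₗ[k] V') (hf : Hoch.IsComodHom C f) : f = 0 ∨ Function.Injective f := by
  rcases hV.2 (LinearMap.ker f) (isSubcomod_ker f hf) with h | h
  · right
    exact LinearMap.ker_eq_bot.1 h
  · left
    exact LinearMap.ker_eq_top.1 h

/-- The image of a nonzero comodule map out of a simple comodule is a simple subcomodule. -/
theorem isSimpleSub_range (hV : HopfRep.IsSimpleComod k C V)
    (f : V →ₗ[k] V') (hf : Hoch.IsComodHom C f) (hf0 : f ≠ 0) :
    IsSimpleSub (C := C) (LinearMap.range f) := by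
  refine ⟨?_, isSubcomod_range f hf, ?_⟩
  · intro h
    exact hf0 (LinearMap.range_eq_bot.1 h)
  · intro S' hS' hle
    rcases hV.2 (S'.comap f) (isSubcomod_comap f hf S' hS') with h | h
    · left
      rw [← Submodule.map_comap_eq_of_le hle, h, Submodule.map_bot]
    · right
      rw [← Submodule.map_comap_eq_of_le hle, h, Submodule.map_top]

/-- Projecting a comodule map to `S` along a complementary subcomodule `T`. -/
theorem exists_proj_hom (f : V →ₗ[k] V') (hf : Hoch.IsComodHom C f) (S T : Submodule k V')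
    (hS : HopfRep.IsSubcomod (k := k) (A := C) S) (hT : HopfRep.IsSubcomod (k := k) (A := C) T)
    (hdisj : Disjoint S T) (hle : LinearMap.range f ≤ S ⊔ T) :
    ∃ g : V →ₗ[k] V', Hoch.IsComodHom C g ∧ LinearMap.range g ≤ S ∧ ∀ x, f x - g x ∈ T := by
  have hinj : LinearMap.ker (T.mkQ ∘ₗ S.subtype) = ⊥ := by
    rw [eq_bot_iff]
    intro x hx
    rw [LinearMap.mem_ker, LinearMap.comp_apply, Submodule.mkQ_apply,
      Submodule.Quotient.mk_eq_zero] at hx
    have : (x : V') ∈ S ⊓ T := ⟨x.2, hx⟩
    rw [hdisj.eq_bot, Submodule.mem_bot] at this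
    rw [Submodule.mem_bot]
    exact Subtype.ext this
  obtain ⟨π, hπ⟩ := LinearMap.exists_leftInverse_of_injective _ hinj
  let g : V →ₗ[k] V' := S.subtype ∘ₗ π ∘ₗ T.mkQ ∘ₗ f
  have hgS : ∀ x, g x ∈ S := fun x => (π (T.mkQ (f x))).2
  have hgT : ∀ x, f x - g x ∈ T := by
    intro x
    obtain ⟨a, ha, t, ht, hat⟩ := Submodule.mem_sup.1 (hle ⟨x, rfl⟩)
    have h1 : T.mkQ (f x) = (T.mkQ ∘ₗ S.subtype) ⟨a, ha⟩ := by
      rw [← hat, map_add, LinearMap.comp_apply]
      have : T.mkQ t = 0 := by
        rw [Submodule.mkQ_apply, Submodule.Quotient.mk_eq_zero]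
        exact ht
      rw [this, add_zero]
      rfl
    have h2 : g x = a := by
      change S.subtype (π (T.mkQ (f x))) = a
      rw [h1]
      have := LinearMap.congr_fun hπ ⟨a, ha⟩
      rw [LinearMap.comp_apply] at this
      rw [this]
      rfl
    rw [h2, ← hat]
    simpa using ht
  have huniq : ∀ a ∈ S, ∀ a' ∈ S, a - a' ∈ T → a = a' := by
    intro a ha a' ha' h
    have : a - a' ∈ S ⊓ T := ⟨Submodule.sub_mem _ ha ha', h⟩
    rw [hdisj.eq_bot, Submodule.mem_bot, sub_eq_zero] at this
    exact this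
  refine ⟨g, ?_, ?_, hgT⟩
  · rw [isComodHom_iff]
    intro φ x
    apply huniq _ (dualAct_mem_of_isSubcomod S hS φ _ (hgS x)) _ (hgS _)
    have e1 : dualAct C V' φ (f x) = f (dualAct C V φ x) := dualAct_comm_of_isComodHom f hf φ x
    have e2 : dualAct C V' φ (g x) - g (dualAct C V φ x) =
        (f (dualAct C V φ x) - g (dualAct C V φ x)) - dualAct C V' φ (f x - g x) := by
      rw [map_sub, ← e1]
      abel
    rw [e2]
    exact Submodule.sub_mem _ (hgT _) (dualAct_mem_of_isSubcomod T hT φ _ (hgT x))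
  · rintro _ ⟨x, rfl⟩
    exact hgS x

/-- Two injective comodule maps with the same image have isomorphic sources. -/
theorem exists_equiv_of_range_eq {X : Type w''} [AddCommGroup X] [Module k X]
    [HopfRep.Comod k C X] (f : V →ₗ[k] X) (f' : V' →ₗ[k] X)
    (hf : Hoch.IsComodHom C f) (hf' : Hoch.IsComodHom C f')
    (hinj : Function.Injective f) (hinj' : Function.Injective f')
    (hr : LinearMap.range f = LinearMap.range f') :
    ∃ e : V ≃ₗ[k] V', Hoch.IsComodHom C e.toLinearMap ∧ ∀ x, f' (e x) = f x := by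
  let e : V ≃ₗ[k] V' := (LinearEquiv.ofInjective f hinj).trans
    ((LinearEquiv.ofEq _ _ hr).trans (LinearEquiv.ofInjective f' hinj').symm)
  have he : ∀ x, f' (e x) = f x := by
    intro x
    have h1 : ((LinearEquiv.ofInjective f' hinj') (e x) : X) = f x := by
      change ((LinearEquiv.ofInjective f' hinj') ((LinearEquiv.ofInjective f' hinj').symm _) : X) = _
      rw [LinearEquiv.apply_symm_apply]
      rfl
    exact h1
  refine ⟨e, ?_, he⟩
  rw [isComodHom_iff]
  intro φ x
  apply hinj'
  change f' (dualAct C V' φ (e x)) = f' (e (dualAct C V φ x))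
  rw [← dualAct_comm_of_isComodHom f' hf', he, he, dualAct_comm_of_isComodHom f hf]

end Maps

end Groth.Agent.H40
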