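import Groth.Agent.H40.Coeff5

/-! Helper lemmas (helper40): the coefficient coalgebra of a simple comodule is simple. -/

set_option autoImplicit false
universe u v w w' w''

open TensorProduct

namespace Groth.Agent.H40

open Groth.Agent.Lib.Helper93.Comod

section SimpleCoeff

variable {k : Type u} [Field k] {C : Type v} [AddCommGroup C] [Module k C] [Coalgebra k C]
  {E : Type w} [AddCommGroup E] [Module k E] [HopfRep.Comod k C E]

theorem cfs_top_eq_iSup_range :
    cfs (C := C) (⊤ : Submodule k E) =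
      ⨆ ψ : {ψ : E →ₗ[k] k // coeffMap (C := C) ψ ≠ 0}, LinearMap.range (coeffMap (C := C) ψ.1) := by
  unfold cfs
  simp_rw [Submodule.map_top]
  apply le_antisymm
  · apply iSup_le
    intro ψ
    by_cases h : coeffMap (C := C) ψ = 0
    · rw [h, LinearMap.range_zero]
      exact bot_le
    · exact le_iSup (fun ψ : {ψ : E →ₗ[k] k // coeffMap (C := C) ψ ≠ 0} =>
        LinearMap.range (coeffMap (C := C) ψ.1)) ⟨ψ, h⟩
  · apply iSup_le
    intro ψ
    exact le_iSup (fun ψ : E →ₗ[k] k => LinearMap.range (coeffMap (C := C) ψ)) ψ.1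

/-- A simple subcomodule of the regular comodule inside the coefficient space of a simple comodule
`E` is the image of an injective comodule map from `E`. -/
theorem exists_hom_of_simpleSub_le (hE : HopfRep.IsSimpleComod k C E) (S : Submodule k C)
    (hS : IsSimpleSub (C := C) (V := C) S) (hle : S ≤ cfs (C := C) (⊤ : Submodule k E)) :
    ∃ g : E →ₗ[k] C, Hoch.IsComodHom C g ∧ Function.Injective g ∧ LinearMap.range g = S := by
  rw [cfs_top_eq_iSup_range] at hle
  obtain ⟨ψ, T, hT, h1, h2, h3, -⟩ := exists_disjoint_of_le_iSup (C := C) S hS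
    (fun ψ : {ψ : E →ₗ[k] k // coeffMap (C := C) ψ ≠ 0} => LinearMap.range (coeffMap (C := C) ψ.1))
    (fun ψ => isSimpleSub_range hE _ (isComodHom_coeffMap ψ.1) ψ.2) hle
  have hfinj : Function.Injective (coeffMap (C := C) ψ.1) :=
    (eq_zero_or_injective_of_isSimpleComod hE _ (isComodHom_coeffMap ψ.1)).resolve_left ψ.2
  obtain ⟨g, hg, hgS, hgT⟩ := exists_proj_hom (coeffMap (C := C) ψ.1) (isComodHom_coeffMap ψ.1)
    S T hS.2.1 hT h1 h3
  have hginj : Function.Injective g := by
    rw [← LinearMap.ker_eq_bot, eq_bot_iff]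
    intro x hx
    rw [LinearMap.mem_ker] at hx
    have h4 := hgT x
    rw [hx, sub_zero] at h4
    have h5 : coeffMap (C := C) ψ.1 x ∈ LinearMap.range (coeffMap (C := C) ψ.1) ⊓ T :=
      ⟨⟨x, rfl⟩, h4⟩
    rw [h2.eq_bot, Submodule.mem_bot] at h5
    rw [Submodule.mem_bot]
    exact hfinj (h5.trans (map_zero _).symm)
  refine ⟨g, hg, hginj, ?_⟩
  rcases hS.2.2 _ (isSubcomod_range g hg) hgS with h | h
  · exfalso
    have hE' := hE.1
    obtain ⟨x, hx⟩ := exists_ne (0 : E)
    have : g x ∈ LinearMap.range g := ⟨x, rfl⟩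
    rw [h, Submodule.mem_bot] at this
    exact hx (hginj (this.trans (map_zero _).symm))
  · exact h

theorem cfs_eq_of_simpleSub_le (hE : HopfRep.IsSimpleComod k C E) (S : Submodule k C)
    (hS : IsSimpleSub (C := C) (V := C) S) (hle : S ≤ cfs (C := C) (⊤ : Submodule k E)) :
    cfs (C := C) (V := C) S = cfs (C := C) (⊤ : Submodule k E) := by
  obtain ⟨g, hg, hginj, hgr⟩ := exists_hom_of_simpleSub_le hE S hS hle
  rw [← hgr, cfs_range_eq_of_injective g hg hginj]

/-- The coefficient space of a simple comodule is a simple subcoalgebra. -/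
theorem cfs_top_simple (hE : HopfRep.IsSimpleComod k C E) :
    cfs (C := C) (⊤ : Submodule k E) ≠ ⊥ ∧ IsSubcoalg (cfs (C := C) (⊤ : Submodule k E)) ∧
      ∀ B : Submodule k C, B ≤ cfs (C := C) (⊤ : Submodule k E) → IsSubcoalg B →
        B = ⊥ ∨ B = cfs (C := C) (⊤ : Submodule k E) := by
  refine ⟨?_, isSubcoalg_cfs ⊤ isSubcomod_top, ?_⟩
  · intro h
    have := eq_bot_of_cfs_eq_bot (C := C) (⊤ : Submodule k E) h
    have hE' := hE.1
    obtain ⟨x, hx⟩ := exists_ne (0 : E)
    have hx' : x ∈ (⊤ : Submodule k E) := Submodule.mem_top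
    rw [this, Submodule.mem_bot] at hx'
    exact hx hx'
  · intro B hB hBs
    by_cases hB0 : B = ⊥
    · exact Or.inl hB0
    · right
      obtain ⟨S, hSB, hS⟩ := exists_simpleSub_le (k := k) (C := C) (V := C) B
        (isSubcomod_of_isSubcoalg B hBs) hB0
      have h1 := cfs_eq_of_simpleSub_le hE S hS (hSB.trans hB)
      have h2 : cfs (C := C) (V := C) S ≤ B := cfs_le_of_le_isSubcoalg B hBs S hSB
      rw [h1] at h2
      exact le_antisymm hB h2

end SimpleCoeff

end Groth.Agent.H40
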