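import Groth.Agent.H40.Coeff6

/-! Helper lemmas (helper40): simple subcomodules as simple comodules; finite families of
coefficient maps. -/

set_option autoImplicit false
universe u v w w' w''

open TensorProduct

namespace Groth.Agent.H40

open Groth.Agent.Lib.Helper93.Comod

section Restr

variable {k : Type u} [Field k] {C : Type v} [AddCommGroup C] [Module k C] [Coalgebra k C]
  {V : Type w} [AddCommGroup V] [Module k V] [c : HopfRep.Comod k C V]

/-- A simple subcomodule is finite-dimensional. -/
theorem finite_of_isSimpleSub (S : Submodule k V) (hS : IsSimpleSub (C := C) S) :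
    Module.Finite k S := by
  obtain ⟨s, hsS, hs0⟩ := Submodule.exists_mem_ne_zero_of_ne_bot hS.1
  obtain ⟨W, hWf, hsW, hWs⟩ := exists_finite_subcomod_mem (k := k) (C := C) (V := V) s
  have hfin : Module.Finite k ↥(W ⊓ S) := Submodule.finiteDimensional_inf_left W S
  rcases hS.2.2 (W ⊓ S) (isSubcomod_inf W S hWs hS.2.1) inf_le_right with h | h
  · exfalso
    have : s ∈ W ⊓ S := ⟨hsW, hsS⟩
    rw [h, Submodule.mem_bot] at this
    exact hs0 this
  · rw [h] at hfin
    exact hfin

/-- A simple subcomodule, with the restricted structure, is a simple comodule. -/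
theorem isSimpleComod_restr (S : Submodule k V) (hS : IsSimpleSub (C := C) S) :
    @HopfRep.IsSimpleComod k C _ _ _ _ S _ _ (ComodSub.Comod.restr c S hS.2.1) := by
  let d : HopfRep.Comod k C S := ComodSub.Comod.restr c S hS.2.1
  have hsub : @Hoch.IsComodHom k _ C _ _ _ S _ _ d V _ _ c S.subtype :=
    ComodSub.isComodHom_subtype c S hS.2.1
  refine ⟨Submodule.nontrivial_iff_ne_bot.2 hS.1, ?_⟩
  intro W hW
  have h1 : HopfRep.IsSubcomod (k := k) (A := C) (W.map S.subtype) :=
    isSubcomod_map S.subtype hsub W hW
  have h2 : W.map S.subtype ≤ S := by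
    rintro _ ⟨x, -, rfl⟩
    exact x.2
  rcases hS.2.2 _ h1 h2 with h | h
  · left
    rw [eq_bot_iff]
    intro x hx
    have hx' : (x : V) ∈ W.map S.subtype := ⟨x, hx, rfl⟩
    rw [h, Submodule.mem_bot] at hx'
    rw [Submodule.mem_bot]
    exact Subtype.ext hx'
  · right
    rw [eq_top_iff]
    intro x _
    have hx : (x : V) ∈ W.map S.subtype := by rw [h]; exact x.2
    obtain ⟨y, hy, hyx⟩ := hx
    have : y = x := Subtype.ext hyx
    rwa [← this]

theorem cfs_top_restr (S : Submodule k V) (hS : HopfRep.IsSubcomod (k := k) (A := C) S) :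
    @cfs k _ C _ _ _ S _ _ (ComodSub.Comod.restr c S hS) ⊤ = cfs (C := C) S := by
  let d : HopfRep.Comod k C S := ComodSub.Comod.restr c S hS
  have hsub : @Hoch.IsComodHom k _ C _ _ _ S _ _ d V _ _ c S.subtype :=
    ComodSub.isComodHom_subtype c S hS
  have := cfs_range_eq_of_injective (C := C) S.subtype hsub S.injective_subtype
  rw [Submodule.range_subtype] at this
  exact this.symm

end Restr

section Basis

variable {k : Type u} [Field k] {C : Type v} [AddCommGroup C] [Module k C] [Coalgebra k C]
  {E : Type w} [AddCommGroup E] [Module k E] [HopfRep.Comod k C E]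

theorem cfs_top_eq_iSup_basis {ι : Type*} [Fintype ι] (b : Module.Basis ι k E) :
    cfs (C := C) (⊤ : Submodule k E) = ⨆ i, LinearMap.range (coeffMap (C := C) (b.coord i)) := by
  classical
  unfold cfs
  simp_rw [Submodule.map_top]
  apply le_antisymm
  · apply iSup_le
    intro ψ
    have hψ : ψ = ∑ i, ψ (b i) • b.coord i := (b.sum_dual_apply_smul_coord ψ).symm
    have hc : coeffMap (C := C) ψ = ∑ i, ψ (b i) • coeffMap (C := C) (b.coord i) := by
      conv_lhs => rw [hψ]
      have hadd : ∀ (s : Finset ι) (g : ι → (E →ₗ[k] k)),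
          coeffMap (C := C) (∑ i ∈ s, g i) = ∑ i ∈ s, coeffMap (C := C) (g i) := by
        intro s g
        induction s using Finset.induction_on with
        | empty =>
          simp only [Finset.sum_empty]
          apply LinearMap.ext
          intro v
          rw [coeffMap_apply, lslice_zero]
          rfl
        | insert a s ha ih => rw [Finset.sum_insert ha, Finset.sum_insert ha, coeffMap_add, ih]
      rw [hadd]
      simp_rw [coeffMap_smul]
    rintro _ ⟨x, rfl⟩
    rw [hc, LinearMap.sum_apply]
    apply Submodule.sum_mem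
    intro i _
    rw [LinearMap.smul_apply]
    apply Submodule.smul_mem
    exact Submodule.mem_iSup_of_mem i ⟨x, rfl⟩
  · apply iSup_le
    intro i
    exact le_iSup (fun ψ : E →ₗ[k] k => LinearMap.range (coeffMap (C := C) ψ)) (b.coord i)

end Basis

end Groth.Agent.H40
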