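import Mathlib

/-! Helper lemmas (helper40): separation of tensors by families of functionals over a field. -/

set_option autoImplicit false
universe u v w

open TensorProduct

namespace Groth.Agent.H40

/-- Over a field, if a family `Φ` of functionals on `W` separates points, then
`t : V ⊗ W` with `(id ⊗ φ) t = 0` for all `φ ∈ Φ` is zero. -/
theorem tensor_eq_zero_of_lTensor_eq_zero {k : Type u} [Field k] {V : Type v} {W : Type w}
    [AddCommGroup V] [Module k V] [AddCommGroup W] [Module k W]
    (Φ : Set (W →ₗ[k] k)) (hΦ : ∀ w : W, (∀ φ ∈ Φ, φ w = 0) → w = 0)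
    (t : V ⊗[k] W) (ht : ∀ φ ∈ Φ, LinearMap.lTensor V φ t = 0) : t = 0 := by
  classical
  let b := Module.Free.chooseBasis k V
  let e := TensorProduct.equivFinsuppOfBasisLeft (N := W) b
  have key : ∀ (φ : W →ₗ[k] k) (s : V ⊗[k] W) i,
      φ (e s i) = b.repr (TensorProduct.rid k V (LinearMap.lTensor V φ s)) i := by
    intro φ s i
    induction s using TensorProduct.induction_on with
    | zero => simp
    | tmul x y =>
      simp [e, mul_comm]
    | add x y hx hy =>
      simp only [map_add, Finsupp.add_apply, hx, hy]
  apply e.injective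
  rw [map_zero]
  ext i
  apply hΦ
  intro φ hφ
  rw [key, ht φ hφ]
  simp

theorem lTensor_comm_eq {k : Type u} [Field k] {V : Type v} {W : Type w}
    [AddCommGroup V] [Module k V] [AddCommGroup W] [Module k W] (φ : V →ₗ[k] k) (t : V ⊗[k] W) :
    LinearMap.lTensor W φ (TensorProduct.comm k V W t)
        = TensorProduct.comm k k W (LinearMap.rTensor W φ t) := by
  induction t using TensorProduct.induction_on with
  | zero => simp
  | tmul x y => simp
  | add x y hx hy => simp only [map_add, hx, hy]

/-- Symmetric version: separation on the left factor. -/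
theorem tensor_eq_zero_of_rTensor_eq_zero {k : Type u} [Field k] {V : Type v} {W : Type w}
    [AddCommGroup V] [Module k V] [AddCommGroup W] [Module k W]
    (Φ : Set (V →ₗ[k] k)) (hΦ : ∀ v : V, (∀ φ ∈ Φ, φ v = 0) → v = 0)
    (t : V ⊗[k] W) (ht : ∀ φ ∈ Φ, LinearMap.rTensor W φ t = 0) : t = 0 := by
  have h := tensor_eq_zero_of_lTensor_eq_zero (V := W) (W := V) Φ hΦ (TensorProduct.comm k V W t) ?_
  · simpa using h
  · intro φ hφ
    rw [lTensor_comm_eq, ht φ hφ, map_zero]

end Groth.Agent.H40
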