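import Groth.Prelude.Def_Hoch
import Groth.Agent.H40.TensorSep

/-! Helper lemmas (helper40): comodules over a coalgebra over a field. -/

set_option autoImplicit false
universe u v w w'

open TensorProduct

namespace Groth.Agent.H40

section Slice

variable {k : Type u} [Field k] {V : Type v} {C : Type w}
  [AddCommGroup V] [Module k V] [AddCommGroup C] [Module k C]

/-- `(id ⊗ ψ) t` read in `V`. -/
noncomputable def slice (ψ : C →ₗ[k] k) : V ⊗[k] C →ₗ[k] V :=
  (TensorProduct.rid k V).toLinearMap ∘ₗ LinearMap.lTensor V ψ

@[simp] theorem slice_tmul (ψ : C →ₗ[k] k) (x : V) (c : C) :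
    slice ψ (x ⊗ₜ[k] c) = ψ c • x := by
  simp [slice]

/-- Over a field, a tensor all of whose slices lie in `W` lies in `W ⊗ C`. -/
theorem mem_range_rTensor_subtype_of_forall_slice (W : Submodule k V) (t : V ⊗[k] C)
    (ht : ∀ ψ : C →ₗ[k] k, slice ψ t ∈ W) :
    t ∈ LinearMap.range (LinearMap.rTensor C W.subtype) := by
  classical
  let b := Module.Free.chooseBasis k C
  let e := TensorProduct.equivFinsuppOfBasisRight (M := V) b
  have key : ∀ (s : V ⊗[k] C) i, e s i = slice (b.coord i) s := by
    intro s i
    induction s using TensorProduct.induction_on with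
    | zero => simp
    | tmul x y =>
      simp [e, TensorProduct.equivFinsuppOfBasisRight_apply_tmul_apply]
    | add x y hx hy =>
      simp only [map_add, Finsupp.add_apply, hx, hy]
  have h1 : t = e.symm (e t) := (e.symm_apply_apply t).symm
  rw [h1, TensorProduct.equivFinsuppOfBasisRight_symm_apply]
  apply Submodule.sum_mem
  intro i _
  have hi : e t i ∈ W := by rw [key]; exact ht _
  exact ⟨(⟨e t i, hi⟩ : W) ⊗ₜ[k] b i, by simp⟩

theorem slice_rTensor {V' : Type w'} [AddCommGroup V'] [Module k V'] (β : V →ₗ[k] V')
    (ψ : C →ₗ[k] k) (t : V ⊗[k] C) :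
    slice ψ (LinearMap.rTensor C β t) = β (slice ψ t) := by
  induction t using TensorProduct.induction_on with
  | zero => simp
  | tmul x y => simp
  | add x y hx hy => simp only [map_add, hx, hy]

theorem slice_mem_of_mem_range (W : Submodule k V) (t : V ⊗[k] C)
    (ht : t ∈ LinearMap.range (LinearMap.rTensor C W.subtype)) (ψ : C →ₗ[k] k) :
    slice ψ t ∈ W := by
  obtain ⟨s, rfl⟩ := ht
  rw [slice_rTensor]
  exact (slice ψ s).2

end Slice

section Comod

variable {k : Type u} [Field k] {C : Type v} [AddCommGroup C] [Module k C] [Coalgebra k C]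
  {V : Type w} [AddCommGroup V] [Module k V] [HopfRep.Comod k C V]

/-- The operator `(id ⊗ φ) ∘ ρ` on a comodule. -/
noncomputable def coactSlice (φ : C →ₗ[k] k) : V →ₗ[k] V :=
  slice φ ∘ₗ HopfRep.Comod.coact (k := k) (A := C)

/-- The functional `(ψ ⊗ φ) ∘ Δ`. -/
noncomputable def convFun (ψ φ : C →ₗ[k] k) : C →ₗ[k] k :=
  LinearMap.mul' k k ∘ₗ TensorProduct.map ψ φ ∘ₗ Coalgebra.comul (R := k) (A := C)

theorem slice_coact_coactSlice (ψ φ : C →ₗ[k] k) (v : V) :
    slice ψ (HopfRep.Comod.coact (k := k) (A := C) (coactSlice (C := C) φ v)) =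
      coactSlice (C := C) (convFun ψ φ) v := by
  -- naturality: ρ ∘ slice φ = slice φ ∘ (ρ ⊗ id)
  have nat : ∀ t : V ⊗[k] C, HopfRep.Comod.coact (k := k) (A := C) (slice φ t) =
      slice φ (LinearMap.rTensor C (HopfRep.Comod.coact (k := k) (A := C)) t) := by
    intro t
    rw [slice_rTensor]
  have hco := HopfRep.Comod.coassoc (k := k) (A := C) (V := V)
  have hco' := LinearMap.congr_fun hco v
  simp only [LinearMap.comp_apply, LinearEquiv.coe_coe] at hco'
  have hco'' : LinearMap.rTensor C (HopfRep.Comod.coact (k := k) (A := C))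
      (HopfRep.Comod.coact (k := k) (A := C) v) =
      (TensorProduct.assoc k V C C).symm
        (LinearMap.lTensor V (Coalgebra.comul (R := k) (A := C))
          (HopfRep.Comod.coact (k := k) (A := C) v)) := by
    rw [← hco', LinearEquiv.symm_apply_apply]
  unfold coactSlice
  simp only [LinearMap.comp_apply]
  rw [nat, hco'']
  generalize HopfRep.Comod.coact (k := k) (A := C) v = t
  induction t using TensorProduct.induction_on with
  | zero => simp
  | tmul x c =>
    simp only [LinearMap.lTensor_tmul, slice_tmul, convFun, LinearMap.comp_apply]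
    generalize Coalgebra.comul (R := k) c = s
    induction s using TensorProduct.induction_on with
    | zero => simp
    | tmul c d => simp [smul_smul, mul_comm]
    | add a b ha hb => simp only [TensorProduct.tmul_add, map_add, ha, hb, add_smul]
  | add a b ha hb => simp only [map_add, ha, hb]

theorem coactSlice_counit (v : V) :
    coactSlice (C := C) (Coalgebra.counit (R := k) (A := C)) v = v := by
  have hc := HopfRep.Comod.counit_comp (k := k) (A := C) (V := V)
  have := LinearMap.congr_fun hc v
  simp only [LinearMap.comp_apply, LinearMap.flip_apply, TensorProduct.mk_apply] at this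
  unfold coactSlice slice
  simp only [LinearMap.comp_apply, LinearEquiv.coe_coe]
  rw [this]
  simp

/-- Every vector of a comodule over a field lies in a finite-dimensional subcomodule. -/
theorem exists_finite_subcomod_mem (v : V) :
    ∃ W : Submodule k V, Module.Finite k W ∧ v ∈ W ∧ HopfRep.IsSubcomod (k := k) (A := C) W := by
  classical
  -- W := { T_φ v }
  let L : (C →ₗ[k] k) →ₗ[k] V :=
    { toFun := fun φ => coactSlice (C := C) φ v
      map_add' := by
        intro φ ψ
        simp [coactSlice, slice, LinearMap.lTensor_add]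
      map_smul' := by
        intro a φ
        simp [coactSlice, slice, LinearMap.lTensor_smul] }
  have hL : ∀ φ, L φ = coactSlice (C := C) φ v := fun _ => rfl
  refine ⟨LinearMap.range L, ?_, ?_, ?_⟩
  · obtain ⟨S, hS⟩ := TensorProduct.exists_finset (HopfRep.Comod.coact (k := k) (A := C) v)
    have hle : LinearMap.range L ≤ Submodule.span k ((S.image Prod.fst : Finset V) : Set V) := by
      rintro _ ⟨φ, rfl⟩
      rw [hL]
      unfold coactSlice
      rw [LinearMap.comp_apply, hS, map_sum]
      apply Submodule.sum_mem
      intro i hi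
      rw [slice_tmul]
      apply Submodule.smul_mem
      apply Submodule.subset_span
      simp only [Finset.coe_image, Set.mem_image, Finset.mem_coe]
      exact ⟨i, hi, rfl⟩
    haveI : Module.Finite k (Submodule.span k ((S.image Prod.fst : Finset V) : Set V)) :=
      FiniteDimensional.span_finset k _
    exact Submodule.finiteDimensional_of_le hle
  · exact ⟨Coalgebra.counit (R := k) (A := C), coactSlice_counit v⟩
  · rintro _ ⟨φ, rfl⟩
    apply mem_range_rTensor_subtype_of_forall_slice
    intro ψ
    rw [hL, slice_coact_coactSlice]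
    exact ⟨_, rfl⟩

/-- The kernel of a comodule map is a subcomodule (over a field). -/
theorem isSubcomod_ker {V' : Type w'} [AddCommGroup V'] [Module k V'] [HopfRep.Comod k C V']
    (β : V →ₗ[k] V') (hβ : Hoch.IsComodHom C β) :
    HopfRep.IsSubcomod (k := k) (A := C) (LinearMap.ker β) := by
  intro x hx
  apply mem_range_rTensor_subtype_of_forall_slice
  intro ψ
  rw [LinearMap.mem_ker, ← slice_rTensor]
  have := LinearMap.congr_fun hβ x
  simp only [LinearMap.comp_apply] at this
  rw [← this, LinearMap.mem_ker.1 hx, map_zero, map_zero]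

end Comod

end Groth.Agent.H40
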