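import Groth.Agent.H40.Coeff7
import Groth.Agent.S7972

/-! Helper lemmas (helper40): semisimplicity of comodules and cosemisimple coalgebras. -/

set_option autoImplicit false
universe u v w w' w''

open TensorProduct

namespace Groth.Agent.H40

open Groth.Agent.Lib.Helper93.Comod

section Semisimple

variable {k : Type u} [Field k] {C : Type v} [AddCommGroup C] [Module k C] [Coalgebra k C]
  {V : Type w} [AddCommGroup V] [Module k V] [HopfRep.Comod k C V]
  {V' : Type w'} [AddCommGroup V'] [Module k V'] [HopfRep.Comod k C V']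

/-- The image of a simple subcomodule under an injective comodule map is a simple subcomodule. -/
theorem isSimpleSub_map (f : V →ₗ[k] V') (hf : Hoch.IsComodHom C f) (hinj : Function.Injective f)
    (S : Submodule k V) (hS : IsSimpleSub (C := C) S) : IsSimpleSub (C := C) (S.map f) := by
  refine ⟨?_, isSubcomod_map f hf S hS.2.1, ?_⟩
  · intro h
    apply hS.1
    rw [eq_bot_iff]
    intro x hx
    have : f x ∈ S.map f := Submodule.mem_map_of_mem hx
    rw [h, Submodule.mem_bot] at this
    rw [Submodule.mem_bot]
    exact hinj (this.trans (map_zero f).symm)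
  · intro S' hS' hle
    have hT : HopfRep.IsSubcomod (k := k) (A := C) (S'.comap f ⊓ S) :=
      isSubcomod_inf _ _ (isSubcomod_comap f hf S' hS') hS.2.1
    have hmap : S' = (S'.comap f ⊓ S).map f := by
      apply le_antisymm
      · intro y hy
        obtain ⟨x, hx, rfl⟩ := hle hy
        exact ⟨x, ⟨hy, hx⟩, rfl⟩
      · rintro _ ⟨x, hx, rfl⟩
        exact hx.1
    rcases hS.2.2 _ hT inf_le_right with h | h
    · left
      rw [hmap, h, Submodule.map_bot]
    · right
      rw [hmap, h]

/-- A comodule which is the sum of its simple subcomodules is semisimple. -/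
theorem isSemisimpleComod_of_iSup_simpleSub
    (h : (⨆ S : {S : Submodule k V // IsSimpleSub (C := C) S}, S.1) = ⊤) :
    HopfRep.IsSemisimpleComod k C V := by
  intro W hW
  obtain ⟨J, -, hJ⟩ := Groth.Agent.S7972.result k C V
    (fun S : {S : Submodule k V // IsSimpleSub (C := C) S} => S.1) (fun S => S.2.2.1)
    (fun S => ⟨S.2.1, fun W' hW' hle => S.2.2.2 W' hW' hle⟩) h W hW
  exact ⟨_, isSubcomod_iSup _ fun j => j.1.2.2.1, hJ⟩

/-- A comodule embedding into a semisimple comodule is semisimple. -/
theorem isSemisimpleComod_of_injective (f : V →ₗ[k] V') (hf : Hoch.IsComodHom C f)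
    (hinj : Function.Injective f) (h : HopfRep.IsSemisimpleComod k C V') :
    HopfRep.IsSemisimpleComod k C V := by
  intro W hW
  obtain ⟨N, hN, hc⟩ := h (W.map f) (isSubcomod_map f hf W hW)
  refine ⟨N.comap f, isSubcomod_comap f hf N hN, ?_⟩
  constructor
  · rw [disjoint_iff, eq_bot_iff]
    intro x hx
    have : f x ∈ W.map f ⊓ N := ⟨Submodule.mem_map_of_mem hx.1, hx.2⟩
    rw [hc.inf_eq_bot, Submodule.mem_bot] at this
    rw [Submodule.mem_bot]
    exact hinj (this.trans (map_zero f).symm)
  · rw [codisjoint_iff, eq_top_iff]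
    intro x _
    have hx : f x ∈ W.map f ⊔ N := by rw [hc.sup_eq_top]; exact Submodule.mem_top
    obtain ⟨a, ha, n, hn, han⟩ := Submodule.mem_sup.1 hx
    obtain ⟨w, hw, rfl⟩ := ha
    have : x = w + (x - w) := by abel
    rw [this]
    apply Submodule.add_mem_sup hw
    rw [Submodule.mem_comap, map_sub, ← han]
    simpa using hn

/-- In a semisimple comodule, a subcomodule has a complement inside any larger subcomodule. -/
theorem exists_compl_in_of_isSemisimple (h : HopfRep.IsSemisimpleComod k C V)
    (S W : Submodule k V) (hS : HopfRep.IsSubcomod (k := k) (A := C) S)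
    (hW : HopfRep.IsSubcomod (k := k) (A := C) W) (hle : S ≤ W) :
    ∃ N : Submodule k V, HopfRep.IsSubcomod (k := k) (A := C) N ∧ N ≤ W ∧ Disjoint S N ∧
      S ⊔ N = W := by
  obtain ⟨N, hN, hc⟩ := h S hS
  refine ⟨W ⊓ N, isSubcomod_inf _ _ hW hN, inf_le_left, ?_, ?_⟩
  · exact hc.disjoint.mono_right inf_le_right
  · rw [inf_comm, ← sup_inf_assoc_of_le N hle, hc.sup_eq_top, top_inf_eq]

/-- In a semisimple comodule, every finite-dimensional subcomodule lies in the sum of the simple
subcomodules. -/
theorem le_iSup_simpleSub_of_finite (h : HopfRep.IsSemisimpleComod k C V) :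
    ∀ (n : ℕ) (W : Submodule k V), HopfRep.IsSubcomod (k := k) (A := C) W → Module.Finite k W →
      Module.finrank k W = n →
      W ≤ ⨆ S : {S : Submodule k V // IsSimpleSub (C := C) S}, S.1 := by
  intro n
  induction n using Nat.strong_induction_on with
  | _ n IH =>
    intro W hW hfin hn
    by_cases hW0 : W = ⊥
    · rw [hW0]
      exact bot_le
    · obtain ⟨S, hSW, hS⟩ := exists_simpleSub_le (k := k) (C := C) W hW hW0
      obtain ⟨N, hN, hNW, hdisj, hsup⟩ := exists_compl_in_of_isSemisimple h S W hS.2.1 hW hSW
      have hNfin : Module.Finite k N := Submodule.finiteDimensional_of_le hNW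
      have hSfin : Module.Finite k S := Submodule.finiteDimensional_of_le hSW
      have hlt : Module.finrank k N < n := by
        have h1 := Submodule.finrank_sup_add_finrank_inf_eq S N
        rw [hsup, hdisj.eq_bot, finrank_bot, add_zero, hn] at h1
        have h2 : 0 < Module.finrank k S := by
          rw [Module.finrank_pos_iff]
          exact Submodule.nontrivial_iff_ne_bot.2 hS.1
        omega
      rw [← hsup]
      apply sup_le
      · exact le_iSup (fun S : {S : Submodule k V // IsSimpleSub (C := C) S} => S.1) ⟨S, hS⟩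
      · exact IH _ hlt N hN hNfin rfl

theorem iSup_simpleSub_eq_top_of_isSemisimple (h : HopfRep.IsSemisimpleComod k C V) :
    (⨆ S : {S : Submodule k V // IsSimpleSub (C := C) S}, S.1) = ⊤ := by
  rw [eq_top_iff]
  intro x _
  obtain ⟨W, hWf, hxW, hWs⟩ := exists_finite_subcomod_mem (k := k) (C := C) (V := V) x
  exact le_iSup_simpleSub_of_finite h _ W hWs hWf rfl hxW

end Semisimple

end Groth.Agent.H40
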