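import Groth.Agent.H40.Coeff8

/-! Helper lemmas (helper40): induced comodules, cosemisimple coalgebras. -/

set_option autoImplicit false
universe u v w w' w''

open TensorProduct

namespace Groth.Agent.H40

open Groth.Agent.Lib.Helper93.Comod

section Ind

variable {k : Type u} [Field k] {C : Type v} [AddCommGroup C] [Module k C] [Coalgebra k C]
  {V : Type w} [AddCommGroup V] [Module k V] [HopfRep.Comod k C V]

theorem isComodHom_toInd : Hoch.IsComodHom C (Hoch.toInd k C V) := by
  unfold Hoch.IsComodHom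
  apply LinearMap.ext
  intro v
  have hco := LinearMap.congr_fun (HopfRep.Comod.coassoc (k := k) (A := C) (V := V)) v
  simp only [LinearMap.comp_apply, LinearEquiv.coe_coe] at hco
  simp only [LinearMap.comp_apply]
  change (TensorProduct.assoc k V C C).symm
      ((Coalgebra.comul (R := k) (A := C)).lTensor V (HopfRep.Comod.coact (k := k) (A := C) v)) =
    (HopfRep.Comod.coact (k := k) (A := C) (V := V)).rTensor C
      (HopfRep.Comod.coact (k := k) (A := C) v)
  rw [← hco, LinearEquiv.symm_apply_apply]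

theorem toInd_injective : Function.Injective (Hoch.toInd k C V) := by
  rw [← LinearMap.ker_eq_bot, eq_bot_iff]
  intro v hv
  rw [LinearMap.mem_ker] at hv
  rw [Submodule.mem_bot]
  exact eq_zero_of_coact_eq_zero (k := k) (C := C) v hv

variable (P : Type w) [AddCommGroup P] [Module k P]

/-- `c ↦ p ⊗ c` into the induced comodule. -/
noncomputable def indMk (p : P) : C →ₗ[k] Hoch.Ind k C P :=
  (Hoch.Ind.equiv k C P).toLinearMap ∘ₗ TensorProduct.mk k P C p

omit [Coalgebra k C] in
theorem indMk_apply (p : P) (c : C) :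
    indMk (k := k) (C := C) P p c = Hoch.Ind.equiv k C P (p ⊗ₜ[k] c) := rfl

theorem isComodHom_indMk (p : P) : Hoch.IsComodHom C (indMk (k := k) (C := C) P p) := by
  unfold Hoch.IsComodHom
  apply LinearMap.ext
  intro c
  simp only [LinearMap.comp_apply]
  change (TensorProduct.assoc k P C C).symm (p ⊗ₜ[k] Coalgebra.comul (R := k) c) =
    (TensorProduct.mk k P C p).rTensor C (Coalgebra.comul (R := k) c)
  generalize Coalgebra.comul (R := k) c = t
  induction t using TensorProduct.induction_on with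
  | zero => simp
  | tmul x y => simp
  | add x y hx hy => simp only [TensorProduct.tmul_add, map_add, hx, hy]

omit [Coalgebra k C] in
theorem indMk_injective (p : P) (hp : p ≠ 0) :
    Function.Injective (indMk (k := k) (C := C) P p) := by
  have h1 : ¬ ∀ φ : Module.Dual k P, φ p = 0 := by
    rw [Module.forall_dual_apply_eq_zero_iff]
    exact hp
  push Not at h1
  obtain ⟨φ, hφ⟩ := h1
  rw [← LinearMap.ker_eq_bot, eq_bot_iff]
  intro c hc
  rw [LinearMap.mem_ker, indMk_apply] at hc
  have h2 : lslice (C := C) φ (p ⊗ₜ[k] c) = 0 := by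
    have : (p ⊗ₜ[k] c : P ⊗[k] C) = 0 := hc
    rw [this, map_zero]
  rw [lslice_tmul] at h2
  rw [Submodule.mem_bot]
  exact (smul_eq_zero.1 h2).resolve_left hφ

omit [Coalgebra k C] in
theorem iSup_range_indMk : (⨆ p : P, LinearMap.range (indMk (k := k) (C := C) P p)) = ⊤ := by
  rw [eq_top_iff]
  intro t _
  change P ⊗[k] C at t
  induction t using TensorProduct.induction_on with
  | zero => exact Submodule.zero_mem _
  | tmul x y => exact Submodule.mem_iSup_of_mem x ⟨y, rfl⟩
  | add x y hx hy => exact Submodule.add_mem _ (hx Submodule.mem_top) (hy Submodule.mem_top)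

/-- If the regular comodule is a sum of simple subcomodules then so is every induced comodule. -/
theorem iSup_simpleSub_ind_eq_top
    (h : (⨆ S : {S : Submodule k C // IsSimpleSub (C := C) (V := C) S}, S.1) = ⊤) :
    (⨆ S : {S : Submodule k (Hoch.Ind k C P) // IsSimpleSub (C := C) S}, S.1) = ⊤ := by
  rw [eq_top_iff, ← iSup_range_indMk]
  apply iSup_le
  intro p
  rw [← Submodule.map_top, ← h, Submodule.map_iSup]
  apply iSup_le
  intro S
  by_cases hp : p = 0
  · have : indMk (k := k) (C := C) P p = 0 := by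
      apply LinearMap.ext
      intro c
      rw [indMk_apply, hp, TensorProduct.zero_tmul, map_zero]
      rfl
    rw [this, Submodule.map_zero]
    exact bot_le
  · exact le_iSup (fun S : {S : Submodule k (Hoch.Ind k C P) // IsSimpleSub (C := C) S} => S.1)
      ⟨S.1.map (indMk (k := k) (C := C) P p),
        isSimpleSub_map _ (isComodHom_indMk P p) (indMk_injective P p hp) S.1 S.2⟩

/-- If the regular comodule is a sum of simple subcomodules, every comodule is semisimple. -/
theorem isSemisimpleComod_of_regular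
    (h : (⨆ S : {S : Submodule k C // IsSimpleSub (C := C) (V := C) S}, S.1) = ⊤) :
    HopfRep.IsSemisimpleComod k C V :=
  isSemisimpleComod_of_injective (Hoch.toInd k C V) isComodHom_toInd toInd_injective
    (isSemisimpleComod_of_iSup_simpleSub (iSup_simpleSub_ind_eq_top V h))

end Ind

section Cosemisimple

variable {k : Type u} [Field k] {C : Type v} [AddCommGroup C] [Module k C] [Coalgebra k C]
  {V : Type w} [AddCommGroup V] [Module k V] [c : HopfRep.Comod k C V]

/-- "Simple subcoalgebra" as used in the statements. -/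
def IsSimpleSubcoalg (D : Submodule k C) : Prop :=
  D ≠ ⊥ ∧ IsSubcoalg D ∧ ∀ B : Submodule k C, B ≤ D → IsSubcoalg B → B = ⊥ ∨ B = D

/-- The coefficient space of a simple subcomodule is a simple subcoalgebra. -/
theorem isSimpleSubcoalg_cfs (S : Submodule k V) (hS : IsSimpleSub (C := C) S) :
    IsSimpleSubcoalg (cfs (C := C) S) := by
  rw [← cfs_top_restr S hS.2.1]
  exact @cfs_top_simple k _ C _ _ _ S _ _ (ComodSub.Comod.restr c S hS.2.1)
    (isSimpleComod_restr S hS)

/-- The coefficient space of a simple subcomodule of the regular comodule is a sum of simple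
subcomodules with the same coefficient space. -/
theorem cfs_le_iSup_simpleSub (S : Submodule k C) (hS : IsSimpleSub (C := C) (V := C) S) :
    cfs (C := C) (V := C) S ≤
      ⨆ S' : {S' : Submodule k C // IsSimpleSub (C := C) (V := C) S' ∧
        cfs (C := C) (V := C) S' = cfs (C := C) (V := C) S}, S'.1 := by
  let d : HopfRep.Comod k C S := ComodSub.Comod.restr (HopfRep.Comod.regular k C) S hS.2.1
  have hE : @HopfRep.IsSimpleComod k C _ _ _ _ S _ _ d := isSimpleComod_restr S hS
  have h1 : @cfs k _ C _ _ _ S _ _ d ⊤ = cfs (C := C) (V := C) S := cfs_top_restr S hS.2.1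
  have h3 := @cfs_top_eq_iSup_range k _ C _ _ _ S _ _ d
  rw [h1] at h3
  refine (le_of_eq h3).trans ?_
  apply iSup_le
  intro ψ
  have hinj := (@eq_zero_or_injective_of_isSimpleComod k _ C _ _ _ S _ _ d C _ _ _ hE _
    (@isComodHom_coeffMap k _ C _ _ _ S _ _ d ψ.1)).resolve_left ψ.2
  refine le_iSup_of_le ⟨LinearMap.range (@coeffMap k _ C _ _ _ S _ _ d ψ.1),
    @isSimpleSub_range k _ C _ _ _ S _ _ d C _ _ _ hE _ (@isComodHom_coeffMap k _ C _ _ _ S _ _ d ψ.1) ψ.2,
    ?_⟩ le_rfl
  exact (@cfs_range_eq_of_injective k _ C _ _ _ S _ _ d C _ _ _ _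
    (@isComodHom_coeffMap k _ C _ _ _ S _ _ d ψ.1) hinj).trans h1

/-- A simple subcoalgebra is a sum of simple subcomodules whose coefficient space it is. -/
theorem le_iSup_simpleSub_of_isSimpleSubcoalg (D : Submodule k C) (hD : IsSimpleSubcoalg D) :
    D ≤ ⨆ S' : {S' : Submodule k C // IsSimpleSub (C := C) (V := C) S' ∧
        cfs (C := C) (V := C) S' = D}, S'.1 := by
  obtain ⟨S, hSD, hS⟩ := exists_simpleSub_le (k := k) (C := C) (V := C) D
    (isSubcomod_of_isSubcoalg D hD.2.1) hD.1
  have hcf : cfs (C := C) (V := C) S = D := by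
    rcases hD.2.2 _ (cfs_le_of_le_isSubcoalg D hD.2.1 S hSD) (isSubcoalg_cfs S hS.2.1) with h | h
    · exact absurd (eq_bot_of_cfs_eq_bot S h) hS.1
    · exact h
  have := cfs_le_iSup_simpleSub S hS
  rw [hcf] at this
  exact this

theorem eq_cfs_of_simpleSub_le (D : Submodule k C) (hD : IsSimpleSubcoalg D) (S : Submodule k C)
    (hS : IsSimpleSub (C := C) (V := C) S) (hSD : S ≤ D) : cfs (C := C) (V := C) S = D := by
  rcases hD.2.2 _ (cfs_le_of_le_isSubcoalg D hD.2.1 S hSD) (isSubcoalg_cfs S hS.2.1) with h | h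
  · exact absurd (eq_bot_of_cfs_eq_bot S h) hS.1
  · exact h

/-- The family of all simple subcoalgebras is independent. -/
theorem iSupIndep_simpleSubcoalg :
    iSupIndep (fun D : {D : Submodule k C // IsSimpleSubcoalg D} => D.1) := by
  rw [iSupIndep_def]
  intro i
  rw [disjoint_iff]
  by_contra hne
  have hsub : HopfRep.IsSubcomod (k := k) (A := C) (V := C)
      (i.1 ⊓ ⨆ (j) (_ : j ≠ i), j.1) :=
    isSubcomod_inf _ _ (isSubcomod_of_isSubcoalg _ i.2.2.1)
      (isSubcomod_iSup _ fun j => isSubcomod_iSup _ fun _ => isSubcomod_of_isSubcoalg _ j.2.2.1)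
  obtain ⟨S, hSle, hS⟩ := exists_simpleSub_le (k := k) (C := C) (V := C) _ hsub hne
  have h1 : cfs (C := C) (V := C) S = i.1 := eq_cfs_of_simpleSub_le i.1 i.2 S hS (hSle.trans inf_le_left)
  let 𝒯 := {S' : Submodule k C // IsSimpleSub (C := C) (V := C) S' ∧
    ∃ j : {D : Submodule k C // IsSimpleSubcoalg D}, j ≠ i ∧ cfs (C := C) (V := C) S' = j.1}
  have h2 : (⨆ (j) (_ : j ≠ i), j.1) ≤ ⨆ S' : 𝒯, S'.1 := by
    apply iSup_le
    intro j
    apply iSup_le
    intro hj
    refine (le_iSup_simpleSub_of_isSimpleSubcoalg j.1 j.2).trans ?_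
    apply iSup_le
    intro S'
    exact le_iSup (fun S' : 𝒯 => S'.1) ⟨S'.1, S'.2.1, j, hj, S'.2.2⟩
  obtain ⟨S', hS'⟩ := exists_cfs_eq_of_le_iSup (C := C) S hS (fun S' : 𝒯 => S'.1)
    (fun S' => S'.2.1) ((hSle.trans inf_le_right).trans h2)
  obtain ⟨j, hj, hj'⟩ := S'.2.2
  apply hj
  apply Subtype.ext
  rw [← hj', ← hS', h1]

end Cosemisimple

end Groth.Agent.H40
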