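import Mathlib
import Groth.Prelude.Def_ComodSub

/-! Helper lemmas (helper40): morphisms of comodules with explicit structures, closure properties,
the direct sum, and the endomorphism subalgebra. -/

set_option autoImplicit false
universe u v w w' w''

open TensorProduct

namespace Groth.Agent.H40

section ComodHom

variable {k : Type u} [CommRing k] {A : Type v} [AddCommGroup A] [Module k A] [Coalgebra k A]
variable {U : Type w} [AddCommGroup U] [Module k U]
variable {V : Type w'} [AddCommGroup V] [Module k V]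
variable {W : Type w''} [AddCommGroup W] [Module k W]

/-- `f` is a morphism of comodules from `(U, c)` to `(V, d)`; definitionally `Hoch.IsComodHom`
for the instances `c`, `d`. -/
def IsHom (c : HopfRep.Comod k A U) (d : HopfRep.Comod k A V) (f : U →ₗ[k] V) : Prop :=
  d.coact ∘ₗ f = f.rTensor A ∘ₗ c.coact

theorem isHom_iff (c : HopfRep.Comod k A U) (d : HopfRep.Comod k A V) (f : U →ₗ[k] V) :
    IsHom c d f ↔ @Hoch.IsComodHom k _ A _ _ _ U _ _ c V _ _ d f := Iff.rfl

theorem isHom_id (c : HopfRep.Comod k A U) : IsHom c c LinearMap.id := by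
  unfold IsHom
  rw [LinearMap.rTensor_id, LinearMap.comp_id, LinearMap.id_comp]

theorem isHom_zero (c : HopfRep.Comod k A U) (d : HopfRep.Comod k A V) : IsHom c d 0 := by
  unfold IsHom
  rw [LinearMap.rTensor_zero, LinearMap.comp_zero, LinearMap.zero_comp]

theorem IsHom.comp {c : HopfRep.Comod k A U} {d : HopfRep.Comod k A V} {e : HopfRep.Comod k A W}
    {f : U →ₗ[k] V} {g : V →ₗ[k] W} (hg : IsHom d e g) (hf : IsHom c d f) : IsHom c e (g ∘ₗ f) := by
  unfold IsHom at *
  rw [← LinearMap.comp_assoc, hg, LinearMap.comp_assoc, hf, ← LinearMap.comp_assoc,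
    ← LinearMap.rTensor_comp]

theorem IsHom.add {c : HopfRep.Comod k A U} {d : HopfRep.Comod k A V}
    {f g : U →ₗ[k] V} (hf : IsHom c d f) (hg : IsHom c d g) : IsHom c d (f + g) := by
  unfold IsHom at *
  rw [LinearMap.comp_add, hf, hg, LinearMap.rTensor_add, LinearMap.add_comp]

theorem IsHom.smul {c : HopfRep.Comod k A U} {d : HopfRep.Comod k A V}
    {f : U →ₗ[k] V} (hf : IsHom c d f) (a : k) : IsHom c d (a • f) := by
  unfold IsHom at *
  rw [LinearMap.comp_smul, hf, LinearMap.rTensor_smul, LinearMap.smul_comp]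

theorem isHom_inl (c : HopfRep.Comod k A U) (d : HopfRep.Comod k A V) :
    IsHom c (ComodTens.Comod.prod c d) (LinearMap.inl k U V) :=
  LinearMap.coprod_inl _ _

theorem isHom_inr (c : HopfRep.Comod k A U) (d : HopfRep.Comod k A V) :
    IsHom d (ComodTens.Comod.prod c d) (LinearMap.inr k U V) :=
  LinearMap.coprod_inr _ _

theorem isHom_fst (c : HopfRep.Comod k A U) (d : HopfRep.Comod k A V) :
    IsHom (ComodTens.Comod.prod c d) c (LinearMap.fst k U V) := by
  unfold IsHom
  apply LinearMap.ext
  rintro ⟨u, v⟩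
  simp only [LinearMap.comp_apply]
  rw [ComodTens.prod_coact, map_add, ← LinearMap.rTensor_comp_apply, ← LinearMap.rTensor_comp_apply,
    LinearMap.fst_comp_inl, LinearMap.fst_comp_inr, LinearMap.rTensor_id_apply, LinearMap.rTensor_zero,
    LinearMap.zero_apply, add_zero]
  rfl

theorem isHom_snd (c : HopfRep.Comod k A U) (d : HopfRep.Comod k A V) :
    IsHom (ComodTens.Comod.prod c d) d (LinearMap.snd k U V) := by
  unfold IsHom
  apply LinearMap.ext
  rintro ⟨u, v⟩
  simp only [LinearMap.comp_apply]
  rw [ComodTens.prod_coact, map_add, ← LinearMap.rTensor_comp_apply, ← LinearMap.rTensor_comp_apply,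
    LinearMap.snd_comp_inl, LinearMap.snd_comp_inr, LinearMap.rTensor_id_apply, LinearMap.rTensor_zero,
    LinearMap.zero_apply, zero_add]
  rfl

/-- The subalgebra of comodule endomorphisms. -/
def endSubalgebra (c : HopfRep.Comod k A U) : Subalgebra k (Module.End k U) where
  carrier := {f | IsHom c c f}
  mul_mem' := fun {f g} hf hg => IsHom.comp (f := g) (g := f) hf hg
  one_mem' := isHom_id c
  add_mem' := fun hf hg => IsHom.add hf hg
  zero_mem' := isHom_zero c c
  algebraMap_mem' := fun a => by
    rw [Algebra.algebraMap_eq_smul_one]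
    exact IsHom.smul (isHom_id c) a

theorem mem_endSubalgebra (c : HopfRep.Comod k A U) (f : Module.End k U) :
    f ∈ endSubalgebra c ↔ IsHom c c f := Iff.rfl

end ComodHom

/-- In a semisimple ring every element is von Neumann regular. -/
theorem exists_mul_mul_eq_self {R : Type*} [Ring R] [IsSemisimpleRing R] (e : R) :
    ∃ x : R, e * x * e = e := by
  obtain ⟨L, hL⟩ := exists_isCompl (Ideal.span {e} : Submodule R R)
  have h1 : (1 : R) ∈ ((Ideal.span {e} : Submodule R R) ⊔ L) := by rw [hL.sup_eq_top]; trivial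
  obtain ⟨a, ha, l, hl, hal⟩ := Submodule.mem_sup.mp h1
  obtain ⟨x, rfl⟩ := Ideal.mem_span_singleton'.mp ha
  refine ⟨x, ?_⟩
  have h2 : e - e * x * e ∈ (Ideal.span {e} : Submodule R R) ⊓ L := by
    constructor
    · refine sub_mem (Ideal.subset_span rfl) ?_
      exact Ideal.mul_mem_left _ _ (Ideal.subset_span rfl)
    · have : e - e * x * e = e • l := by
        have h3 : e * (x * e + l) = e := by rw [hal, mul_one]
        rw [smul_eq_mul]
        rw [mul_add, ← mul_assoc] at h3
        rw [eq_comm, ← sub_eq_iff_eq_add'] at h3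
        exact h3.symm ▸ rfl
      rw [this]
      exact L.smul_mem e hl
  rw [hL.inf_eq_bot, Submodule.mem_bot, sub_eq_zero] at h2
  exact h2.symm

end Groth.Agent.H40
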