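import Groth.Agent.H40.Comod

/-! Helper lemmas (helper40): quotient comodules. -/

set_option autoImplicit false
universe u v w w'

open TensorProduct

namespace Groth.Agent.H40

section Quot

variable {k : Type u} [CommRing k] {C : Type v} [AddCommGroup C] [Module k C] [Coalgebra k C]
  {V : Type w} [AddCommGroup V] [Module k V]
  {V' : Type w'} [AddCommGroup V'] [Module k V']

omit [Coalgebra k C] in
theorem assoc_rTensor_rTensor (π : V →ₗ[k] V') :
    (TensorProduct.assoc k V' C C).toLinearMap ∘ₗ (π.rTensor C).rTensor C =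
      π.rTensor (C ⊗[k] C) ∘ₗ (TensorProduct.assoc k V C C).toLinearMap := by
  ext x c d
  simp

theorem lTensor_comul_rTensor (π : V →ₗ[k] V') :
    (Coalgebra.comul (R := k) (A := C)).lTensor V' ∘ₗ π.rTensor C =
      π.rTensor (C ⊗[k] C) ∘ₗ (Coalgebra.comul (R := k) (A := C)).lTensor V := by
  ext x c
  simp

theorem lTensor_counit_rTensor (π : V →ₗ[k] V') :
    (Coalgebra.counit (R := k) (A := C)).lTensor V' ∘ₗ π.rTensor C =
      π.rTensor k ∘ₗ (Coalgebra.counit (R := k) (A := C)).lTensor V := by
  ext x c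
  simp

variable [HopfRep.Comod k C V]

/-- Transport a comodule structure along a surjective linear map compatible with a candidate coaction. -/
@[reducible] noncomputable def comodOfSurjective (π : V →ₗ[k] V') (hπ : Function.Surjective π)
    (c' : V' →ₗ[k] V' ⊗[k] C)
    (h : c' ∘ₗ π = π.rTensor C ∘ₗ HopfRep.Comod.coact (k := k) (A := C)) :
    HopfRep.Comod k C V' where
  coact := c'
  coassoc := by
    rw [← LinearMap.cancel_right hπ]
    calc ((TensorProduct.assoc k V' C C).toLinearMap ∘ₗ c'.rTensor C ∘ₗ c') ∘ₗ π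
        = (TensorProduct.assoc k V' C C).toLinearMap ∘ₗ c'.rTensor C ∘ₗ (c' ∘ₗ π) := by
          simp only [LinearMap.comp_assoc]
      _ = (TensorProduct.assoc k V' C C).toLinearMap ∘ₗ c'.rTensor C ∘ₗ
            (π.rTensor C ∘ₗ HopfRep.Comod.coact (k := k) (A := C)) := by
          rw [h]
      _ = (TensorProduct.assoc k V' C C).toLinearMap ∘ₗ (c' ∘ₗ π).rTensor C ∘ₗ
            HopfRep.Comod.coact (k := k) (A := C) := by
          rw [LinearMap.rTensor_comp]
          simp only [LinearMap.comp_assoc]
      _ = (TensorProduct.assoc k V' C C).toLinearMap ∘ₗ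
            (π.rTensor C ∘ₗ HopfRep.Comod.coact (k := k) (A := C)).rTensor C ∘ₗ
            HopfRep.Comod.coact (k := k) (A := C) := by
          rw [h]
      _ = ((TensorProduct.assoc k V' C C).toLinearMap ∘ₗ (π.rTensor C).rTensor C) ∘ₗ
            ((HopfRep.Comod.coact (k := k) (A := C)).rTensor C ∘ₗ
            HopfRep.Comod.coact (k := k) (A := C)) := by
          rw [LinearMap.rTensor_comp]
          simp only [LinearMap.comp_assoc]
      _ = π.rTensor (C ⊗[k] C) ∘ₗ ((TensorProduct.assoc k V C C).toLinearMap ∘ₗ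
            (HopfRep.Comod.coact (k := k) (A := C)).rTensor C ∘ₗ
            HopfRep.Comod.coact (k := k) (A := C)) := by
          rw [assoc_rTensor_rTensor]
          simp only [LinearMap.comp_assoc]
      _ = π.rTensor (C ⊗[k] C) ∘ₗ ((Coalgebra.comul (R := k) (A := C)).lTensor V ∘ₗ
            HopfRep.Comod.coact (k := k) (A := C)) := by
          rw [HopfRep.Comod.coassoc]
      _ = ((Coalgebra.comul (R := k) (A := C)).lTensor V' ∘ₗ π.rTensor C) ∘ₗ
            HopfRep.Comod.coact (k := k) (A := C) := by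
          rw [lTensor_comul_rTensor]
          simp only [LinearMap.comp_assoc]
      _ = ((Coalgebra.comul (R := k) (A := C)).lTensor V' ∘ₗ c') ∘ₗ π := by
          rw [LinearMap.comp_assoc, LinearMap.comp_assoc, h]
  counit_comp := by
    rw [← LinearMap.cancel_right hπ]
    calc ((Coalgebra.counit (R := k) (A := C)).lTensor V' ∘ₗ c') ∘ₗ π
        = ((Coalgebra.counit (R := k) (A := C)).lTensor V' ∘ₗ π.rTensor C) ∘ₗ
            HopfRep.Comod.coact (k := k) (A := C) := by
          rw [LinearMap.comp_assoc, LinearMap.comp_assoc, h]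
      _ = π.rTensor k ∘ₗ ((Coalgebra.counit (R := k) (A := C)).lTensor V ∘ₗ
            HopfRep.Comod.coact (k := k) (A := C)) := by
          rw [lTensor_counit_rTensor]
          simp only [LinearMap.comp_assoc]
      _ = π.rTensor k ∘ₗ (TensorProduct.mk k V k).flip 1 := by
          rw [HopfRep.Comod.counit_comp]
      _ = (TensorProduct.mk k V' k).flip 1 ∘ₗ π := by
          ext v
          simp

/-- The candidate coaction on the quotient by a subcomodule. -/
noncomputable def quotCoact (W : Submodule k V) (hW : HopfRep.IsSubcomod (k := k) (A := C) W) :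
    (V ⧸ W) →ₗ[k] (V ⧸ W) ⊗[k] C :=
  W.liftQ (W.mkQ.rTensor C ∘ₗ HopfRep.Comod.coact (k := k) (A := C)) (by
    intro w hw
    obtain ⟨s, hs⟩ := hW w hw
    rw [LinearMap.mem_ker, LinearMap.comp_apply, ← hs, ← LinearMap.comp_apply,
      ← LinearMap.rTensor_comp]
    have : W.mkQ ∘ₗ W.subtype = 0 := by
      ext x; simp
    rw [this, LinearMap.rTensor_zero, LinearMap.zero_apply])

theorem quotCoact_comp_mkQ (W : Submodule k V) (hW : HopfRep.IsSubcomod (k := k) (A := C) W) :
    quotCoact W hW ∘ₗ W.mkQ = W.mkQ.rTensor C ∘ₗ HopfRep.Comod.coact (k := k) (A := C) :=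
  Submodule.liftQ_mkQ _ _ _

/-- The quotient comodule. -/
@[reducible] noncomputable def quotComod (W : Submodule k V)
    (hW : HopfRep.IsSubcomod (k := k) (A := C) W) : HopfRep.Comod k C (V ⧸ W) :=
  comodOfSurjective W.mkQ W.mkQ_surjective (quotCoact W hW) (quotCoact_comp_mkQ W hW)

theorem quotComod_coact_mk (W : Submodule k V) (hW : HopfRep.IsSubcomod (k := k) (A := C) W) (v : V) :
    (quotComod W hW).coact (Submodule.Quotient.mk v) =
      W.mkQ.rTensor C (HopfRep.Comod.coact (k := k) (A := C) v) :=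
  LinearMap.congr_fun (quotCoact_comp_mkQ W hW) v

end Quot

end Groth.Agent.H40
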