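import Groth.Agent.H40.Comod

/-! Helper lemmas (helper40): corestriction of comodules along a coalgebra homomorphism. -/

set_option autoImplicit false
universe u v v' w

open TensorProduct

namespace Groth.Agent.H40

section Restrict

variable {k : Type u} [CommRing k] {B : Type v} [AddCommGroup B] [Module k B] [Coalgebra k B]
  {A : Type v'} [AddCommGroup A] [Module k A] [Coalgebra k A]
  {V : Type w} [AddCommGroup V] [Module k V]

omit [Coalgebra k B] [Coalgebra k A] in
theorem assoc_map_map (f : B →ₗ[k] A) :
    (TensorProduct.assoc k V A A).toLinearMap ∘ₗ (f.lTensor V).rTensor A ∘ₗ f.lTensor (V ⊗[k] B) =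
      (TensorProduct.map f f).lTensor V ∘ₗ (TensorProduct.assoc k V B B).toLinearMap := by
  ext x c d
  simp

variable [HopfRep.Comod k B V]

/-- Push a `B`-comodule structure forward along a coalgebra map `f : B → A`. -/
@[reducible] noncomputable def comodAlong (f : B →ₗc[k] A) : HopfRep.Comod k A V where
  coact := f.toLinearMap.lTensor V ∘ₗ HopfRep.Comod.coact (k := k) (A := B)
  coassoc := by
    set ρ := HopfRep.Comod.coact (k := k) (A := B) (V := V) with hρ
    set g := f.toLinearMap with hg
    have e1 : (g.lTensor V ∘ₗ ρ).rTensor A ∘ₗ g.lTensor V =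
        (g.lTensor V).rTensor A ∘ₗ g.lTensor (V ⊗[k] B) ∘ₗ ρ.rTensor B := by
      ext x c
      simp only [LinearMap.comp_apply, TensorProduct.AlgebraTensorModule.curry_apply,
        TensorProduct.curry_apply, LinearMap.coe_restrictScalars, LinearMap.lTensor_tmul,
        LinearMap.rTensor_tmul]
    calc (TensorProduct.assoc k V A A).toLinearMap ∘ₗ (g.lTensor V ∘ₗ ρ).rTensor A ∘ₗ
          (g.lTensor V ∘ₗ ρ)
        = (TensorProduct.assoc k V A A).toLinearMap ∘ₗ
            ((g.lTensor V ∘ₗ ρ).rTensor A ∘ₗ g.lTensor V) ∘ₗ ρ := by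
          simp only [LinearMap.comp_assoc]
      _ = ((TensorProduct.assoc k V A A).toLinearMap ∘ₗ (g.lTensor V).rTensor A ∘ₗ
            g.lTensor (V ⊗[k] B)) ∘ₗ (ρ.rTensor B ∘ₗ ρ) := by
          rw [e1]
          simp only [LinearMap.comp_assoc]
      _ = (TensorProduct.map g g).lTensor V ∘ₗ ((TensorProduct.assoc k V B B).toLinearMap ∘ₗ
            ρ.rTensor B ∘ₗ ρ) := by
          rw [assoc_map_map]
          simp only [LinearMap.comp_assoc]
      _ = (TensorProduct.map g g).lTensor V ∘ₗ
            ((Coalgebra.comul (R := k) (A := B)).lTensor V ∘ₗ ρ) := by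
          rw [HopfRep.Comod.coassoc]
      _ = (TensorProduct.map g g ∘ₗ Coalgebra.comul (R := k) (A := B)).lTensor V ∘ₗ ρ := by
          rw [LinearMap.lTensor_comp]
          simp only [LinearMap.comp_assoc]
      _ = (Coalgebra.comul (R := k) (A := A) ∘ₗ g).lTensor V ∘ₗ ρ := by
          rw [hg, f.map_comp_comul]
      _ = (Coalgebra.comul (R := k) (A := A)).lTensor V ∘ₗ (g.lTensor V ∘ₗ ρ) := by
          rw [LinearMap.lTensor_comp]
          simp only [LinearMap.comp_assoc]
  counit_comp := by
    rw [← LinearMap.comp_assoc, ← LinearMap.lTensor_comp, f.counit_comp]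
    exact HopfRep.Comod.counit_comp

theorem comodAlong_coact (f : B →ₗc[k] A) (v : V) :
    (comodAlong (V := V) f).coact v =
      f.toLinearMap.lTensor V (HopfRep.Comod.coact (k := k) (A := B) v) := rfl

end Restrict

section Field

variable {k : Type u} [Field k] {B : Type v} [AddCommGroup B] [Module k B] [Coalgebra k B]
  {A : Type v'} [AddCommGroup A] [Module k A] [Coalgebra k A]
  {V : Type w} [AddCommGroup V] [Module k V] [HopfRep.Comod k B V]

omit [Coalgebra k B] [Coalgebra k A] [HopfRep.Comod k B V] in
theorem slice_lTensor (g : B →ₗ[k] A) (ψ : A →ₗ[k] k) (t : V ⊗[k] B) :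
    slice ψ (g.lTensor V t) = slice (ψ ∘ₗ g) t := by
  induction t using TensorProduct.induction_on with
  | zero => simp
  | tmul x y => simp
  | add x y hx hy => simp only [map_add, hx, hy]

/-- If `f` is injective, a subcomodule for the pushed-forward structure is a subcomodule
for the original structure. -/
theorem isSubcomod_of_isSubcomod_comodAlong (f : B →ₗc[k] A) (hf : Function.Injective f)
    (W : Submodule k V)
    (hW : @HopfRep.IsSubcomod k A _ _ _ _ V _ _ (comodAlong f) W) :
    HopfRep.IsSubcomod (k := k) (A := B) W := by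
  intro w hw
  apply mem_range_rTensor_subtype_of_forall_slice
  intro φ
  obtain ⟨g, hg⟩ := f.toLinearMap.exists_leftInverse_of_injective
    (LinearMap.ker_eq_bot.2 hf)
  have h1 := slice_mem_of_mem_range W _ (hW w hw) (φ ∘ₗ g)
  rw [comodAlong_coact, slice_lTensor, LinearMap.comp_assoc, hg, LinearMap.comp_id] at h1
  exact h1

end Field

end Groth.Agent.H40
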