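import Groth.Agent.H40.SchurGen
import Groth.Agent.H40.ComodHom
import Groth.Prelude.Def_ComodTens

/-! Helper lemmas (helper40): splitting and lifting of comodule maps for semisimple comodules,
maps into finite direct sums, twisting of morphisms. -/

set_option autoImplicit false
universe u v w w' w''

open TensorProduct

namespace Groth.Agent.H40

open Groth.Agent.Lib.Helper93.Comod

section Split

variable {k : Type u} [Field k] {C : Type v} [AddCommGroup C] [Module k C] [Coalgebra k C]
variable {V : Type w} [AddCommGroup V] [Module k V] {E : Type w'} [AddCommGroup E] [Module k E]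
  {W : Type w''} [AddCommGroup W] [Module k W]

/-- If `i ∘ p` is a morphism and `i` is an injective morphism then `p` is a morphism. -/
theorem isHom_of_comp_injective (cV : HopfRep.Comod k C V) (cE : HopfRep.Comod k C E)
    (cW : HopfRep.Comod k C W) (i : E →ₗ[k] W) (hi : IsHom cE cW i) (hinj : Function.Injective i)
    (p : V →ₗ[k] E) (h : IsHom cV cW (i ∘ₗ p)) : IsHom cV cE p := by
  unfold IsHom at *
  apply LinearMap.ext
  intro v
  have hinj' : Function.Injective (i.rTensor C) :=
    Module.Flat.rTensor_preserves_injective_linearMap _ hinj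
  apply hinj'
  have h1 := LinearMap.congr_fun hi (p v)
  have h2 := LinearMap.congr_fun h v
  simp only [LinearMap.comp_apply] at h1 h2 ⊢
  rw [← h1, h2, LinearMap.rTensor_comp_apply]

/-- An injective morphism into a semisimple comodule has a retraction which is a morphism. -/
theorem exists_retraction (cV : HopfRep.Comod k C V) (cE : HopfRep.Comod k C E)
    (hE : @HopfRep.IsSemisimpleComod k C _ _ _ _ E _ _ cE) (i : V →ₗ[k] E) (hi : IsHom cV cE i)
    (hinj : Function.Injective i) :
    ∃ p : E →ₗ[k] V, IsHom cE cV p ∧ p ∘ₗ i = LinearMap.id := by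
  let _ := cV
  let _ := cE
  have hS : HopfRep.IsSubcomod (k := k) (A := C) (LinearMap.range i) := isSubcomod_range i hi
  obtain ⟨W', hW', hc⟩ := hE _ hS
  obtain ⟨g, hg, hgS, hgT⟩ := exists_proj_hom (C := C) (LinearMap.id : E →ₗ[k] E)
    (isHom_id cE) (LinearMap.range i) W' hS hW' hc.disjoint (by
      rw [hc.sup_eq_top]; exact le_top)
  let e := LinearEquiv.ofInjective i hinj
  let p : E →ₗ[k] V := e.symm.toLinearMap ∘ₗ g.codRestrict (LinearMap.range i) (fun x => hgS ⟨x, rfl⟩)
  have hip : ∀ x, i (p x) = g x := by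
    intro x
    have := e.apply_symm_apply (g.codRestrict (LinearMap.range i) (fun x => hgS ⟨x, rfl⟩) x)
    exact congrArg Subtype.val this
  have hgi : ∀ v, g (i v) = i v := by
    intro v
    have h1 : i v - g (i v) ∈ W' := hgT (i v)
    have h2 : i v - g (i v) ∈ LinearMap.range i :=
      Submodule.sub_mem _ ⟨v, rfl⟩ (hgS ⟨i v, rfl⟩)
    have h3 : i v - g (i v) ∈ LinearMap.range i ⊓ W' := ⟨h2, h1⟩
    rw [hc.inf_eq_bot, Submodule.mem_bot, sub_eq_zero] at h3
    exact h3.symm
  refine ⟨p, ?_, ?_⟩
  · apply isHom_of_comp_injective cE cV cE i hi hinj p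
    have : i ∘ₗ p = g := LinearMap.ext hip
    rw [this]
    exact hg
  · apply LinearMap.ext
    intro v
    apply hinj
    rw [LinearMap.comp_apply, hip, hgi]
    rfl

/-- Lifting a morphism through a morphism from a semisimple comodule. -/
theorem exists_lift (cV : HopfRep.Comod k C V) (cE : HopfRep.Comod k C E)
    (cW : HopfRep.Comod k C W) (hE : @HopfRep.IsSemisimpleComod k C _ _ _ _ E _ _ cE)
    (q : E →ₗ[k] W) (hq : IsHom cE cW q) (Φ : V →ₗ[k] W) (hΦ : IsHom cV cW Φ)
    (hle : LinearMap.range Φ ≤ LinearMap.range q) :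
    ∃ Φ' : V →ₗ[k] E, IsHom cV cE Φ' ∧ q ∘ₗ Φ' = Φ := by
  let _ := cV
  let _ := cE
  let _ := cW
  have hK : HopfRep.IsSubcomod (k := k) (A := C) (LinearMap.ker q) := isSubcomod_ker q hq
  obtain ⟨N, hN, hc⟩ := hE _ hK
  let cN : HopfRep.Comod k C N := ComodSub.Comod.restr cE N hN
  have hsub : IsHom cN cE N.subtype := ComodSub.isComodHom_subtype cE N hN
  let qN : N →ₗ[k] W := q ∘ₗ N.subtype
  have hqN : IsHom cN cW qN := hq.comp hsub
  have hqNinj : Function.Injective qN := by
    rw [← LinearMap.ker_eq_bot, eq_bot_iff]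
    intro x hx
    have h1 : (x : E) ∈ LinearMap.ker q ⊓ N := ⟨hx, x.2⟩
    rw [hc.inf_eq_bot, Submodule.mem_bot] at h1
    rw [Submodule.mem_bot]
    exact Subtype.ext h1
  have hrange : LinearMap.range q ≤ LinearMap.range qN := by
    rintro _ ⟨x, rfl⟩
    have hx : x ∈ LinearMap.ker q ⊔ N := by rw [hc.sup_eq_top]; exact Submodule.mem_top
    obtain ⟨a, ha, b, hb, rfl⟩ := Submodule.mem_sup.1 hx
    refine ⟨⟨b, hb⟩, ?_⟩
    change q b = q (a + b)
    rw [map_add, LinearMap.mem_ker.1 ha, zero_add]
  let e := LinearEquiv.ofInjective qN hqNinj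
  let Φ'' : V →ₗ[k] N := e.symm.toLinearMap ∘ₗ
    Φ.codRestrict (LinearMap.range qN) (fun v => hrange (hle ⟨v, rfl⟩))
  have hqΦ : qN ∘ₗ Φ'' = Φ := by
    apply LinearMap.ext
    intro v
    have := e.apply_symm_apply (Φ.codRestrict (LinearMap.range qN)
      (fun v => hrange (hle ⟨v, rfl⟩)) v)
    exact congrArg Subtype.val this
  have hΦ'' : IsHom cV cN Φ'' := by
    apply isHom_of_comp_injective cV cN cW qN hqN hqNinj
    rw [hqΦ]
    exact hΦ
  refine ⟨N.subtype ∘ₗ Φ'', hsub.comp hΦ'', ?_⟩
  rw [← LinearMap.comp_assoc]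
  exact hqΦ

end Split

section Pi

variable {k : Type u} [CommRing k] {A : Type v} [CommRing A] [Bialgebra k A]
variable {U : Type w} [AddCommGroup U] [Module k U]
variable {ι : Type w'} [Fintype ι] [DecidableEq ι] {X : ι → Type w''} [∀ i, AddCommGroup (X i)]
  [∀ i, Module k (X i)]

/-- A map into a finite direct sum is a morphism if all its components are. -/
theorem isHom_pi (c : HopfRep.Comod k A U) (d : ∀ i, HopfRep.Comod k A (X i))
    (f : U →ₗ[k] (∀ i, X i)) (hf : ∀ i, IsHom c (d i) (LinearMap.proj i ∘ₗ f)) :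
    IsHom c (ComodTens.Comod.pi d) f := by
  unfold IsHom
  apply LinearMap.ext
  intro u
  simp only [LinearMap.comp_apply]
  rw [ComodTens.pi_coact]
  have h1 : ∀ i, (d i).coact (f u i) = (LinearMap.proj i ∘ₗ f).rTensor A (c.coact u) := by
    intro i
    have := LinearMap.congr_fun (hf i) u
    simp only [LinearMap.comp_apply] at this
    exact this
  simp only [h1]
  generalize c.coact u = t
  induction t using TensorProduct.induction_on with
  | zero => simp
  | tmul x a =>
    simp only [LinearMap.rTensor_tmul, LinearMap.comp_apply, LinearMap.proj_apply,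
      LinearMap.coe_single]
    rw [← TensorProduct.sum_tmul]
    congr 1
    exact Finset.univ_sum_single (f x)
  | add p q hp hq =>
    simp only [map_add, Finset.sum_add_distrib, hp, hq]

end Pi

section Twist

variable {k : Type u} [CommRing k] {A : Type v} [CommRing A] [Bialgebra k A]
variable {V : Type w} [AddCommGroup V] [Module k V] {E : Type w'} [AddCommGroup E] [Module k E]

theorem lTensor_mulRight_mulRight (g g' : A) (hgg : g' * g = 1) (t : V ⊗[k] A) :
    (LinearMap.mulRight k g).lTensor V ((LinearMap.mulRight k g').lTensor V t) = t := by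
  induction t using TensorProduct.induction_on with
  | zero => simp
  | tmul x a =>
    simp only [LinearMap.lTensor_tmul, LinearMap.mulRight_apply]
    rw [mul_assoc, hgg, mul_one]
  | add p q hp hq => simp only [map_add, hp, hq]

theorem lTensor_rTensor_comm' (f : V →ₗ[k] E) (h : A →ₗ[k] A) (t : V ⊗[k] A) :
    h.lTensor E (f.rTensor A t) = f.rTensor A (h.lTensor V t) := by
  induction t using TensorProduct.induction_on with
  | zero => simp
  | tmul x a => simp
  | add p q hp hq => simp only [map_add, hp, hq]

/-- A morphism out of a twisted comodule is a morphism into the inversely twisted target. -/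
theorem isHom_twist_right (c : HopfRep.Comod k A V) (d : HopfRep.Comod k A E) (g g' : A)
    (hg : IsGroupLikeElem k g) (hg' : IsGroupLikeElem k g') (hgg : g' * g = 1) (f : V →ₗ[k] E)
    (hf : IsHom (ComodTens.Comod.twist c g' hg') d f) :
    IsHom c (ComodTens.Comod.twist d g hg) f := by
  unfold IsHom at *
  apply LinearMap.ext
  intro v
  have h1 := LinearMap.congr_fun hf v
  simp only [LinearMap.comp_apply] at h1 ⊢
  rw [ComodTens.twist_coact, h1, ComodTens.twist_coact, lTensor_rTensor_comm',
    lTensor_mulRight_mulRight g g' hgg]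

/-- A morphism into a twisted comodule is a morphism out of the inversely twisted source. -/
theorem isHom_twist_left (c : HopfRep.Comod k A V) (d : HopfRep.Comod k A E) (g g' : A)
    (hg : IsGroupLikeElem k g) (hg' : IsGroupLikeElem k g') (hgg : g' * g = 1) (p : E →ₗ[k] V)
    (hp : IsHom d (ComodTens.Comod.twist c g' hg') p) :
    IsHom (ComodTens.Comod.twist d g hg) c p := by
  unfold IsHom at *
  apply LinearMap.ext
  intro x
  have h1 := LinearMap.congr_fun hp x
  simp only [LinearMap.comp_apply] at h1 ⊢
  rw [ComodTens.twist_coact] at h1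
  rw [ComodTens.twist_coact, ← lTensor_rTensor_comm', ← h1, lTensor_mulRight_mulRight g g' hgg]

end Twist

end Groth.Agent.H40
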