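import Mathlib
import Groth.Prelude.Def_Hoch
import Groth.Prelude.Def_ComodSub
import Groth.Agent.H40.ComodHom
import Groth.Agent.S7947
import Groth.Agent.S16471
import Groth.Agent.Lib.Helper84.ComodHomDual
import Groth.Agent.Lib.Helper93.Comod

/-! Helper lemmas (helper40): low-degree Hochschild complex: `d₁ ∘ d₀ = 0`, naturality, the connecting
argument (`H¹(K) = 0` ⇒ invariants lift along a surjection with kernel `K`), functoriality of the tensor
product of comodules, and: vanishing of `H¹` on finite-dimensional comodules implies linear reductivity. -/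

set_option autoImplicit false
universe u v w w'

open TensorProduct

namespace Groth.Agent.H40

section D01

variable {k : Type u} [Field k] {A : Type v} [CommRing A] [Bialgebra k A]
variable {V : Type v} [AddCommGroup V] [Module k V] [HopfRep.Comod k A V]
variable {V' : Type v} [AddCommGroup V'] [Module k V'] [HopfRep.Comod k A V']

theorem d_one_apply (z : V ⊗[k] A) :
    Hoch.d k A V 1 z = (Hoch.d k A V 0).rTensor A z - Hoch.tail k A V z := by
  have : Hoch.d k A V 1 z = (Hoch.d k A V 0).rTensor A z + ((-1 : k) ^ (0 + 1)) • Hoch.tail k A V z := rfl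
  have e : ((-1 : k) ^ (0 + 1)) = -1 := by norm_num
  rw [this, e]
  module

omit [HopfRep.Comod k A V] in
theorem assoc_symm_lTensor_flip (t : V ⊗[k] A) :
    (TensorProduct.assoc k V A A).symm ((((TensorProduct.mk k A A).flip 1).lTensor V) t) = t ⊗ₜ[k] (1 : A) := by
  induction t using TensorProduct.induction_on with
  | zero => simp
  | tmul v a => simp
  | add x y hx hy => simp only [map_add, hx, hy, TensorProduct.add_tmul]

omit [HopfRep.Comod k A V] in
theorem assoc_symm_lTensor_mk (t : V ⊗[k] A) :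
    (TensorProduct.assoc k V A A).symm (((TensorProduct.mk k A A 1).lTensor V) t) =
      (((TensorProduct.mk k V A).flip 1).rTensor A) t := by
  induction t using TensorProduct.induction_on with
  | zero => simp
  | tmul v a => simp
  | add x y hx hy => simp only [map_add, hx, hy]

omit [HopfRep.Comod k A V] in
theorem tail_apply (t : V ⊗[k] A) :
    Hoch.tail k A V t = (TensorProduct.assoc k V A A).symm ((Coalgebra.comul (R := k) (A := A)).lTensor V t) -
      t ⊗ₜ[k] (1 : A) - (((TensorProduct.mk k V A).flip 1).rTensor A) t := by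
  rw [← assoc_symm_lTensor_flip, ← assoc_symm_lTensor_mk, ← map_sub, ← map_sub, ← LinearMap.sub_apply,
    ← LinearMap.sub_apply, ← LinearMap.lTensor_sub, ← LinearMap.lTensor_sub]
  rfl

theorem coact_rTensor_coact (x : V) :
    (HopfRep.Comod.coact (k := k) (A := A) (V := V)).rTensor A (HopfRep.Comod.coact (k := k) (A := A) x) =
      (TensorProduct.assoc k V A A).symm
        ((Coalgebra.comul (R := k) (A := A)).lTensor V (HopfRep.Comod.coact (k := k) (A := A) x)) := by
  have h := LinearMap.congr_fun (HopfRep.Comod.coassoc (k := k) (A := A) (V := V)) x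
  simp only [LinearMap.comp_apply, LinearEquiv.coe_coe] at h
  rw [← h, LinearEquiv.symm_apply_apply]

theorem d_one_d_zero (x : V) : Hoch.d k A V 1 (Hoch.d k A V 0 x) = 0 := by
  rw [d_one_apply, Hoch.d_zero_apply, map_sub, map_sub, LinearMap.rTensor_tmul, Hoch.d_zero_apply,
    tail_apply, Hoch.tail_tmul, Hoch.d_zero, LinearMap.rTensor_sub, LinearMap.sub_apply,
    coact_rTensor_coact, Bialgebra.comul_one, Algebra.TensorProduct.one_def]
  simp only [sub_self, zero_sub, TensorProduct.tmul_neg, map_neg, TensorProduct.assoc_symm_tmul,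
    TensorProduct.sub_tmul]
  abel

theorem d_zero_natural (f : V →ₗ[k] V') (hf : Hoch.IsComodHom A f) (x : V) :
    Hoch.d k A V' 0 (f x) = f.rTensor A (Hoch.d k A V 0 x) := by
  have h := LinearMap.congr_fun hf x
  simp only [LinearMap.comp_apply] at h
  rw [Hoch.d_zero_apply, Hoch.d_zero_apply, map_sub, LinearMap.rTensor_tmul, h]

theorem d_one_natural (f : V →ₗ[k] V') (hf : Hoch.IsComodHom A f) (z : V ⊗[k] A) :
    Hoch.d k A V' 1 (f.rTensor A z) = (f.rTensor A).rTensor A (Hoch.d k A V 1 z) := by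
  have h0 : Hoch.d k A V' 0 ∘ₗ f = f.rTensor A ∘ₗ Hoch.d k A V 0 :=
    LinearMap.ext (d_zero_natural f hf)
  rw [d_one_apply, d_one_apply, map_sub, Groth.Agent.S7947.tail_natural, ← LinearMap.rTensor_comp_apply,
    h0, LinearMap.rTensor_comp_apply]

/-- The connecting argument: if `H¹(K) = 0`, invariants lift along `q : T → Q` with kernel `K`. -/
theorem exists_fixed_lift {K T Q : Type v} [AddCommGroup K] [Module k K] [HopfRep.Comod k A K]
    [AddCommGroup T] [Module k T] [HopfRep.Comod k A T]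
    [AddCommGroup Q] [Module k Q] [HopfRep.Comod k A Q]
    (j : K →ₗ[k] T) (q : T →ₗ[k] Q) (hj : Hoch.IsComodHom A j) (hq : Hoch.IsComodHom A q)
    (hinj : Function.Injective j) (hsurj : Function.Surjective q) (hex : Function.Exact j q)
    (hH1 : Hoch.cocycles k A K 1 ≤ Hoch.coboundaries k A K 1)
    (xbar : Q) (hxbar : HopfRep.Comod.coact (k := k) (A := A) xbar = xbar ⊗ₜ[k] (1 : A)) :
    ∃ x : T, q x = xbar ∧ HopfRep.Comod.coact (k := k) (A := A) x = x ⊗ₜ[k] (1 : A) := by
  obtain ⟨x0, hx0⟩ := hsurj xbar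
  have hz : q.rTensor A (Hoch.d k A T 0 x0) = 0 := by
    rw [← d_zero_natural q hq, hx0, Hoch.d_zero_apply, hxbar, sub_self]
  have hex' : Function.Exact (j.rTensor A) (q.rTensor A) := rTensor_exact A hex hsurj
  obtain ⟨z', hz'⟩ := (hex' _).mp hz
  have hinj1 : Function.Injective (j.rTensor A) :=
    Module.Flat.rTensor_preserves_injective_linearMap _ hinj
  have hinj2 : Function.Injective ((j.rTensor A).rTensor A) :=
    Module.Flat.rTensor_preserves_injective_linearMap _ hinj1
  have hcoc : Hoch.d k A K 1 z' = 0 := by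
    apply hinj2
    rw [← d_one_natural j hj, hz', d_one_d_zero, map_zero]
  obtain ⟨y, hy⟩ := hH1 (show z' ∈ Hoch.cocycles k A K 1 from hcoc)
  refine ⟨x0 - j y, ?_, ?_⟩
  · rw [map_sub, hx0, hex.apply_apply_eq_zero, sub_zero]
  · have h0 : Hoch.d k A T 0 (x0 - j y) = 0 := by
      rw [map_sub, d_zero_natural j hj, hy, hz', sub_self]
    rw [Hoch.d_zero_apply, sub_eq_zero] at h0
    exact h0

end D01

section Fixed

variable {k : Type u} [Field k] {A : Type v} [CommRing A] [Bialgebra k A]
variable {X : Type w} [AddCommGroup X] [Module k X]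
variable {Y : Type w'} [AddCommGroup Y] [Module k Y]

/-- An injective comodule map preserves and reflects invariants. -/
theorem fixed_iff_of_injective (cX : HopfRep.Comod k A X) (cY : HopfRep.Comod k A Y)
    (φ : X →ₗ[k] Y) (hφ : IsHom cX cY φ) (hinj : Function.Injective φ) (x : X) :
    cX.coact x = x ⊗ₜ[k] (1 : A) ↔ cY.coact (φ x) = φ x ⊗ₜ[k] (1 : A) := by
  have h := LinearMap.congr_fun hφ x
  simp only [LinearMap.comp_apply] at h
  constructor
  · intro hx
    rw [h, hx, LinearMap.rTensor_tmul]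
  · intro hx
    have hinj1 : Function.Injective (φ.rTensor A) :=
      Module.Flat.rTensor_preserves_injective_linearMap _ hinj
    apply hinj1
    rw [← h, hx, LinearMap.rTensor_tmul]

end Fixed

section TensorFunctorial

variable {k : Type u} [CommRing k] {A : Type v} [CommRing A] [Bialgebra k A]
variable {V : Type*} [AddCommGroup V] [Module k V] {V' : Type*} [AddCommGroup V'] [Module k V']
variable {W : Type*} [AddCommGroup W] [Module k W] {W' : Type*} [AddCommGroup W'] [Module k W']

theorem isHom_tensor_map {c : HopfRep.Comod k A V} {c' : HopfRep.Comod k A V'}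
    {d : HopfRep.Comod k A W} {d' : HopfRep.Comod k A W'} {f : V →ₗ[k] V'} {g : W →ₗ[k] W'}
    (hf : IsHom c c' f) (hg : IsHom d d' g) :
    IsHom (ComodTens.Comod.tensor c d) (ComodTens.Comod.tensor c' d') (TensorProduct.map f g) := by
  have key : ∀ (t : V ⊗[k] A) (s : W ⊗[k] A),
      TensorProduct.map LinearMap.id (LinearMap.mul' k A)
        (TensorProduct.AlgebraTensorModule.tensorTensorTensorComm k k k k V' A W' A
          ((f.rTensor A t) ⊗ₜ[k] (g.rTensor A s))) =
      (TensorProduct.map f g).rTensor A (TensorProduct.map LinearMap.id (LinearMap.mul' k A)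
        (TensorProduct.AlgebraTensorModule.tensorTensorTensorComm k k k k V A W A (t ⊗ₜ[k] s))) := by
    intro t s
    induction t using TensorProduct.induction_on with
    | zero => simp
    | tmul v a =>
      induction s using TensorProduct.induction_on with
      | zero => simp
      | tmul w b => simp
      | add x y hx hy => simp only [map_add, TensorProduct.tmul_add, hx, hy]
    | add x y hx hy => simp only [map_add, TensorProduct.add_tmul, hx, hy]
  unfold IsHom
  apply TensorProduct.ext'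
  intro v w
  have h1 := LinearMap.congr_fun hf v
  have h2 := LinearMap.congr_fun hg w
  simp only [LinearMap.comp_apply] at h1 h2
  rw [LinearMap.comp_apply, LinearMap.comp_apply, TensorProduct.map_tmul,
    ComodTens.tensor_coact_tmul, ComodTens.tensor_coact_tmul, h1, h2, key]

end TensorFunctorial

section OfEquiv

variable {k : Type u} [CommRing k] {A : Type v} [AddCommGroup A] [Module k A] [Coalgebra k A]
  {V : Type w} [AddCommGroup V] [Module k V] {W : Type w'} [AddCommGroup W] [Module k W]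

theorem isHom_ofEquiv_symm (e : V ≃ₗ[k] W) (c : HopfRep.Comod k A V) :
    IsHom (ComodTens.Comod.ofEquiv e c) c (e.symm : W →ₗ[k] V) := by
  unfold IsHom
  apply LinearMap.ext
  intro w
  rw [LinearMap.comp_apply, LinearMap.comp_apply, ComodTens.ofEquiv_coact,
    ← LinearMap.rTensor_comp_apply]
  have : (e.symm : W →ₗ[k] V) ∘ₗ (e : V →ₗ[k] W) = LinearMap.id := by
    apply LinearMap.ext; intro v; simp
  rw [this, LinearMap.rTensor_id_apply]
  rfl

end OfEquiv

section Main

open Groth.Agent.Lib.Helper84.ComodHomDual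

variable {k : Type u} [Field k] {A : Type v} [CommRing A] [HopfAlgebra k A]

theorem Theta_rTensor {B B' M : Type*} [AddCommGroup B] [Module k B] [AddCommGroup B'] [Module k B']
    [AddCommGroup M] [Module k M] (f : B →ₗ[k] B') (y : B ⊗[k] Module.Dual k M) :
    Theta (f.rTensor (Module.Dual k M) y) = f ∘ₗ Theta y := by
  induction y using TensorProduct.induction_on with
  | zero => simp
  | tmul b φ => ext m; simp
  | add x y hx hy => simp only [map_add, hx, hy, LinearMap.comp_add]

/-- If `H¹` vanishes on all finite-dimensional comodules then every finite-dimensional comodule is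
semisimple. -/
theorem linearlyReductive_of_H1
    (hH : ∀ (V : Type v) [AddCommGroup V] [Module k V] [HopfRep.Comod k A V], Module.Finite k V →
        Hoch.cocycles k A V 1 ≤ Hoch.coboundaries k A V 1) :
    HopfRep.IsLinearlyReductive k A := by
  intro V _ _ cV hfin W hW
  let cW : HopfRep.Comod k A ↥W := ComodSub.Comod.restr cV W hW
  let cU : HopfRep.Comod k A (V ⧸ W) := ComodSub.Comod.quot cV W hW
  have hι : IsHom cW cV W.subtype := ComodSub.isComodHom_subtype cV W hW
  have hπ : IsHom cV cU W.mkQ := ComodSub.isComodHom_mkQ cV W hW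
  obtain ⟨d, hd⟩ := Groth.Agent.S16471.result k A (V ⧸ W) cU
  let e : (V ⧸ W) ≃ₗ[k] Module.Dual k (V ⧸ W) := (Module.finBasis k (V ⧸ W)).toDualEquiv
  let d' : HopfRep.Comod k A (V ⧸ W) := ComodTens.Comod.ofEquiv e.symm d
  have he : IsHom d' d (e : (V ⧸ W) →ₗ[k] Module.Dual k (V ⧸ W)) := isHom_ofEquiv_symm e.symm d
  -- the three tensor comodules
  let cTW : HopfRep.Comod k A (↥W ⊗[k] (V ⧸ W)) := ComodTens.Comod.tensor cW d'
  let cTV : HopfRep.Comod k A (V ⊗[k] (V ⧸ W)) := ComodTens.Comod.tensor cV d'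
  let cTU : HopfRep.Comod k A ((V ⧸ W) ⊗[k] (V ⧸ W)) := ComodTens.Comod.tensor cU d'
  have hj : IsHom cTW cTV (W.subtype.rTensor (V ⧸ W)) := isHom_tensor_map hι (isHom_id d')
  have hq : IsHom cTV cTU (W.mkQ.rTensor (V ⧸ W)) := isHom_tensor_map hπ (isHom_id d')
  have hjinj : Function.Injective (W.subtype.rTensor (V ⧸ W)) :=
    Module.Flat.rTensor_preserves_injective_linearMap _ W.injective_subtype
  have hqsurj : Function.Surjective (W.mkQ.rTensor (V ⧸ W)) :=
    LinearMap.rTensor_surjective _ W.mkQ_surjective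
  have hex : Function.Exact (W.subtype.rTensor (V ⧸ W)) (W.mkQ.rTensor (V ⧸ W)) :=
    rTensor_exact _ (LinearMap.exact_subtype_mkQ W) W.mkQ_surjective
  have hH1 := @hH (↥W ⊗[k] (V ⧸ W)) _ _ cTW inferInstance
  -- comparison with the honest dual
  have hφ : ∀ {B : Type v} [AddCommGroup B] [Module k B] (cB : HopfRep.Comod k A B),
      IsHom (ComodTens.Comod.tensor cB d') (ComodTens.Comod.tensor cB d)
        ((e : (V ⧸ W) →ₗ[k] Module.Dual k (V ⧸ W)).lTensor B) :=
    fun cB => isHom_tensor_map (isHom_id cB) he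
  have hφinj : ∀ (B : Type v) [AddCommGroup B] [Module k B],
      Function.Injective ((e : (V ⧸ W) →ₗ[k] Module.Dual k (V ⧸ W)).lTensor B) :=
    fun B _ _ => Module.Flat.lTensor_preserves_injective_linearMap _ e.injective
  -- the invariant corresponding to the identity of U
  have : Module.FinitePresentation k (V ⧸ W) := Module.finitePresentation_of_projective k _
  obtain ⟨xD, hxD, hxDid⟩ := (bijOn cU cU d hd).surjOn
    (show (LinearMap.id : (V ⧸ W) →ₗ[k] (V ⧸ W)) ∈
      {h : (V ⧸ W) →ₗ[k] (V ⧸ W) | @Hoch.IsComodHom k _ A _ _ _ _ _ _ cU _ _ _ cU h} from isHom_id cU)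
  have hxDfix : (ComodTens.Comod.tensor cU d).coact xD = xD ⊗ₜ[k] (1 : A) := hxD
  have hThetaD : Theta xD = (LinearMap.id : (V ⧸ W) →ₗ[k] (V ⧸ W)) := hxDid
  obtain ⟨xbar, hxbar⟩ : ∃ xbar : (V ⧸ W) ⊗[k] (V ⧸ W),
      (e : (V ⧸ W) →ₗ[k] Module.Dual k (V ⧸ W)).lTensor (V ⧸ W) xbar = xD := by
    refine ⟨(e.symm : Module.Dual k (V ⧸ W) →ₗ[k] (V ⧸ W)).lTensor (V ⧸ W) xD, ?_⟩
    rw [← LinearMap.lTensor_comp_apply]
    have : (e : (V ⧸ W) →ₗ[k] Module.Dual k (V ⧸ W)) ∘ₗ
        (e.symm : Module.Dual k (V ⧸ W) →ₗ[k] (V ⧸ W)) = LinearMap.id := by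
      apply LinearMap.ext; intro v; simp
    rw [this, LinearMap.lTensor_id_apply]
  have hxbarfix : cTU.coact xbar = xbar ⊗ₜ[k] (1 : A) :=
    (fixed_iff_of_injective cTU (ComodTens.Comod.tensor cU d) _ (hφ cU) (hφinj _) xbar).mpr
      (by rw [hxbar]; exact hxDfix)
  obtain ⟨x, hqx, hxfix⟩ := @exists_fixed_lift k _ A _ _ _ _ _ _ _ cTW _ _ cTV _ _ cTU
    _ _ hj hq hjinj hqsurj hex hH1 xbar hxbarfix
  have hxfix' := (fixed_iff_of_injective cTV (ComodTens.Comod.tensor cV d) _ (hφ cV) (hφinj _) x).mp hxfix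
  have hs := (mem_fixedPts_iff cV cU d hd _).mp hxfix'
  have hπs : W.mkQ ∘ₗ Theta ((e : (V ⧸ W) →ₗ[k] Module.Dual k (V ⧸ W)).lTensor V x) = LinearMap.id := by
    rw [← Theta_rTensor, ← hThetaD, ← hxbar, ← hqx]
    congr 1
    rw [← LinearMap.comp_apply, ← LinearMap.comp_apply, LinearMap.rTensor_comp_lTensor,
      LinearMap.lTensor_comp_rTensor]
  refine ⟨LinearMap.range (Theta ((e : (V ⧸ W) →ₗ[k] Module.Dual k (V ⧸ W)).lTensor V x)),
    @Groth.Agent.Lib.Helper93.Comod.isSubcomod_range k _ A _ _ _ V _ _ cV (V ⧸ W) _ _ cU _ hs, ?_⟩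
  have hsec : ∀ u, W.mkQ (Theta ((e : (V ⧸ W) →ₗ[k] Module.Dual k (V ⧸ W)).lTensor V x) u) = u :=
    fun u => LinearMap.congr_fun hπs u
  constructor
  · rw [Submodule.disjoint_def]
    rintro v hvW ⟨u, rfl⟩
    have : W.mkQ (Theta ((e : (V ⧸ W) →ₗ[k] Module.Dual k (V ⧸ W)).lTensor V x) u) = 0 :=
      (Submodule.Quotient.mk_eq_zero W).mpr hvW
    rw [hsec] at this
    rw [this, map_zero]
  · rw [codisjoint_iff, eq_top_iff]
    intro v _
    have h1 : v - Theta ((e : (V ⧸ W) →ₗ[k] Module.Dual k (V ⧸ W)).lTensor V x) (W.mkQ v) ∈ W := by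
      rw [← Submodule.Quotient.mk_eq_zero W, Submodule.Quotient.mk_sub]
      have := hsec (W.mkQ v)
      rw [Submodule.mkQ_apply] at this
      rw [this, Submodule.mkQ_apply, sub_self]
    have : v = (v - Theta ((e : (V ⧸ W) →ₗ[k] Module.Dual k (V ⧸ W)).lTensor V x) (W.mkQ v)) +
        Theta ((e : (V ⧸ W) →ₗ[k] Module.Dual k (V ⧸ W)).lTensor V x) (W.mkQ v) := by abel
    rw [this]
    exact Submodule.add_mem_sup h1 ⟨_, rfl⟩

end Main

end Groth.Agent.H40
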