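import Mathlib
import Groth.Prelude.Def_Hoch
import Groth.Agent.H40.Comod
import Groth.Agent.Lib.Helper59.LinRed
import Groth.Agent.Lib.Helper66.Hopf

/-! Helper lemmas (helper40): the antipode of a commutative Hopf algebra is an involution; projections
along complementary subcomodules are comodule maps; a linearly reductive commutative Hopf algebra has a
normalised invariant integral; contracting homotopy of the Hochschild complex from an integral. -/

set_option autoImplicit false
universe u v w

open TensorProduct

namespace Groth.Agent.H40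

section Antipode

variable {k : Type u} [CommRing k] {A : Type v} [CommRing A] [HopfAlgebra k A]

/-- The antipode of a commutative Hopf algebra is an involution. -/
theorem antipode_antipode (a : A) : HopfAlgebra.antipode k (HopfAlgebra.antipode k a) = a := by
  have h := inv_inv (WithConv.toConv (AlgHom.id k A))
  exact congrArg (fun g => g.ofConv a) h

end Antipode

section Proj

variable {k : Type u} [Field k] {C : Type v} [AddCommGroup C] [Module k C] [Coalgebra k C]
  {V : Type w} [AddCommGroup V] [Module k V] [HopfRep.Comod k C V]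

/-- The projection onto a subcomodule along a complementary subcomodule is a comodule map. -/
theorem isComodHom_proj (W W' : Submodule k V) (hW : HopfRep.IsSubcomod (k := k) (A := C) W)
    (hW' : HopfRep.IsSubcomod (k := k) (A := C) W') (h : IsCompl W W') :
    Hoch.IsComodHom C (W.projection W' h) := by
  have hπW : (W.projection W' h) ∘ₗ W.subtype = W.subtype := by
    ext w; simp
  have hπW' : (W.projection W' h) ∘ₗ W'.subtype = 0 := by
    ext w; simp
  unfold Hoch.IsComodHom
  apply LinearMap.ext
  intro a
  have ha : a ∈ W ⊔ W' := h.sup_eq_top ▸ Submodule.mem_top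
  obtain ⟨w, hw, w', hw', rfl⟩ := Submodule.mem_sup.mp ha
  obtain ⟨t, ht⟩ := hW w hw
  obtain ⟨t', ht'⟩ := hW' w' hw'
  have e1 : (W.projection W' h) w = w := Submodule.projection_apply_of_mem_left h hw
  have e2 : (W.projection W' h) w' = 0 := Submodule.projection_apply_of_mem_right h hw'
  rw [LinearMap.comp_apply, LinearMap.comp_apply, map_add, e1, e2, add_zero, map_add, map_add,
    ← ht, ← ht',
    ← LinearMap.rTensor_comp_apply, ← LinearMap.rTensor_comp_apply, hπW, hπW',
    LinearMap.rTensor_zero, LinearMap.zero_apply, add_zero]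

end Proj

section Integral

variable {k : Type u} [Field k] {A : Type v} [CommRing A] [HopfAlgebra k A]

theorem isSubcomod_span_one :
    HopfRep.IsSubcomod (k := k) (A := A) (V := A) (Submodule.span k {(1 : A)}) := by
  intro w hw
  obtain ⟨c, rfl⟩ := Submodule.mem_span_singleton.mp hw
  refine ⟨c • ((⟨1, Submodule.subset_span rfl⟩ : Submodule.span k {(1 : A)}) ⊗ₜ[k] (1 : A)), ?_⟩
  rw [map_smul, map_smul, LinearMap.rTensor_tmul]
  show c • ((1 : A) ⊗ₜ[k] (1 : A)) = c • Coalgebra.comul (R := k) (1 : A)
  rw [Bialgebra.comul_one, Algebra.TensorProduct.one_def]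

/-- A linearly reductive commutative Hopf algebra has a normalised integral `I : A → k`
with `(id ⊗ I) ∘ Δ = I(·) 1`. -/
theorem exists_integral (hG : HopfRep.IsLinearlyReductive k A) :
    ∃ I : A →ₗ[k] k, I 1 = 1 ∧
      ∀ a : A, slice I (Coalgebra.comul (R := k) a) = I a • (1 : A) := by
  obtain ⟨W', hW', hc⟩ :=
    Groth.Agent.Lib.Helper59.LinRed.isSemisimpleComod (V := A) hG _ (isSubcomod_span_one (k := k) (A := A))
  have hπ := isComodHom_proj (C := A) _ W' (isSubcomod_span_one (k := k) (A := A)) hW' hc
  obtain ⟨π, hπdef⟩ : ∃ π : A →ₗ[k] A,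
      π = (Submodule.span k {(1 : A)}).projection W' hc := ⟨_, rfl⟩
  rw [← hπdef] at hπ
  have hπmem : ∀ a, π a ∈ Submodule.span k {(1 : A)} := by
    intro a; rw [hπdef]; exact Submodule.projection_apply_mem hc a
  have hπ1 : π 1 = 1 := by
    rw [hπdef]
    exact Submodule.projection_apply_of_mem_left hc (Submodule.subset_span rfl)
  -- the right-invariant integral
  have hI0 : ∀ a, π a = (Coalgebra.counit (R := k) (A := A) ∘ₗ π) a • (1 : A) := by
    intro a
    obtain ⟨c, hc'⟩ := Submodule.mem_span_singleton.mp (hπmem a)
    rw [LinearMap.comp_apply, ← hc', map_smul, Bialgebra.counit_one, smul_eq_mul, mul_one]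
  have hR : ∀ a, TensorProduct.lid k A
      (((Coalgebra.counit (R := k) (A := A) ∘ₗ π).rTensor A) (Coalgebra.comul (R := k) a)) =
      (Coalgebra.counit (R := k) (A := A) ∘ₗ π) a • (1 : A) := by
    intro a
    have h1 : Coalgebra.comul (R := k) (π a) = (π.rTensor A) (Coalgebra.comul (R := k) a) :=
      LinearMap.congr_fun hπ a
    have h2 := congrArg (fun t => TensorProduct.lid k A
      ((Coalgebra.counit (R := k) (A := A)).rTensor A t)) h1
    rw [← LinearMap.rTensor_comp_apply] at h2
    rw [← hI0 a, ← h2]
    show TensorProduct.lid k A ((Coalgebra.counit (R := k) (A := A)).rTensor A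
      (Coalgebra.comul (R := k) (π a))) = π a
    rw [Coalgebra.rTensor_counit_comul, TensorProduct.lid_tmul, one_smul]
  obtain ⟨I0, hI0def⟩ : ∃ I0 : A →ₗ[k] k, I0 = Coalgebra.counit (R := k) (A := A) ∘ₗ π := ⟨_, rfl⟩
  rw [← hI0def] at hR
  have hI01 : I0 1 = 1 := by rw [hI0def, LinearMap.comp_apply, hπ1, Bialgebra.counit_one]
  refine ⟨I0 ∘ₗ HopfAlgebra.antipode k, ?_, ?_⟩
  · rw [LinearMap.comp_apply, HopfAlgebra.antipode_one, hI01]
  · intro a
    have key : ∀ t : A ⊗[k] A, TensorProduct.lid k A ((I0.rTensor A)
        (TensorProduct.map (HopfAlgebra.antipode k (A := A)) (HopfAlgebra.antipode k (A := A))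
          (TensorProduct.comm k A A t))) =
        HopfAlgebra.antipode k (slice (I0 ∘ₗ HopfAlgebra.antipode k) t) := by
      intro t
      induction t using TensorProduct.induction_on with
      | zero => simp
      | tmul x y => simp
      | add x y hx hy => simp only [map_add, hx, hy]
    have h3 := hR (HopfAlgebra.antipode k a)
    rw [Groth.Agent.Lib.Helper66.comul_antipode, key] at h3
    have h4 := congrArg (HopfAlgebra.antipode k (A := A)) h3
    rw [antipode_antipode, map_smul, HopfAlgebra.antipode_one] at h4
    exact h4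

end Integral

section Homotopy

variable {k : Type u} [Field k] {A : Type v} [CommRing A] [Bialgebra k A]

theorem slice_tail (I : A →ₗ[k] k) (hI1 : I 1 = 1)
    (hI : ∀ a : A, slice I (Coalgebra.comul (R := k) a) = I a • (1 : A))
    (M : Type v) [AddCommGroup M] [Module k M] (x : M ⊗[k] A) :
    slice I (Hoch.tail k A M x) = -x := by
  have key : ∀ (m : M) (t : A ⊗[k] A), slice I ((TensorProduct.assoc k M A A).symm (m ⊗ₜ[k] t)) =
      m ⊗ₜ[k] slice I t := by
    intro m t
    induction t using TensorProduct.induction_on with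
    | zero => simp
    | tmul a b => simp [TensorProduct.tmul_smul]
    | add a b ha hb => simp only [TensorProduct.tmul_add, map_add, ha, hb]
  induction x using TensorProduct.induction_on with
  | zero => simp
  | tmul m a =>
    rw [Hoch.tail_tmul, key, map_sub, map_sub, hI, slice_tmul, slice_tmul, hI1, one_smul]
    rw [TensorProduct.tmul_sub, TensorProduct.tmul_sub]
    abel
  | add x y hx hy => simp only [map_add, hx, hy, neg_add]

variable (V : Type v) [AddCommGroup V] [Module k V] [HopfRep.Comod k A V]

/-- With a normalised integral, every cocycle of positive degree is a coboundary. -/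
theorem cocycles_le_coboundaries_of_integral (I : A →ₗ[k] k) (hI1 : I 1 = 1)
    (hI : ∀ a : A, slice I (Coalgebra.comul (R := k) a) = I a • (1 : A)) (n : ℕ) :
    Hoch.cocycles k A V (n + 1) ≤ Hoch.coboundaries k A V (n + 1) := by
  intro x hx
  have hx0 : Hoch.d k A V (n + 1) x = 0 := hx
  rw [Hoch.d_succ] at hx0
  have h1 := congrArg (slice I) hx0
  rw [LinearMap.add_apply, LinearMap.smul_apply, map_add, map_smul, map_zero, slice_rTensor,
    slice_tail I hI1 hI] at h1
  show x ∈ LinearMap.range (Hoch.d k A V n)
  refine ⟨((-1 : k) ^ (n + 1)) • slice I x, ?_⟩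
  rw [map_smul]
  have h2 : Hoch.d k A V n (slice I x) = ((-1 : k) ^ (n + 1)) • x := by
    rw [smul_neg] at h1
    exact (add_neg_eq_zero.mp h1)
  rw [h2, smul_smul, ← pow_add, ← two_mul, pow_mul]
  simp
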