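import Mathlib
import Groth.Prelude.Def_HopfRep
import Groth.Prelude.Def_Hoch
import Groth.Agent.H40.Comod
import Groth.Agent.H40.Integral
import Groth.Agent.H40.HochH1
import Groth.Agent.S7972

/-! Helper lemmas (helper40): base change of linear reductivity along a field extension (via the
integral), minimal subcomodules of cocommutative coalgebras over algebraically closed fields are lines,
and linearly reductive cocommutative Hopf algebras over algebraically closed fields are spanned by their
group-like elements. -/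

set_option autoImplicit false
universe u v w

open TensorProduct

namespace Groth.Agent.H40

section BaseChange

variable {k : Type u} [Field k] {A : Type v} [CommRing A] [Bialgebra k A]
variable (K : Type w) [Field K] [Algebra k K]

/-- The base change of a linear form `I : A → k` to `K ⊗ A → K`. -/
noncomputable def intK (I : A →ₗ[k] k) : K ⊗[k] A →ₗ[K] K :=
  (TensorProduct.AlgebraTensorModule.rid k K K).toLinearMap ∘ₗ (I.baseChange K)

@[simp] theorem intK_tmul (I : A →ₗ[k] k) (c : K) (a : A) : intK K I (c ⊗ₜ[k] a) = I a • c := by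
  simp [intK]

theorem intK_one (I : A →ₗ[k] k) (hI1 : I 1 = 1) : intK K I (1 : K ⊗[k] A) = 1 := by
  rw [Algebra.TensorProduct.one_def, intK_tmul, hI1, one_smul]

theorem intK_slice (I : A →ₗ[k] k)
    (hI : ∀ a : A, slice I (Coalgebra.comul (R := k) a) = I a • (1 : A)) (x : K ⊗[k] A) :
    slice (k := K) (intK K I) (Coalgebra.comul (R := K) x) = intK K I x • (1 : K ⊗[k] A) := by
  induction x using TensorProduct.induction_on with
  | zero => simp
  | tmul c a =>
    have key : ∀ t : A ⊗[k] A, slice (k := K) (intK K I)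
        (TensorProduct.AlgebraTensorModule.tensorTensorTensorComm k K k K K K A A
          (((1 : K) ⊗ₜ[K] c) ⊗ₜ[k] t)) = c • ((1 : K) ⊗ₜ[k] slice I t) := by
      intro t
      induction t using TensorProduct.induction_on with
      | zero => simp
      | tmul a1 a2 =>
        rw [TensorProduct.AlgebraTensorModule.tensorTensorTensorComm_tmul, slice_tmul, intK_tmul,
          slice_tmul, TensorProduct.smul_tmul', TensorProduct.smul_tmul', TensorProduct.tmul_smul,
          TensorProduct.smul_tmul', smul_eq_mul, mul_one, smul_eq_mul, mul_one]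
      | add x y hx hy => simp only [TensorProduct.tmul_add, map_add, hx, hy, smul_add]
    rw [TensorProduct.comul_tmul, CommSemiring.comul_apply, key, hI, intK_tmul,
      Algebra.TensorProduct.one_def, TensorProduct.tmul_smul, TensorProduct.smul_tmul',
      TensorProduct.smul_tmul', TensorProduct.smul_tmul']
    congr 1
    rw [smul_comm, smul_eq_mul, mul_one, smul_eq_mul, mul_one]
  | add x y hx hy => simp only [map_add, hx, hy, add_smul]

end BaseChange

section BaseChangeLR

variable {k : Type u} [Field k] {A : Type u} [CommRing A] [HopfAlgebra k A]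
variable (K : Type u) [Field K] [Algebra k K]

/-- Linear reductivity is preserved by base field extension. -/
theorem isLinearlyReductive_baseChange (hG : HopfRep.IsLinearlyReductive k A) :
    HopfRep.IsLinearlyReductive K (K ⊗[k] A) := by
  obtain ⟨I, hI1, hI⟩ := exists_integral hG
  apply linearlyReductive_of_H1
  intro V _ _ _ _
  exact cocycles_le_coboundaries_of_integral V (intK K I) (intK_one K I hI1) (intK_slice K I hI) 0

end BaseChangeLR

section Cocomm

open Groth.Agent.S7972

variable {k : Type u} [Field k] {C : Type v} [AddCommGroup C] [Module k C] [Coalgebra k C]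
  {V : Type w} [AddCommGroup V] [Module k V] [HopfRep.Comod k C V]

theorem coactSlice_apply (φ : C →ₗ[k] k) (v : V) :
    coactSlice (C := C) φ v = slice φ (HopfRep.Comod.coact (k := k) (A := C) v) := rfl

theorem convFun_comm [Coalgebra.IsCocomm k C] (ψ φ : C →ₗ[k] k) : convFun ψ φ = convFun φ ψ := by
  apply LinearMap.ext
  intro c
  have h := Coalgebra.IsCocomm.comm_comp_comul (R := k) (A := C)
  have h' : TensorProduct.comm k C C (Coalgebra.comul (R := k) c) = Coalgebra.comul (R := k) c :=
    LinearMap.congr_fun h c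
  unfold convFun
  simp only [LinearMap.comp_apply]
  conv_lhs => rw [← h']
  generalize Coalgebra.comul (R := k) c = t
  induction t using TensorProduct.induction_on with
  | zero => simp
  | tmul a b => simp [mul_comm]
  | add x y hx hy => simp only [map_add, hx, hy]

theorem coactSlice_comm [Coalgebra.IsCocomm k C] (ψ φ : C →ₗ[k] k) (v : V) :
    coactSlice (C := C) ψ (coactSlice (C := C) φ v) = coactSlice (C := C) φ (coactSlice (C := C) ψ v) := by
  rw [coactSlice_apply ψ, slice_coact_coactSlice, coactSlice_apply φ (coactSlice (C := C) ψ v),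
    slice_coact_coactSlice, convFun_comm]

/-- A nonzero finite-dimensional subcomodule contains a minimal nonzero subcomodule. -/
theorem exists_minimal_subcomod (W0 : Submodule k V) [Module.Finite k W0] (h0 : W0 ≠ ⊥)
    (hW0 : HopfRep.IsSubcomod (k := k) (A := C) W0) :
    ∃ S : Submodule k V, S ≤ W0 ∧ S ≠ ⊥ ∧ HopfRep.IsSubcomod (k := k) (A := C) S ∧
      ∀ S' : Submodule k V, HopfRep.IsSubcomod (k := k) (A := C) S' → S' ≤ S → S' = ⊥ ∨ S' = S := by
  classical
  let P : ℕ → Prop := fun n => ∃ S : Submodule k V, S ≤ W0 ∧ S ≠ ⊥ ∧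
    HopfRep.IsSubcomod (k := k) (A := C) S ∧ Module.finrank k S = n
  have hP : ∃ n, P n := ⟨_, W0, le_rfl, h0, hW0, rfl⟩
  obtain ⟨S, hSW, hS0, hS, hSn⟩ := Nat.find_spec hP
  refine ⟨S, hSW, hS0, hS, fun S' hS' hle => ?_⟩
  by_cases h : S' = ⊥
  · exact Or.inl h
  · right
    have : FiniteDimensional k S := Submodule.finiteDimensional_of_le hSW
    have h1 : Nat.find hP ≤ Module.finrank k S' :=
      Nat.find_min' hP ⟨S', hle.trans hSW, h, hS', rfl⟩
    have h2 : Module.finrank k S' ≤ Module.finrank k S := Submodule.finrank_mono hle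
    exact Submodule.eq_of_le_of_finrank_eq hle (le_antisymm h2 (hSn ▸ h1))

/-- Over an algebraically closed field, a minimal nonzero finite-dimensional subcomodule of a comodule
over a cocommutative coalgebra is a line. -/
theorem exists_eq_span_singleton_of_minimal [IsAlgClosed k] [Coalgebra.IsCocomm k C]
    (S : Submodule k V) [Module.Finite k S] (hS0 : S ≠ ⊥)
    (hS : HopfRep.IsSubcomod (k := k) (A := C) S)
    (hmin : ∀ S' : Submodule k V, HopfRep.IsSubcomod (k := k) (A := C) S' → S' ≤ S → S' = ⊥ ∨ S' = S) :
    ∃ v : V, v ≠ 0 ∧ S = Submodule.span k {v} := by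
  have hstab : ∀ φ : C →ₗ[k] k, S ≤ S.comap (coactSlice (C := C) (V := V) φ) :=
    (isSubcomod_iff_slice S).mp hS
  have hscalar : ∀ φ : C →ₗ[k] k, ∃ c : k, ∀ s ∈ S, coactSlice (C := C) φ s = c • s := by
    intro φ
    have : Nontrivial S := (Submodule.nontrivial_iff_ne_bot).mpr hS0
    obtain ⟨c, hc⟩ := Module.End.exists_eigenvalue ((coactSlice (C := C) (V := V) φ).restrict (hstab φ))
    obtain ⟨s0, hs0⟩ := hc.exists_hasEigenvector
    have hs0' : coactSlice (C := C) φ (s0 : V) = c • (s0 : V) := by
      have := hs0.apply_eq_smul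
      exact congrArg Subtype.val this
    have hE : HopfRep.IsSubcomod (k := k) (A := C)
        (S ⊓ LinearMap.ker (coactSlice (C := C) (V := V) φ - c • LinearMap.id)) := by
      rw [isSubcomod_iff_slice]
      intro ψ e he
      rw [Submodule.mem_inf] at he
      rw [Submodule.mem_comap, Submodule.mem_inf]
      refine ⟨hstab ψ he.1, ?_⟩
      have h2 := he.2
      rw [LinearMap.mem_ker, LinearMap.sub_apply, LinearMap.smul_apply, LinearMap.id_apply,
        sub_eq_zero] at h2
      rw [LinearMap.mem_ker, LinearMap.sub_apply, LinearMap.smul_apply, LinearMap.id_apply,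
        coactSlice_comm, h2, map_smul, sub_self]
    have hEne : (S ⊓ LinearMap.ker (coactSlice (C := C) (V := V) φ - c • LinearMap.id)) ≠ ⊥ := by
      intro h
      have hmem : (s0 : V) ∈ S ⊓ LinearMap.ker (coactSlice (C := C) (V := V) φ - c • LinearMap.id) := by
        rw [Submodule.mem_inf]
        refine ⟨s0.2, ?_⟩
        rw [LinearMap.mem_ker, LinearMap.sub_apply, LinearMap.smul_apply, LinearMap.id_apply, hs0',
          sub_self]
      rw [h, Submodule.mem_bot] at hmem
      exact hs0.2 (Subtype.ext hmem)
    rcases hmin _ hE inf_le_left with h | h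
    · exact (hEne h).elim
    · refine ⟨c, fun s hs => ?_⟩
      have hs' : s ∈ S ⊓ LinearMap.ker (coactSlice (C := C) (V := V) φ - c • LinearMap.id) := by
        rw [h]; exact hs
      rw [Submodule.mem_inf] at hs'
      have h2 := hs'.2
      rw [LinearMap.mem_ker, LinearMap.sub_apply, LinearMap.smul_apply, LinearMap.id_apply,
        sub_eq_zero] at h2
      exact h2
  obtain ⟨v, hvS, hv0⟩ := Submodule.exists_mem_ne_zero_of_ne_bot hS0
  refine ⟨v, hv0, ?_⟩
  have hline : HopfRep.IsSubcomod (k := k) (A := C) (Submodule.span k {v}) := by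
    rw [isSubcomod_iff_slice]
    intro ψ w hw
    obtain ⟨a, rfl⟩ := Submodule.mem_span_singleton.mp hw
    obtain ⟨c, hc⟩ := hscalar ψ
    rw [Submodule.mem_comap, map_smul, hc v hvS]
    exact Submodule.smul_mem _ _ (Submodule.smul_mem _ _ (Submodule.mem_span_singleton_self v))
  rcases hmin _ hline ((Submodule.span_singleton_le_iff_mem v S).mpr hvS) with h | h
  · have : v ∈ (⊥ : Submodule k V) := h ▸ Submodule.mem_span_singleton_self v
    exact (hv0 ((Submodule.mem_bot k).mp this)).elim
  · exact h.symm

end Cocomm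

section GroupLike

open Groth.Agent.S7972

variable {k : Type u} [Field k] {C : Type v} [AddCommGroup C] [Module k C] [Coalgebra k C]

/-- A line in a coalgebra which is a subcomodule of the regular comodule is spanned by a group-like
element. -/
theorem mem_span_groupLike_of_line (v : C) (hv : v ≠ 0)
    (hline : HopfRep.IsSubcomod (k := k) (A := C) (V := C) (Submodule.span k {v})) :
    v ∈ Submodule.span k {a : C | IsGroupLikeElem k a} := by
  have hform : ∀ t : (Submodule.span k {v}) ⊗[k] C, ∃ χ : C,
      (Submodule.span k {v}).subtype.rTensor C t = v ⊗ₜ[k] χ := by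
    intro t
    induction t using TensorProduct.induction_on with
    | zero => exact ⟨0, by simp⟩
    | tmul w c =>
      obtain ⟨a, ha⟩ := Submodule.mem_span_singleton.mp w.2
      refine ⟨a • c, ?_⟩
      rw [LinearMap.rTensor_tmul, Submodule.subtype_apply, ← ha, TensorProduct.smul_tmul]
    | add x y hx hy =>
      obtain ⟨χ1, h1⟩ := hx
      obtain ⟨χ2, h2⟩ := hy
      exact ⟨χ1 + χ2, by rw [map_add, h1, h2, TensorProduct.tmul_add]⟩
  obtain ⟨t, ht⟩ := hline v (Submodule.mem_span_singleton_self v)
  obtain ⟨χ, hχ⟩ := hform t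
  have hΔ : Coalgebra.comul (R := k) v = v ⊗ₜ[k] χ := by rw [← hχ]; exact ht.symm
  -- a functional with `f v = 1`
  obtain ⟨f, hf⟩ : ∃ f : C →ₗ[k] k, f v = 1 := by
    have : ¬ ∀ φ : Module.Dual k C, φ v = 0 := fun h => hv ((Module.forall_dual_apply_eq_zero_iff k v).mp h)
    push Not at this
    obtain ⟨φ, hφ⟩ := this
    exact ⟨(φ v)⁻¹ • φ, by simp [hφ]⟩
  have hεχ : Coalgebra.counit (R := k) χ = 1 := by
    have h1 := Coalgebra.lTensor_counit_comul (R := k) v
    rw [hΔ, LinearMap.lTensor_tmul] at h1
    have h2 := congrArg (TensorProduct.rid k C) h1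
    rw [TensorProduct.rid_tmul, TensorProduct.rid_tmul, one_smul] at h2
    have h3 : (Coalgebra.counit (R := k) χ - 1) • v = 0 := by rw [sub_smul, h2, one_smul, sub_self]
    rcases smul_eq_zero.mp h3 with h | h
    · exact sub_eq_zero.mp h
    · exact (hv h).elim
  have hΔχ : Coalgebra.comul (R := k) χ = χ ⊗ₜ[k] χ := by
    have h1 := Coalgebra.coassoc_apply (R := k) v
    rw [hΔ, LinearMap.rTensor_tmul, hΔ, TensorProduct.assoc_tmul, LinearMap.lTensor_tmul] at h1
    have h2 := congrArg (fun z => TensorProduct.lid k (C ⊗[k] C) ((f.rTensor (C ⊗[k] C)) z)) h1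
    simp only [LinearMap.rTensor_tmul, TensorProduct.lid_tmul, hf, one_smul] at h2
    exact h2.symm
  have hvχ : v = Coalgebra.counit (R := k) v • χ := by
    have h1 := Coalgebra.rTensor_counit_comul (R := k) v
    rw [hΔ, LinearMap.rTensor_tmul] at h1
    have h2 := congrArg (TensorProduct.lid k C) h1
    rw [TensorProduct.lid_tmul, TensorProduct.lid_tmul, one_smul] at h2
    exact h2.symm
  rw [hvχ]
  exact Submodule.smul_mem _ _ (Submodule.subset_span ⟨hεχ, hΔχ⟩)

theorem isSubcomod_span_groupLike :
    HopfRep.IsSubcomod (k := k) (A := C) (V := C) (Submodule.span k {a : C | IsGroupLikeElem k a}) := by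
  intro w hw
  refine Submodule.span_induction (p := fun w _ => Coalgebra.comul (R := k) w ∈
    LinearMap.range ((Submodule.span k {a : C | IsGroupLikeElem k a}).subtype.rTensor C)) ?_ ?_ ?_ ?_ hw
  · intro χ hχ
    refine ⟨(⟨χ, Submodule.subset_span hχ⟩ : Submodule.span k {a : C | IsGroupLikeElem k a}) ⊗ₜ[k] χ, ?_⟩
    rw [LinearMap.rTensor_tmul, Submodule.subtype_apply, hχ.comul_eq_tmul_self]
  · rw [map_zero]; exact Submodule.zero_mem _
  · intro x y _ _ hx hy
    rw [map_add]; exact Submodule.add_mem _ hx hy
  · intro a x _ hx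
    rw [map_smul]; exact Submodule.smul_mem _ _ hx

end GroupLike

section Diagonalizable

open Groth.Agent.S7972

variable {k : Type u} [Field k] [IsAlgClosed k] {A : Type v} [CommRing A] [Bialgebra k A]
  [Coalgebra.IsCocomm k A]

/-- A cocommutative commutative bialgebra over an algebraically closed field all of whose
finite-dimensional comodules are semisimple is spanned by its group-like elements. -/
theorem isDiagonalizable_of_isLinearlyReductive (hG : HopfRep.IsLinearlyReductive k A) :
    HopfRep.IsDiagonalizable k A := by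
  unfold HopfRep.IsDiagonalizable
  obtain ⟨G', hG', hc⟩ := Groth.Agent.Lib.Helper59.LinRed.isSemisimpleComod (V := A) hG _
    (isSubcomod_span_groupLike (k := k) (C := A))
  by_contra hne
  have hG'ne : G' ≠ ⊥ := by
    intro h
    rw [h] at hc
    exact hne (by simpa using hc.sup_eq_top)
  obtain ⟨a, haG', ha0⟩ := Submodule.exists_mem_ne_zero_of_ne_bot hG'ne
  obtain ⟨W, hWfin, haW, hW⟩ := exists_finite_subcomod_mem (k := k) (C := A) (V := A) a
  have hW0 : HopfRep.IsSubcomod (k := k) (A := A) (W ⊓ G') := isSubcomod_inf W G' hW hG'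
  have : Module.Finite k ↥(W ⊓ G') := by
    have := hWfin
    exact Submodule.finiteDimensional_of_le inf_le_left
  have hW0ne : W ⊓ G' ≠ ⊥ := by
    intro h
    have : a ∈ W ⊓ G' := ⟨haW, haG'⟩
    rw [h] at this
    exact ha0 ((Submodule.mem_bot k).mp this)
  obtain ⟨S, hSle, hS0, hS, hmin⟩ := exists_minimal_subcomod (C := A) (W ⊓ G') hW0ne hW0
  have : Module.Finite k S := Submodule.finiteDimensional_of_le hSle
  obtain ⟨v, hv0, hSv⟩ := exists_eq_span_singleton_of_minimal (C := A) S hS0 hS hmin
  have hvG : v ∈ Submodule.span k {a : A | IsGroupLikeElem k a} :=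
    mem_span_groupLike_of_line v hv0 (hSv ▸ hS)
  have hvG' : v ∈ G' := (hSle (hSv ▸ Submodule.mem_span_singleton_self v)).2
  have : v ∈ (⊥ : Submodule k A) := by
    rw [← hc.inf_eq_bot]
    exact ⟨hvG, hvG'⟩
  exact hv0 ((Submodule.mem_bot k).mp this)

end Diagonalizable

end Groth.Agent.H40
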