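import Groth.Agent.H40.Conil4
import Groth.Agent.H40.MultSub
import Groth.Agent.Lib.Helper84.HopfFFInf
import Groth.Agent.Lib.Helper84.MultUnipHom

/-!
# The largest subgroup of multiplicative type of a commutative affine group over a field (helper40)
-/

set_option autoImplicit false
open TensorProduct Coalgebra
universe u

namespace Groth.Agent.H40.Conil

open Groth.Agent.H40 Groth.Agent.H40.Soc Groth.Agent.Lib.Helper86.HopfSub
open Groth.Agent.Lib.Helper84.HopfFFInf

section Final

variable (k : Type u) [Field k] (A : Type u) [CommRing A] [HopfAlgebra k A]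
  [Coalgebra.IsCocomm k A]

/-- the Hopf algebra structure on the conilpotent part. -/
@[reducible] noncomputable def hopfConil : HopfAlgebra k (conil k A) :=
  hopfAlgebraB isHopfSub_conil

attribute [local instance] hopfConil

/-- the inclusion of the conilpotent part, as a bialgebra map. -/
noncomputable def inclConil : conil k A →ₐc[k] A :=
  BialgHom.ofAlgHom (conil k A).val (AlgHom.ext fun _ => rfl)
    (AlgHom.ext fun b => map_comul isHopfSub_conil b)

lemma inclConil_apply (b : conil k A) : inclConil k A b = (b : A) := rfl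

lemma inclConil_injective : Function.Injective (inclConil k A) := Subtype.val_injective

theorem isUnipotent_conil : HopfRep.IsUnipotent k (conil k A) := by
  apply isUnipotent_of_conil
  intro c
  obtain ⟨n, hn⟩ := c.2
  exact ⟨n, mem_conilN_of_injective (inclConil k A) (inclConil_injective k A) hn⟩

/-- the ideal `B⁺ A`. -/
noncomputable def conilIdeal : Ideal A :=
  Ideal.map (inclConil k A : conil k A →+* A) (RingHom.ker (Bialgebra.counitAlgHom k (conil k A)))

lemma conilIdeal_eq_augMap : conilIdeal k A = augMap k A (conil k A) := rfl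

theorem isHopfIdeal_conilIdeal : (conilIdeal k A).IsHopfIdeal k :=
  isHopfIdeal_augMap (inclConil k A) (fun _ => rfl)

/-- modulo `B⁺ A` every conilpotent element is a scalar. -/
lemma mk_conil {b : A} (hb : ∃ n, b ∈ conilN k A n) :
    Ideal.Quotient.mk (conilIdeal k A) b =
      algebraMap k (A ⧸ conilIdeal k A) (counit (R := k) b) :=
  mk_f (inclConil k A) (fun _ => rfl) (⟨b, hb⟩ : conil k A)

section AlgClosed

variable (K : Type u) [Field K] [Algebra k K] [IsAlgClosed K]

theorem span_groupLike_quotient :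
    haveI := isHopfIdeal_conilIdeal k A
    Submodule.span K {a : K ⊗[k] (A ⧸ conilIdeal k A) | IsGroupLikeElem K a} = ⊤ := by
  haveI := isHopfIdeal_conilIdeal k A
  let π : A →ₐc[k] A ⧸ conilIdeal k A := Bialgebra.Quotient.mkBialgHom (R := k) (conilIdeal k A)
  let q : K ⊗[k] A →ₐc[K] K ⊗[k] (A ⧸ conilIdeal k A) :=
    Bialgebra.TensorProduct.map (BialgHom.id K K) π
  have hq : Function.Surjective q :=
    bialgMap_surjective _ _ Function.surjective_id Ideal.Quotient.mk_surjective
  rw [eq_top_iff]
  rintro y -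
  obtain ⟨x, rfl⟩ := hq y
  have hx := mem_span_groupLike_mul_conil (K := K) (H := K ⊗[k] A) x
  refine Submodule.span_induction (p := fun x _ => q x ∈ Submodule.span K
    {a : K ⊗[k] (A ⧸ conilIdeal k A) | IsGroupLikeElem K a}) ?_ ?_ ?_ ?_ hx
  · rintro _ ⟨g, b, hg, ⟨n, hb⟩, rfl⟩
    rw [map_mul]
    obtain ⟨s, hs⟩ := mem_range_lTensor_of_mem_conilN K hb
    have hc : ∃ c : K, q b = c • (1 : K ⊗[k] (A ⧸ conilIdeal k A)) := by
      rw [← hs]
      clear hs
      induction s using TensorProduct.induction_on with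
      | zero => exact ⟨0, by simp⟩
      | tmul e b' =>
        refine ⟨counit (R := k) (b' : A) • e, ?_⟩
        rw [LinearMap.lTensor_tmul, Submodule.subtype_apply]
        show (e ⊗ₜ[k] (Ideal.Quotient.mk (conilIdeal k A) (b' : A)) :
          K ⊗[k] (A ⧸ conilIdeal k A)) = _
        rw [mk_conil k A ⟨n, b'.2⟩, Algebra.algebraMap_eq_smul_one, TensorProduct.tmul_smul,
          Algebra.TensorProduct.one_def, TensorProduct.smul_tmul', TensorProduct.smul_tmul',
          smul_eq_mul, mul_one]
      | add s₁ s₂ h₁ h₂ =>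
        obtain ⟨c₁, h₁⟩ := h₁
        obtain ⟨c₂, h₂⟩ := h₂
        exact ⟨c₁ + c₂, by rw [map_add, map_add, h₁, h₂, add_smul]⟩
    obtain ⟨c, hc⟩ := hc
    rw [hc, mul_smul_comm, mul_one]
    exact Submodule.smul_mem _ _ (Submodule.subset_span (hg.map q))
  · simp
  · intro a b _ _ ha hb
    rw [map_add]; exact Submodule.add_mem _ ha hb
  · intro c a _ ha
    rw [map_smul]; exact Submodule.smul_mem _ _ ha

end AlgClosed

theorem isMultTypeConst_quotient :
    haveI := isHopfIdeal_conilIdeal k A
    SGA3b.IsMultTypeConst k (A ⧸ conilIdeal k A) := by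
  haveI := isHopfIdeal_conilIdeal k A
  refine ⟨AlgebraicClosure k, inferInstance, inferInstance, ?_, ?_⟩
  · have hfree : Module.Free k (AlgebraicClosure k) :=
      Module.Free.of_divisionRing k (AlgebraicClosure k)
    infer_instance
  · apply isDiag_of_span_groupLike
    exact span_groupLike_quotient k A (AlgebraicClosure k)

theorem conilIdeal_le (I : Ideal A) [I.IsHopfIdeal k] (h : SGA3b.IsMultTypeConst k (A ⧸ I)) :
    conilIdeal k A ≤ I := by
  obtain ⟨R', _, _, hff, M, _, ⟨e⟩⟩ := h
  have hnt : Nontrivial R' := (FaithfulSMul.algebraMap_injective k R').nontrivial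
  obtain ⟨m, hm⟩ := Ideal.exists_maximal R'
  let fK : Field (R' ⧸ m) := Ideal.Quotient.field m
  have hX : Submodule.span R' {a : R' ⊗[k] (A ⧸ I) | IsGroupLikeElem R' a} = ⊤ :=
    span_groupLike_of_surjective (e.symm : MonoidAlgebra R' M →ₐc[R'] _)
      (fun y => ⟨e y, e.symm_apply_apply y⟩) MonoidAlgebra.span_isGroupLikeElem
  have hM : Submodule.span (R' ⧸ m) {a : (R' ⧸ m) ⊗[k] (A ⧸ I) | IsGroupLikeElem (R' ⧸ m) a} = ⊤ :=
    span_groupLike_bcMap (Ideal.Quotient.mkₐ k m) (A ⧸ I) (Ideal.Quotient.mkₐ_surjective k m) hX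
  let ψ : conil k A →ₐc[k] A ⧸ I :=
    (Bialgebra.Quotient.mkBialgHom (R := k) I).comp (inclConil k A)
  have htriv := Groth.Agent.Lib.Helper84.MultUnipHom.trivial_of_unipotent_to_mult_field
    (K := R' ⧸ m) hM (isUnipotent_conil k A) ψ
  unfold conilIdeal
  rw [Ideal.map_le_iff_le_comap]
  intro b hb
  rw [RingHom.mem_ker] at hb
  rw [Ideal.mem_comap]
  have h1 := htriv b
  have h2 : ψ b = Ideal.Quotient.mk I (inclConil k A b) := rfl
  rw [h2] at h1
  have hb' : counit (R := k) b = 0 := hb
  rw [hb', map_zero] at h1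
  exact Ideal.Quotient.eq_zero_iff_mem.mp h1

end Final

theorem largest_multType (k : Type u) [Field k]
    (A : Type u) [CommRing A] [HopfAlgebra k A] [Coalgebra.IsCocomm k A] :
    ∃ (J : Ideal A) (_ : J.IsHopfIdeal k), SGA3b.IsMultTypeConst k (A ⧸ J) ∧
      (∀ (I : Ideal A) [I.IsHopfIdeal k], SGA3b.IsMultTypeConst k (A ⧸ I) → J ≤ I) ∧
      ∃ (B : Type u) (_ : CommRing B) (_ : HopfAlgebra k B) (φ : B →ₐc[k] A),
        Function.Injective φ ∧
        J = Ideal.map (φ : B →+* A) (RingHom.ker (Bialgebra.counitAlgHom k B)) ∧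
        HopfRep.IsUnipotent k B := by
  refine ⟨conilIdeal k A, isHopfIdeal_conilIdeal k A, isMultTypeConst_quotient k A, ?_, ?_⟩
  · intro I _ h
    exact conilIdeal_le k A I h
  · exact ⟨conil k A, inferInstance, hopfConil k A, inclConil k A, inclConil_injective k A, rfl,
      isUnipotent_conil k A⟩

end Groth.Agent.H40.Conil
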