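import Groth.Agent.H40.ComodQuot

/-! Helper lemmas (helper40): unipotent Hopf algebras and filtrations of comodules. -/

set_option autoImplicit false
universe u v w

open TensorProduct

namespace Groth.Agent.H40

section

variable {k : Type u} {A : Type v} [Field k] [CommRing A] [Bialgebra k A]

theorem isSubcomod_bot {V : Type w} [AddCommGroup V] [Module k V] [HopfRep.Comod k A V] :
    HopfRep.IsSubcomod (k := k) (A := A) (⊥ : Submodule k V) := by
  intro w hw
  rw [Submodule.mem_bot] at hw
  subst hw
  rw [map_zero]
  exact Submodule.zero_mem _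

theorem isSubcomod_fixedPts {V : Type w} [AddCommGroup V] [Module k V] [HopfRep.Comod k A V] :
    HopfRep.IsSubcomod (k := k) (A := A) (HopfRep.fixedPts k A V) := by
  intro w hw
  have hw' : HopfRep.Comod.coact (k := k) (A := A) w = w ⊗ₜ[k] (1 : A) := hw
  exact ⟨(⟨w, hw⟩ : HopfRep.fixedPts k A V) ⊗ₜ[k] (1 : A), by simp [hw']⟩

/-- The property of having a "unipotent" filtration. -/
def HasUnipFiltration (k : Type u) (A : Type v) [Field k] [CommRing A] [Bialgebra k A]
    (V : Type w) [AddCommGroup V] [Module k V] [HopfRep.Comod k A V] : Prop :=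
  ∃ (m : ℕ) (F : ℕ → Submodule k V), Monotone F ∧ F 0 = ⊥ ∧ F m = ⊤ ∧
    (∀ i, HopfRep.IsSubcomod (k := k) (A := A) (F i)) ∧
    ∀ i, ∀ v ∈ F (i + 1),
      HopfRep.Comod.coact (k := k) (A := A) v - v ⊗ₜ[k] (1 : A) ∈
        LinearMap.range ((F i).subtype.rTensor A)

theorem hasUnipFiltration_of_isUnipotent (hU : HopfRep.IsUnipotent k A) :
    ∀ (n : ℕ) (V : Type v) [AddCommGroup V] [Module k V] [HopfRep.Comod k A V],
      Module.Finite k V → Module.finrank k V = n → HasUnipFiltration k A V := by
  intro n
  induction n using Nat.strong_induction_on with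
  | _ n IH =>
    intro V _ _ _ hfin hn
    by_cases hnt : Nontrivial V
    · -- nontrivial case
      have hW0 : HopfRep.fixedPts k A V ≠ ⊥ := hU V hfin hnt
      set W := HopfRep.fixedPts k A V with hWdef
      have hWsub : HopfRep.IsSubcomod (k := k) (A := A) W := isSubcomod_fixedPts
      letI instQ : HopfRep.Comod k A (V ⧸ W) := quotComod W hWsub
      have hlt : Module.finrank k (V ⧸ W) < n := by
        have h1 := Submodule.finrank_quotient_add_finrank W
        have h2 : 0 < Module.finrank k W := by
          rw [Module.finrank_pos_iff]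
          exact (Submodule.nontrivial_iff_ne_bot).2 hW0
        omega
      obtain ⟨m', F', hmono', h0', htop', hsub', hgr'⟩ :=
        IH (Module.finrank k (V ⧸ W)) hlt (V ⧸ W) inferInstance rfl
      have hcoactQ : ∀ v : V, HopfRep.Comod.coact (k := k) (A := A) (W.mkQ v) =
          W.mkQ.rTensor A (HopfRep.Comod.coact (k := k) (A := A) v) :=
        fun v => quotComod_coact_mk W hWsub v
      let F : ℕ → Submodule k V := fun i => Nat.casesOn i ⊥ (fun j => (F' j).comap W.mkQ)
      have hF0 : F 0 = ⊥ := rfl
      have hFs : ∀ j, F (j + 1) = (F' j).comap W.mkQ := fun j => rfl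
      refine ⟨m' + 1, F, ?_, hF0, ?_, ?_, ?_⟩
      · apply monotone_nat_of_le_succ
        intro i
        cases i with
        | zero => rw [hF0]; exact bot_le
        | succ j =>
          rw [hFs, hFs]
          exact Submodule.comap_mono (hmono' (Nat.le_succ j))
      · rw [hFs, htop', Submodule.comap_top]
      · intro i
        cases i with
        | zero => rw [hF0]; exact isSubcomod_bot
        | succ j =>
          rw [hFs]
          intro v hv
          apply mem_range_rTensor_subtype_of_forall_slice
          intro ψ
          rw [Submodule.mem_comap, ← slice_rTensor, ← hcoactQ]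
          exact slice_mem_of_mem_range _ _ (hsub' j _ hv) ψ
      · intro i v hv
        cases i with
        | zero =>
          rw [hFs, h0'] at hv
          have hvW : v ∈ W := by
            rw [Submodule.mem_comap, Submodule.mem_bot, Submodule.mkQ_apply,
              Submodule.Quotient.mk_eq_zero] at hv
            exact hv
          have hv' : HopfRep.Comod.coact (k := k) (A := A) v = v ⊗ₜ[k] (1 : A) := hvW
          rw [hv', sub_self]
          exact Submodule.zero_mem _
        | succ j =>
          rw [hFs] at hv ⊢
          apply mem_range_rTensor_subtype_of_forall_slice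
          intro ψ
          rw [Submodule.mem_comap, ← slice_rTensor, map_sub, ← hcoactQ, LinearMap.rTensor_tmul]
          exact slice_mem_of_mem_range _ _ (hgr' j _ hv) ψ
    · -- trivial case
      rw [not_nontrivial_iff_subsingleton] at hnt
      refine ⟨0, fun _ => ⊥, monotone_const, rfl, Subsingleton.elim _ _, fun _ => isSubcomod_bot, ?_⟩
      intro i v hv
      rw [Submodule.mem_bot] at hv
      subst hv
      simp

end

end Groth.Agent.H40
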