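import Groth.Agent.H40.Conil6
import Groth.Prelude.Def_Lie2

/-!
# The `p`-Lie algebra of a unipotent group is unipotent (helper40)
-/

set_option autoImplicit false
open TensorProduct Coalgebra
universe u

namespace Groth.Agent.H40.Conil

open Groth.Agent.H40 Groth.Agent.H40.Soc

section Deriv

variable {k : Type u} [Field k] {A : Type u} [CommRing A] [HopfAlgebra k A]

lemma apply_slice' (φ ψ : A →ₗ[k] k) (t : A ⊗[k] A) :
    φ (slice ψ t) = LinearMap.mul' k k (TensorProduct.map φ ψ t) := by
  induction t using TensorProduct.induction_on with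
  | zero => simp
  | tmul x y => simp [mul_comm]
  | add x y hx hy => simp only [map_add, hx, hy]

lemma conv_apply (φ ψ : A →ₗ[k] k) (c : A) : LieHopf.conv φ ψ c = φ (T ψ c) := by
  rw [T_apply, apply_slice']
  rfl

/-- an `ε`-derivation as a linear form. -/
noncomputable abbrev dlin (D : LieHopf.Lie k A) : A →ₗ[k] k :=
  D.toLinearMap.restrictScalars k ∘ₗ LinearMap.id

lemma dlin_apply (D : LieHopf.Lie k A) (a : A) : dlin D a = D a := rfl

lemma dlin_one (D : LieHopf.Lie k A) : dlin D 1 = 0 := D.map_one_eq_zero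

lemma dlin_mul (D : LieHopf.Lie k A) (a b : A) :
    dlin D (a * b) = counit (R := k) a * dlin D b + counit (R := k) b * dlin D a := by
  rw [dlin_apply, D.leibniz]
  rfl

lemma slice_mul_of_deriv (φ : A →ₗ[k] k)
    (hφ : ∀ a b : A, φ (a * b) = counit (R := k) a * φ b + counit (R := k) b * φ a)
    (s t : A ⊗[k] A) :
    slice φ (s * t) = slice (counit (R := k) (A := A)) s * slice φ t +
      slice φ s * slice (counit (R := k) (A := A)) t := by
  induction s using TensorProduct.induction_on with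
  | zero => simp
  | tmul x c =>
    induction t using TensorProduct.induction_on with
    | zero => simp
    | tmul y d =>
      rw [Algebra.TensorProduct.tmul_mul_tmul, slice_tmul, slice_tmul, slice_tmul, slice_tmul,
        slice_tmul, hφ, add_smul, smul_mul_smul_comm, smul_mul_smul_comm, mul_comm (φ c)]
    | add t₁ t₂ h₁ h₂ => rw [mul_add, map_add, h₁, h₂, map_add, map_add]; ring
  | add s₁ s₂ h₁ h₂ => rw [add_mul, map_add, h₁, h₂, map_add, map_add]; ring

/-- `T_D` is a derivation of `A`. -/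
lemma T_dlin_mul (D : LieHopf.Lie k A) (a b : A) :
    T (dlin D) (a * b) = a * T (dlin D) b + T (dlin D) a * b := by
  rw [T_apply, Bialgebra.comul_mul, slice_mul_of_deriv _ (dlin_mul D), ← T_apply, ← T_apply,
    ← T_apply, ← T_apply, T_counit, T_counit]

lemma T_dlin_one (D : LieHopf.Lie k A) : T (dlin D) (1 : A) = 0 := by
  rw [T_one, dlin_one, zero_smul]

lemma convPow_eq (D : LieHopf.Lie k A) (m : ℕ) :
    LieHopf.convPow (dlin D) m = (counit (R := k) (A := A)) ∘ₗ (T (dlin D)) ^ m := by
  induction m with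
  | zero => rfl
  | succ m ih =>
    apply LinearMap.ext
    intro c
    show LieHopf.conv (LieHopf.convPow (dlin D) m) (dlin D) c = _
    rw [conv_apply, ih, pow_succ]
    rfl

lemma pow_T_eq_zero_of_mem_conilN (φ : A →ₗ[k] k) (hφ : φ 1 = 0) {m : ℕ} {c : A}
    (hc : c ∈ conilN k A m) : ((T φ) ^ m) c = 0 := by
  induction m generalizing c with
  | zero =>
    rw [conilN_zero, Submodule.mem_bot] at hc
    rw [hc, map_zero]
  | succ m ih =>
    rw [pow_succ, Module.End.mul_apply]
    exact ih (mem_conilN_succ.mp hc φ hφ)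

/-- iterated Leibniz rule for a derivation-like endomorphism. -/
lemma pow_mul_of_deriv (δ : Module.End k A) (hδ : ∀ a b : A, δ (a * b) = a * δ b + δ a * b)
    (m : ℕ) (a b : A) :
    (δ ^ m) (a * b) = ∑ i ∈ Finset.range (m + 1), (m.choose i) • ((δ ^ i) a * (δ ^ (m - i)) b) := by
  have hcomm : Commute (LinearMap.rTensor A δ) (LinearMap.lTensor A δ) := by
    show LinearMap.rTensor A δ ∘ₗ LinearMap.lTensor A δ = LinearMap.lTensor A δ ∘ₗ LinearMap.rTensor A δ
    rw [LinearMap.rTensor_comp_lTensor, LinearMap.lTensor_comp_rTensor]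
  have h0 : δ ∘ₗ LinearMap.mul' k A =
      LinearMap.mul' k A ∘ₗ (LinearMap.rTensor A δ + LinearMap.lTensor A δ) := by
    apply TensorProduct.ext'
    intro x y
    simp [hδ, add_comm]
  have h1 : ∀ n : ℕ, (δ ^ n) ∘ₗ LinearMap.mul' k A =
      LinearMap.mul' k A ∘ₗ ((LinearMap.rTensor A δ + LinearMap.lTensor A δ) ^ n) := by
    intro n
    induction n with
    | zero => rfl
    | succ n ih =>
      rw [pow_succ, pow_succ]
      show ((δ ^ n) ∘ₗ δ) ∘ₗ LinearMap.mul' k A = LinearMap.mul' k A ∘ₗ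
        (((LinearMap.rTensor A δ + LinearMap.lTensor A δ) ^ n) ∘ₗ
          (LinearMap.rTensor A δ + LinearMap.lTensor A δ))
      rw [LinearMap.comp_assoc, h0, ← LinearMap.comp_assoc, ih, LinearMap.comp_assoc]
  have h2 := LinearMap.congr_fun (h1 m) (a ⊗ₜ[k] b)
  rw [LinearMap.comp_apply, LinearMap.mul'_apply, LinearMap.comp_apply, hcomm.add_pow m,
    LinearMap.sum_apply, map_sum] at h2
  rw [h2]
  apply Finset.sum_congr rfl
  intro i _
  rw [Module.End.mul_apply, Module.End.mul_apply, Module.End.natCast_apply,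
    LinearMap.rTensor_pow, LinearMap.lTensor_pow, map_nsmul, map_nsmul, map_nsmul,
    LinearMap.lTensor_tmul, LinearMap.rTensor_tmul, LinearMap.mul'_apply]

end Deriv

section CharP

variable {k : Type u} [Field k] (p : ℕ) [Fact p.Prime] [CharP k p] {A : Type u} [CommRing A]
  [HopfAlgebra k A]

lemma convPow_pow_mul (D : LieHopf.Lie k A) (n : ℕ) (a b : A) :
    LieHopf.convPow (dlin D) (p ^ n) (a * b) =
      counit (R := k) a * LieHopf.convPow (dlin D) (p ^ n) b +
        LieHopf.convPow (dlin D) (p ^ n) a * counit (R := k) b := by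
  have hp : p.Prime := Fact.out
  rw [convPow_eq, LinearMap.comp_apply, LinearMap.comp_apply, LinearMap.comp_apply,
    pow_mul_of_deriv _ (T_dlin_mul D), map_sum]
  rw [Finset.sum_eq_add 0 (p ^ n) (pow_pos hp.pos n).ne]
  · simp only [Nat.choose_zero_right, pow_zero, Nat.sub_zero, one_smul, Module.End.one_apply,
      Nat.choose_self, Nat.sub_self]
    rw [Bialgebra.counit_mul, Bialgebra.counit_mul]
  · intro i _ hi
    rw [map_nsmul]
    have h0 : ((p ^ n).choose i : k) = 0 :=
      (CharP.cast_eq_zero_iff k p _).mpr (hp.dvd_choose_pow hi.1 hi.2)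
    rw [← Nat.cast_smul_eq_nsmul k, h0, zero_smul]
  · intro h
    exact absurd (Finset.mem_range.mpr (Nat.succ_pos _)) h
  · intro h
    exact absurd (Finset.mem_range.mpr (Nat.lt_succ_self _)) h

lemma convPow_pow_one (D : LieHopf.Lie k A) (n : ℕ) :
    LieHopf.convPow (dlin D) (p ^ n) (1 : A) = 0 := by
  have hp : p.Prime := Fact.out
  rw [convPow_eq, LinearMap.comp_apply]
  have : ((T (dlin D)) ^ (p ^ n)) (1 : A) = 0 := by
    obtain ⟨m, hm⟩ := Nat.exists_eq_succ_of_ne_zero (pow_pos hp.pos n).ne'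
    rw [hm, pow_succ, Module.End.mul_apply, T_dlin_one, map_zero]
  rw [this, map_zero]

theorem exists_convPow_eq_zero [Algebra.FiniteType k A] (hU : HopfRep.IsUnipotent k A)
    (D : LieHopf.Lie k A) :
    ∃ n : ℕ, 0 < n ∧ LieHopf.convPow (dlin D) (p ^ n) = 0 := by
  classical
  have hp : p.Prime := Fact.out
  obtain ⟨s, hs⟩ := (Algebra.FiniteType.out : (⊤ : Subalgebra k A).FG)
  choose N hN using exists_mem_conilN_of_isUnipotent hU
  let M := s.sup N
  refine ⟨M + 1, Nat.succ_pos _, ?_⟩
  have hle : ∀ a ∈ s, N a ≤ p ^ (M + 1) := by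
    intro a ha
    calc N a ≤ M := Finset.le_sup ha
      _ ≤ M + 1 := Nat.le_succ _
      _ ≤ p ^ (M + 1) := (Nat.lt_pow_self hp.one_lt).le
  apply LinearMap.ext
  intro c
  have hc : c ∈ Algebra.adjoin k (s : Set A) := by rw [hs]; trivial
  rw [LinearMap.zero_apply]
  refine Algebra.adjoin_induction (p := fun x _ => LieHopf.convPow (dlin D) (p ^ (M + 1)) x = 0)
    ?_ ?_ ?_ ?_ hc
  · intro a ha
    rw [convPow_eq, LinearMap.comp_apply,
      pow_T_eq_zero_of_mem_conilN _ (dlin_one D) (conilN_mono (hle a ha) (hN a)), map_zero]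
  · intro r
    rw [Algebra.algebraMap_eq_smul_one, map_smul, convPow_pow_one, smul_zero]
  · intro x y _ _ hx hy
    rw [map_add, hx, hy, add_zero]
  · intro x y _ _ hx hy
    rw [convPow_pow_mul, hx, hy, mul_zero, zero_mul, add_zero]

end CharP

end Groth.Agent.H40.Conil
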