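import Mathlib
import Groth.Agent.Lib.Helper84.Coinv

/-! # The identity component of a finite flat group scheme over a local ring (helper40)

`R` a ring, `A` a commutative Hopf algebra, integral over `R`, `e ∈ A` an idempotent with `ε e = 1`
such that `A ⧸ (1 - e)` is a local ring.  Then `(1 - e)` is a normal Hopf ideal, and `e` is
right-invariant under it.  The key input is `idem_eq_one`: an idempotent of `P ⊗ Q` (`P` integral,
`Q` local with an augmentation) which restricts to `1` along the augmentation is `1`. -/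

set_option autoImplicit false
set_option linter.unusedSectionVars false
set_option linter.style.haveILetI false
universe u

open TensorProduct WithConv

namespace Groth.Agent.H40.ConnEtale

open Groth.Agent.Lib.Helper84.Points Groth.Agent.Lib.Helper84.Coinv

section Idem

variable {R P Q : Type*} [CommRing R] [CommRing P] [Algebra R P] [CommRing Q] [Algebra R Q]

/-- The retraction `p ⊗ q ↦ p * ε q` of `P ⊗ Q` onto `P` along an augmentation of `Q`. -/
noncomputable def retr (ε' : Q →ₐ[R] R) : P ⊗[R] Q →ₐ[R] P :=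
  Algebra.TensorProduct.lift (AlgHom.id R P) ((Algebra.ofId R P).comp ε')
    (fun _ _ => Commute.all _ _)

@[simp] lemma retr_tmul (ε' : Q →ₐ[R] R) (p : P) (q : Q) :
    retr ε' (p ⊗ₜ[R] q) = p * algebraMap R P (ε' q) := by
  simp [retr, Algebra.ofId_apply]

lemma sub_retr_mem (ε' : Q →ₐ[R] R) (M : Ideal (P ⊗[R] Q))
    (hM : ∀ y, ε' y = 0 → (1 : P) ⊗ₜ[R] y ∈ M) (t : P ⊗[R] Q) :
    t - (retr ε' t) ⊗ₜ[R] (1 : Q) ∈ M := by
  induction t using TensorProduct.induction_on with
  | zero => simp
  | tmul p q =>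
    have h1 : p ⊗ₜ[R] q - (retr ε' (p ⊗ₜ[R] q)) ⊗ₜ[R] (1 : Q) =
        (p ⊗ₜ[R] (1 : Q)) * ((1 : P) ⊗ₜ[R] (q - algebraMap R Q (ε' q))) := by
      rw [retr_tmul, Algebra.TensorProduct.tmul_mul_tmul, mul_one, one_mul, TensorProduct.tmul_sub,
        mul_comm, ← Algebra.smul_def, TensorProduct.smul_tmul, Algebra.smul_def, mul_one]
    rw [h1]
    refine M.mul_mem_left _ (hM _ ?_)
    rw [map_sub, AlgHom.commutes, Algebra.algebraMap_self_apply, sub_self]
  | add x y hx hy =>
    have : x + y - (retr ε' (x + y)) ⊗ₜ[R] (1 : Q) =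
        (x - (retr ε' x) ⊗ₜ[R] (1 : Q)) + (y - (retr ε' y) ⊗ₜ[R] (1 : Q)) := by
      rw [map_add, TensorProduct.add_tmul]; abel
    rw [this]
    exact M.add_mem hx hy

lemma includeRight_isIntegral [Algebra.IsIntegral R P] :
    ((Algebra.TensorProduct.includeRight : Q →ₐ[R] P ⊗[R] Q) : Q →+* P ⊗[R] Q).IsIntegral := by
  have h1 : (algebraMap Q (Q ⊗[R] P)).IsIntegral := algebraMap_isIntegral_iff.mpr inferInstance
  have h2 : ((Algebra.TensorProduct.comm R Q P : Q ⊗[R] P →+* P ⊗[R] Q)).IsIntegral :=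
    RingHom.isIntegral_of_surjective _ (Algebra.TensorProduct.comm R Q P).surjective
  have h3 := RingHom.IsIntegral.trans _ _ h1 h2
  have e : ((Algebra.TensorProduct.includeRight : Q →ₐ[R] P ⊗[R] Q) : Q →+* P ⊗[R] Q) =
      ((Algebra.TensorProduct.comm R Q P : Q ⊗[R] P →+* P ⊗[R] Q)).comp
        (algebraMap Q (Q ⊗[R] P)) := by
    ext q
    simp
  rw [e]
  exact h3

/-- An idempotent of `P ⊗ Q` that becomes `1` along the augmentation of the local ring `Q`
is `1`. -/
theorem idem_eq_one [Algebra.IsIntegral R P] [IsLocalRing Q] [Nontrivial R] (ε' : Q →ₐ[R] R)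
    (c : P ⊗[R] Q) (hc : IsIdempotentElem c) (h1 : retr ε' c = 1) : c = 1 := by
  have key : ∀ M : Ideal (P ⊗[R] Q), M.IsMaximal → 1 - c ∈ M := by
    intro M hM
    have hN : (M.comap ((Algebra.TensorProduct.includeRight :
        Q →ₐ[R] P ⊗[R] Q) : Q →+* P ⊗[R] Q)).IsMaximal :=
      Ideal.isMaximal_comap_of_isIntegral_of_isMaximal' _ includeRight_isIntegral M
    have hN' := IsLocalRing.eq_maximalIdeal hN
    have hy : ∀ y, ε' y = 0 → (1 : P) ⊗ₜ[R] y ∈ M := by
      intro y hy
      have hmem : y ∈ IsLocalRing.maximalIdeal Q := by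
        rw [IsLocalRing.mem_maximalIdeal]
        intro hu
        have := hu.map ε'
        rw [hy] at this
        exact not_isUnit_zero this
      rw [← hN'] at hmem
      exact hmem
    have := sub_retr_mem ε' M hy (1 - c)
    rw [map_sub, map_one, h1, sub_self, TensorProduct.zero_tmul, sub_zero] at this
    exact this
  have hj : 1 - c ∈ Ideal.jacobson (⊥ : Ideal (P ⊗[R] Q)) := by
    rw [Ideal.jacobson, Submodule.mem_sInf]
    rintro M ⟨-, hM⟩
    exact key M hM
  have hu : IsUnit c := by
    have := Ideal.mem_jacobson_bot.mp hj (-1)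
    have e : (1 - c) * (-1) + 1 = c := by ring
    rwa [e] at this
  exact (IsIdempotentElem.iff_eq_one_of_isUnit hu).mp hc

end Idem

section Hopf

variable {R : Type u} [CommRing R] {A : Type u} [CommRing A] [HopfAlgebra R A]

/-- The ideal `(1 - e)`. -/
abbrev idl (e : A) : Ideal A := Ideal.span ({1 - e} : Set A)

variable {T : Type u} [CommRing T] [Algebra R T]

lemma mk_e (e : A) : Ideal.Quotient.mk (idl e) e = 1 := by
  have : Ideal.Quotient.mk (idl e) (1 - e) = 0 :=
    Ideal.Quotient.eq_zero_iff_mem.2 (Ideal.subset_span rfl)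
  rw [map_sub, map_one, sub_eq_zero] at this
  exact this.symm

lemma kills_iff_one (e : A) (g : A →ₐ[R] T) : (∀ a ∈ idl e, g a = 0) ↔ g e = 1 := by
  constructor
  · intro h
    have := h (1 - e) (Ideal.subset_span rfl)
    rw [map_sub, map_one, sub_eq_zero] at this
    exact this.symm
  · intro h a ha
    obtain ⟨c, rfl⟩ := Ideal.mem_span_singleton'.1 ha
    rw [map_mul, map_sub, map_one, h, sub_self, mul_zero]

lemma kills_iff_one' (e : A) (g : Pt R A T) : Kills (idl e) g ↔ g.ofConv e = 1 :=
  kills_iff_one e g.ofConv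

variable (e : A) (hε : Bialgebra.counitAlgHom R A e = 1)

/-- The augmentation of `A ⧸ (1 - e)`. -/
noncomputable def aug : A ⧸ idl e →ₐ[R] R :=
  Ideal.Quotient.liftₐ (idl e) (Bialgebra.counitAlgHom R A)
    ((kills_iff_one e (Bialgebra.counitAlgHom R A)).2 hε)

@[simp] lemma aug_mk (a : A) : aug e hε (Ideal.Quotient.mk (idl e) a) =
    Coalgebra.counit (R := R) a := rfl

/-- the point of `A ⧸ (1 - e)` induced by a point killing `(1 - e)`. -/
noncomputable def bar (g : A →ₐ[R] T) (hg : g e = 1) : A ⧸ idl e →ₐ[R] T :=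
  Ideal.Quotient.liftₐ (idl e) g ((kills_iff_one e g).2 hg)

@[simp] lemma bar_mk (g : A →ₐ[R] T) (hg : g e = 1) (a : A) :
    bar e g hg (Ideal.Quotient.mk (idl e) a) = g a := rfl

end Hopf

section Main

variable {R : Type u} [CommRing R] [Nontrivial R] {A : Type u} [CommRing A] [HopfAlgebra R A]
  [Algebra.IsIntegral R A]
variable (e : A) (he : IsIdempotentElem e) (hε : Bialgebra.counitAlgHom R A e = 1)
  [IsLocalRing (A ⧸ idl e)]
variable {T : Type u} [CommRing T] [Algebra R T]

lemma idem_local {Q : Type*} [CommRing Q] [IsLocalRing Q] (x : Q) (hx : IsIdempotentElem x) :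
    x = 0 ∨ x = 1 := by
  rcases IsLocalRing.isUnit_or_isUnit_one_sub_self x with h | h
  · exact Or.inr ((IsIdempotentElem.iff_eq_one_of_isUnit h).mp hx)
  · left
    have : x * (1 - x) = 0 := by rw [mul_sub, mul_one, hx.eq, sub_self]
    exact (IsUnit.mul_left_eq_zero h).mp this

include he hε in
theorem mul_e_eq_one (g h : A →ₐ[R] T) (hg : g e = 1) (hh : h e = 1) :
    (toConv g * toConv h : Pt R A T).ofConv e = 1 := by
  let π : A →ₐ[R] A ⧸ idl e := Ideal.Quotient.mkₐ R (idl e)
  let v₁ : Pt R A ((A ⧸ idl e) ⊗[R] (A ⧸ idl e)) :=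
    toConv (Algebra.TensorProduct.includeLeft.comp π)
  let v₂ : Pt R A ((A ⧸ idl e) ⊗[R] (A ⧸ idl e)) :=
    toConv (Algebra.TensorProduct.includeRight.comp π)
  let φ : (A ⧸ idl e) ⊗[R] (A ⧸ idl e) →ₐ[R] T :=
    Algebra.TensorProduct.lift (bar e g hg) (bar e h hh) (fun _ _ => Commute.all _ _)
  have h1 : mapPt φ v₁ = toConv g := by
    apply WithConv.ofConv_injective
    ext a
    simp [v₁, φ, π]
  have h2 : mapPt φ v₂ = toConv h := by
    apply WithConv.ofConv_injective
    ext a
    simp [v₂, φ, π]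
  have hc : (v₁ * v₂).ofConv e = 1 := by
    apply idem_eq_one (aug e hε) _ (he.map _)
    have r1 : mapPt (retr (aug e hε)) v₁ = toConv π := by
      apply WithConv.ofConv_injective
      ext a
      simp [v₁, π]
    have r2 : mapPt (retr (aug e hε)) v₂ = 1 := by
      apply WithConv.ofConv_injective
      ext a
      simp [v₂, π]
    have := mapPt_apply (retr (aug e hε)) (v₁ * v₂) e
    rw [← this, map_mul, r1, r2, mul_one]
    exact mk_e e
  rw [← h1, ← h2, ← map_mul, mapPt_apply, hc, map_one]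

include he hε in
theorem antipode_e_eq_one (g : A →ₐ[R] T) (hg : g e = 1) :
    g (HopfAlgebra.antipode R e) = 1 := by
  have hid : IsIdempotentElem (Ideal.Quotient.mk (idl e) (HopfAlgebra.antipode R e)) :=
    (he.map (HopfAlgebra.antipodeAlgHom R A)).map (Ideal.Quotient.mk (idl e))
  have h1 : aug e hε (Ideal.Quotient.mk (idl e) (HopfAlgebra.antipode R e)) = 1 := by
    rw [aug_mk, HopfAlgebra.counit_antipode]
    exact hε
  rcases idem_local _ hid with h0 | h0
  · rw [h0, map_zero] at h1
    exact absurd h1 zero_ne_one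
  · rw [← bar_mk e g hg, h0, map_one]

include he hε in
theorem isHopfIdeal : (idl e).IsHopfIdeal R :=
  Groth.Agent.Lib.Helper84.HopfIdealSub.isHopfIdeal_of_represents (idl e)
    (fun _ _ _ g => g e = 1) (fun _ _ _ g => kills_iff_one e g) hε
    (fun _ _ _ g h hg hh => mul_e_eq_one e he hε g h hg hh)
    (fun _ _ _ g hg => antipode_e_eq_one e he hε g hg)

include he hε in
theorem conj_e_eq_one (g n : Pt R A T) (hn : n.ofConv e = 1) :
    (g * n * g⁻¹).ofConv e = 1 := by
  let π : A →ₐ[R] A ⧸ idl e := Ideal.Quotient.mkₐ R (idl e)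
  let uL : Pt R A (A ⊗[R] (A ⧸ idl e)) := toConv Algebra.TensorProduct.includeLeft
  let uN : Pt R A (A ⊗[R] (A ⧸ idl e)) :=
    toConv (Algebra.TensorProduct.includeRight.comp π)
  let φ : A ⊗[R] (A ⧸ idl e) →ₐ[R] T :=
    Algebra.TensorProduct.lift g.ofConv (bar e n.ofConv hn) (fun _ _ => Commute.all _ _)
  have h1 : mapPt φ uL = g := by
    apply WithConv.ofConv_injective
    ext a
    simp [uL, φ]
  have h2 : mapPt φ uN = n := by
    apply WithConv.ofConv_injective
    ext a
    simp [uN, φ, π]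
  have hc : (uL * uN * uL⁻¹).ofConv e = 1 := by
    apply idem_eq_one (aug e hε) _ (he.map _)
    have r1 : mapPt (retr (aug e hε)) uL = toConv (AlgHom.id R A) := by
      apply WithConv.ofConv_injective
      ext a
      simp [uL]
    have r2 : mapPt (retr (aug e hε)) uN = 1 := by
      apply WithConv.ofConv_injective
      ext a
      simp [uN, π]
    have := mapPt_apply (retr (aug e hε)) (uL * uN * uL⁻¹) e
    rw [← this, map_mul, map_mul, map_inv, r1, r2, mul_one, mul_inv_cancel, one_apply]
    rw [← Bialgebra.counitAlgHom_apply, hε, map_one]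
  rw [← h1, ← h2, ← map_inv, ← map_mul, ← map_mul, mapPt_apply, hc, map_one]

include he hε in
theorem isNormal : SGA3.IsNormalHopfIdeal R A (idl e) := by
  intro T _ _ g n hn a ha
  rw [Groth.Agent.Lib.Helper84.HopfIdealSub.conv3_eq]
  have h := conj_e_eq_one e he hε (toConv g) (toConv n) ((kills_iff_one e n).1 hn)
  exact (kills_iff_one e _).2 h a ha

lemma idem_le (u v : T) (hv : IsIdempotentElem v)
    (h : Ideal.Quotient.mk (Ideal.span ({1 - v} : Set T)) u = 1) : v = u * v := by
  have h0 : Ideal.Quotient.mk (Ideal.span ({1 - v} : Set T)) (1 - u) = 0 := by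
    rw [map_sub, map_one, h, sub_self]
  obtain ⟨c, hc⟩ := Ideal.mem_span_singleton'.1 (Ideal.Quotient.eq_zero_iff_mem.1 h0)
  have : (1 - u) * v = 0 := by
    rw [← hc, mul_assoc, sub_mul, one_mul, hv.eq, sub_self, mul_zero]
  rw [sub_mul, one_mul, sub_eq_zero] at this
  exact this

include he hε in
/-- `e` is constant on right cosets of the identity component. -/
theorem coset_e (g n : Pt R A T) (hn : n.ofConv e = 1) :
    (g * n).ofConv e = g.ofConv e := by
  have hu : IsIdempotentElem ((g * n).ofConv e) := he.map _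
  have hv : IsIdempotentElem (g.ofConv e) := he.map _
  -- `v = u * v`
  have h1 : g.ofConv e = (g * n).ofConv e * g.ofConv e := by
    apply idem_le _ _ hv
    let q : T →ₐ[R] T ⧸ Ideal.span ({1 - g.ofConv e} : Set T) := Ideal.Quotient.mkₐ R _
    have hq : q (g.ofConv e) = 1 := mk_e (g.ofConv e)
    have := mul_e_eq_one e he hε (mapPt q g).ofConv (mapPt q n).ofConv hq
      (by rw [mapPt_apply, hn, map_one])
    rw [toConv_ofConv, toConv_ofConv, ← map_mul, mapPt_apply] at this
    exact this
  -- `u = v * u`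
  have h2 : (g * n).ofConv e = g.ofConv e * (g * n).ofConv e := by
    apply idem_le _ _ hu
    let q : T →ₐ[R] T ⧸ Ideal.span ({1 - (g * n).ofConv e} : Set T) := Ideal.Quotient.mkₐ R _
    have hq : q ((g * n).ofConv e) = 1 := mk_e ((g * n).ofConv e)
    have hn' : (mapPt q n⁻¹).ofConv e = 1 := by
      rw [mapPt_apply, inv_apply, antipode_e_eq_one e he hε n.ofConv hn, map_one]
    have := mul_e_eq_one e he hε (mapPt q (g * n)).ofConv (mapPt q n⁻¹).ofConv hq hn'
    rw [toConv_ofConv, toConv_ofConv, ← map_mul, mul_inv_cancel_right, mapPt_apply] at this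
    exact this
  rw [h2, mul_comm, ← h1]

include he hε in
theorem e_mem_coinv : e ∈ coinv (k := R) (idl e) := by
  rw [mem_coinv_iff_points]
  intro T _ _ g n hn
  exact coset_e e he hε g n ((kills_iff_one' e n).1 hn)

end Main

end Groth.Agent.H40.ConnEtale
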