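import Mathlib

/-! # The shear isomorphism of a commutative Hopf algebra over a commutative ring (helper40)
Same construction as helper8's `H8/HopfKaehler` (there over a field), via the convolution group. -/

set_option autoImplicit false
universe u v

open TensorProduct Bialgebra HopfAlgebra WithConv

namespace Groth.Agent.H40.HopfShear

variable (K : Type u) [CommRing K] (B : Type v) [CommRing B] [HopfAlgebra K B]

/-- The shear map `a ⊗ b ↦ (a ⊗ 1) * Δ b`, a `B`-algebra endomorphism of `B ⊗ B`. -/
noncomputable def shear : B ⊗[K] B →ₐ[B] B ⊗[K] B :=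
  Algebra.TensorProduct.lift (Algebra.ofId B (B ⊗[K] B)) (comulAlgHom K B)
    (fun _ _ => Commute.all _ _)

/-- The inverse shear map `a ⊗ b ↦ (a ⊗ 1) * (S ⊗ id) (Δ b)`. -/
noncomputable def shearInv : B ⊗[K] B →ₐ[B] B ⊗[K] B :=
  Algebra.TensorProduct.lift (Algebra.ofId B (B ⊗[K] B))
    ((Algebra.TensorProduct.map (antipodeAlgHom K B) (AlgHom.id K B)).comp (comulAlgHom K B))
    (fun _ _ => Commute.all _ _)

local notation "p₁" => (toConv (Algebra.TensorProduct.includeLeft : B →ₐ[K] B ⊗[K] B))
local notation "p₂" => (toConv (Algebra.TensorProduct.includeRight : B →ₐ[K] B ⊗[K] B))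

lemma lmul'_comp_map_incl : (Algebra.TensorProduct.lmul' K).comp (Algebra.TensorProduct.map
      (Algebra.TensorProduct.includeLeft : B →ₐ[K] B ⊗[K] B)
      (Algebra.TensorProduct.includeRight : B →ₐ[K] B ⊗[K] B)) = AlgHom.id K _ := by
  ext <;> simp

lemma comul_eq_conv : comulAlgHom K B = (p₁ * p₂).ofConv := by
  rw [AlgHom.convMul_def]
  simp only
  rw [← AlgHom.comp_assoc, lmul'_comp_map_incl, AlgHom.id_comp]

lemma antipode_comul_eq_conv :
    (Algebra.TensorProduct.map (antipodeAlgHom K B) (AlgHom.id K B)).comp (comulAlgHom K B) =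
      (p₁⁻¹ * p₂).ofConv := by
  rw [AlgHom.convMul_def]
  change _ = (Algebra.TensorProduct.lmul' K).comp ((Algebra.TensorProduct.map
    ((Algebra.TensorProduct.includeLeft : B →ₐ[K] B ⊗[K] B).comp (antipodeAlgHom K B))
    ((Algebra.TensorProduct.includeRight : B →ₐ[K] B ⊗[K] B).comp (AlgHom.id K B))).comp
      (comulAlgHom K B))
  rw [Algebra.TensorProduct.map_comp, AlgHom.comp_assoc, ← AlgHom.comp_assoc,
    lmul'_comp_map_incl, AlgHom.id_comp]

lemma comp_inv (φ : B ⊗[K] B →ₐ[K] B ⊗[K] B) (f : WithConv (B →ₐ[K] B ⊗[K] B)) :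
    φ.comp (f⁻¹).ofConv = ((toConv (φ.comp f.ofConv))⁻¹).ofConv := by
  change φ.comp (f.ofConv.comp (antipodeAlgHom K B)) = (φ.comp f.ofConv).comp (antipodeAlgHom K B)
  rw [AlgHom.comp_assoc]

lemma shear_comp_left : ((shear K B).restrictScalars K).comp
    (Algebra.TensorProduct.includeLeft : B →ₐ[K] B ⊗[K] B) =
      Algebra.TensorProduct.includeLeft := by
  ext x
  simp [shear]

lemma shearInv_comp_left : ((shearInv K B).restrictScalars K).comp
    (Algebra.TensorProduct.includeLeft : B →ₐ[K] B ⊗[K] B) =
      Algebra.TensorProduct.includeLeft := by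
  ext x
  simp [shearInv]

lemma shear_comp_right : ((shear K B).restrictScalars K).comp
    (Algebra.TensorProduct.includeRight : B →ₐ[K] B ⊗[K] B) = (p₁ * p₂).ofConv := by
  rw [← comul_eq_conv, shear, Algebra.TensorProduct.lift_comp_includeRight]

lemma shearInv_comp_right : ((shearInv K B).restrictScalars K).comp
    (Algebra.TensorProduct.includeRight : B →ₐ[K] B ⊗[K] B) = (p₁⁻¹ * p₂).ofConv := by
  rw [← antipode_comul_eq_conv, shearInv, Algebra.TensorProduct.lift_comp_includeRight]

lemma shear_comp_shearInv : (shear K B).comp (shearInv K B) = AlgHom.id B _ := by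
  apply Algebra.TensorProduct.ext
  · ext
  · change ((shear K B).restrictScalars K).comp
      (((shearInv K B).restrictScalars K).comp Algebra.TensorProduct.includeRight) =
        Algebra.TensorProduct.includeRight
    rw [shearInv_comp_right, AlgHom.comp_convMul_distrib, comp_inv]
    simp only [shear_comp_left, shear_comp_right, toConv_ofConv]
    exact congrArg ofConv (inv_mul_cancel_left p₁ p₂)

lemma shearInv_comp_shear : (shearInv K B).comp (shear K B) = AlgHom.id B _ := by
  apply Algebra.TensorProduct.ext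
  · ext
  · change ((shearInv K B).restrictScalars K).comp
      (((shear K B).restrictScalars K).comp Algebra.TensorProduct.includeRight) =
        Algebra.TensorProduct.includeRight
    rw [shear_comp_right, AlgHom.comp_convMul_distrib]
    simp only [shearInv_comp_left, shearInv_comp_right, toConv_ofConv]
    exact congrArg ofConv (mul_inv_cancel_left p₁ p₂)

/-- The shear map is an isomorphism of `B`-algebras. -/
noncomputable def shearEquiv : B ⊗[K] B ≃ₐ[B] B ⊗[K] B :=
  AlgEquiv.ofAlgHom (shear K B) (shearInv K B) (shear_comp_shearInv K B) (shearInv_comp_shear K B)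

lemma shearEquiv_tmul (a b : B) :
    shearEquiv K B (a ⊗ₜ b) = (a ⊗ₜ[K] (1 : B)) * Coalgebra.comul (R := K) b := by
  simp [shearEquiv, shear, Algebra.ofId_apply]

end Groth.Agent.H40.HopfShear
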