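import Mathlib

/-! # Transitivity of rank for finite locally free towers (helper40) -/

set_option autoImplicit false
universe u v w

open TensorProduct Module

namespace Groth.Agent.H40.RankTrans

section Cancel

variable (R : Type*) (S : Type*) (T : Type*) [CommRing R] [CommRing S] [CommRing T]
  [Algebra R S] [Algebra S T] [Algebra R T] [IsScalarTower R S T]

/-- If `T` is flat over `R` and faithfully flat over `S`, then `S` is flat over `R`.
(Same statement and proof as helper84's `HopfFFField.flat_of_comp`; restated here to keep the
import closure light.) -/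
theorem flat_of_comp [Module.Flat R T] [Module.FaithfullyFlat S T] : Module.Flat R S := by
  rw [Module.Flat.iff_lTensor_preserves_injective_linearMap]
  intro N P _ _ _ _ l hl
  have h1 : Function.Injective (l.baseChange S) → Function.Injective (l.lTensor S) := by
    intro h x y hxy
    exact h hxy
  apply h1
  rw [← Module.FaithfullyFlat.lTensor_injective_iff_injective S T]
  have h2 : (l.baseChange S).lTensor T =
      ((AlgebraTensorModule.cancelBaseChange R S T T P).symm.toLinearMap.restrictScalars S) ∘ₗ
        ((l.baseChange T).restrictScalars S) ∘ₗ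
        ((AlgebraTensorModule.cancelBaseChange R S T T N).toLinearMap.restrictScalars S) := by
    ext t s
    simp
  rw [h2]
  simp only [LinearMap.coe_comp, LinearMap.coe_restrictScalars, LinearEquiv.coe_coe]
  refine (LinearEquiv.injective _).comp (Function.Injective.comp ?_ (LinearEquiv.injective _))
  exact Module.Flat.lTensor_preserves_injective_linearMap (M := T) l hl

end Cancel

section Link

variable {S : Type*} [CommRing S] {N : Type*} [AddCommGroup N] [Module S N]
  [Module.Finite S N] [Module.Flat S N]

/-- For a maximal ideal `P`, the rank at `P` is the dimension of `(S ⧸ P) ⊗ N` over `S ⧸ P`. -/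
theorem finrank_quotient_tensor_eq_rankAtStalk (P : Ideal S) [hP : P.IsMaximal] :
    finrank (S ⧸ P) ((S ⧸ P) ⊗[S] N) = rankAtStalk N ⟨P, hP.isPrime⟩ := by
  let _ := Ideal.Quotient.field P
  have h1 := (AlgebraTensorModule.cancelBaseChange S (S ⧸ P) P.ResidueField
    P.ResidueField N).finrank_eq
  have h2 : finrank P.ResidueField (P.ResidueField ⊗[S ⧸ P] ((S ⧸ P) ⊗[S] N)) =
      finrank (S ⧸ P) ((S ⧸ P) ⊗[S] N) := Module.finrank_baseChange
  rw [rankAtStalk_eq]
  exact h2.symm.trans h1

end Link

section Trans

attribute [local instance] Algebra.TensorProduct.rightAlgebra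

variable {R : Type u} {C : Type v} {M : Type w} [CommRing R] [CommRing C] [Algebra R C]
  [AddCommGroup M] [Module C M] [Module R M] [IsScalarTower R C M]
  [Module.Finite R C] [Module.Flat R C] [Module.Finite C M] [Module.Flat C M]
  [Module.Finite R M] [Module.Flat R M]

/-- **Transitivity of rank.**  If `M` has constant rank `n` over `C` along the fibre of
`Spec C → Spec R` over `q`, then `rank_R M (q) = n * rank_R C (q)`. -/
theorem rankAtStalk_eq_mul (q : PrimeSpectrum R) (n : ℕ)
    (h : ∀ P : PrimeSpectrum C, P.comap (algebraMap R C) = q → rankAtStalk M P = n) :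
    rankAtStalk (R := R) M q = n * rankAtStalk (R := R) C q := by
  let κ := q.asIdeal.ResidueField
  let S := κ ⊗[R] C
  let N := S ⊗[C] M
  have h3 : finrank κ N = finrank κ (κ ⊗[R] M) :=
    (Algebra.IsPushout.cancelBaseChange R κ C S M).finrank_eq
  rw [rankAtStalk_eq (M := M), rankAtStalk_eq (M := C)]
  change finrank κ (κ ⊗[R] M) = n * finrank κ S
  rw [← h3]
  rcases subsingleton_or_nontrivial S with hS | hS
  · have : Subsingleton N := Module.subsingleton S N
    rw [Module.finrank_zero_of_subsingleton, Module.finrank_zero_of_subsingleton, mul_zero]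
  have : IsArtinianRing S := IsArtinianRing.of_finite κ S
  -- ranks of `N` at maximal ideals of `S`
  have hrk : ∀ P : MaximalSpectrum S, finrank (S ⧸ P.1) ((S ⧸ P.1) ⊗[S] N) = n := by
    intro P
    have := P.2
    rw [finrank_quotient_tensor_eq_rankAtStalk (N := N) P.1, rankAtStalk_baseChange]
    apply h
    ext x
    change algebraMap C S (algebraMap R C x) ∈ P.1 ↔ x ∈ q.asIdeal
    have hx : algebraMap C S (algebraMap R C x) = algebraMap κ S (algebraMap R κ x) := by
      rw [← IsScalarTower.algebraMap_apply R C S, ← IsScalarTower.algebraMap_apply R κ S]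
    rw [hx]
    constructor
    · intro hmem
      by_contra hxq
      have hne : algebraMap R κ x ≠ 0 := by
        intro h0
        apply hxq
        rw [← Ideal.ker_algebraMap_residueField q.asIdeal]
        exact h0
      have hu : IsUnit (algebraMap κ S (algebraMap R κ x)) :=
        (isUnit_iff_ne_zero.mpr hne).map _
      exact P.2.ne_top (Ideal.eq_top_of_isUnit_mem _ hmem hu)
    · intro hxq
      have h0 : algebraMap R κ x = 0 := by
        rw [← RingHom.mem_ker, Ideal.ker_algebraMap_residueField]
        exact hxq
      rw [h0, map_zero]
      exact Ideal.zero_mem _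
  obtain ⟨b⟩ := Module.nonempty_basis_of_flat_of_finrank_eq S N n hrk
  have : Module.Free S N := Module.Free.of_basis b
  have h1 : finrank κ S * finrank S N = finrank κ N := Module.finrank_mul_finrank κ S N
  have h2 : finrank S N = n := by
    rw [Module.finrank_eq_card_basis b, Fintype.card_fin]
  rw [← h1, h2, mul_comm]

end Trans

end Groth.Agent.H40.RankTrans
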