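import Mathlib
import Groth.Agent.Lib.Helper37.GrpdRingThm
import Groth.Agent.H40.HopfShear
import Groth.Agent.H40.RankTrans

/-! # Quotient of a finite locally free Hopf algebra by a finite locally free Hopf quotient (helper40)

For a commutative Hopf algebra `A` over a Noetherian ring `R`, finite projective, and a Hopf ideal `I`
with `A ⧸ I` projective, we build the ring-level action groupoid (`rdata`) of `Spec (A ⧸ I)` acting
on `Spec A` by right translation, feed it to helper37's `RData.ring_theorem`, and obtain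
`A ⊗[A^{G'}] A ≃ A ⊗[R] (A ⧸ I)` with `A` finite flat over the invariants, whence the Lagrange
rank formula `rank_formula`. -/

set_option autoImplicit false
set_option linter.unusedSectionVars false
set_option linter.style.haveILetI false
universe u v

open TensorProduct Bialgebra HopfAlgebra CategoryTheory CategoryTheory.Limits

namespace Groth.Agent.H40.HopfQuot

section Pushout

variable {R : Type u} {A T H : Type v} [CommRing R] [CommRing A] [CommRing T] [CommRing H]
  [Algebra R A] [Algebra R T] [Algebra R H]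

/-- Base change of a base change: `T ⊗ H` is the pushout of `T ← A → A ⊗ H`. -/
theorem isPushout_map (φ : A →ₐ[R] T) :
    IsPushout (CommRingCat.ofHom φ.toRingHom)
      (CommRingCat.ofHom (Algebra.TensorProduct.includeLeftRingHom : A →+* A ⊗[R] H))
      (CommRingCat.ofHom (Algebra.TensorProduct.includeLeftRingHom : T →+* T ⊗[R] H))
      (CommRingCat.ofHom (Algebra.TensorProduct.map φ (AlgHom.id R H)).toRingHom) := by
  letI : Algebra A T := φ.toRingHom.toAlgebra
  haveI : IsScalarTower R A T := IsScalarTower.of_algebraMap_eq fun r => (φ.commutes r).symm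
  letI : Algebra (A ⊗[R] H) (T ⊗[R] H) :=
    (Algebra.TensorProduct.map φ (AlgHom.id R H)).toRingHom.toAlgebra
  haveI : IsScalarTower A (A ⊗[R] H) (T ⊗[R] H) := IsScalarTower.of_algebraMap_eq fun a => by
    change (algebraMap A T a) ⊗ₜ[R] (1 : H) = Algebra.TensorProduct.map φ (AlgHom.id R H) (a ⊗ₜ 1)
    rw [Algebra.TensorProduct.map_tmul, map_one]
    rfl
  haveI : Algebra.IsPushout A T (A ⊗[R] H) (T ⊗[R] H) :=
    Algebra.IsPushout.tensorProduct_tensorProduct R H A T (by
      ext h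
      change Algebra.TensorProduct.map φ (AlgHom.id R H) ((1 : A) ⊗ₜ h) = (1 : T) ⊗ₜ h
      rw [Algebra.TensorProduct.map_tmul, map_one]
      rfl)
  exact CommRingCat.isPushout_of_isPushout A T (A ⊗[R] H) (T ⊗[R] H)

end Pushout

section Hopf

variable (R : Type u) [CommRing R] (A : Type v) [CommRing A] [HopfAlgebra R A]
  (I : Ideal A) [I.IsHopfIdeal R]

/-- The target map `a ↦ (id ⊗ π)(Δ a)` of the action groupoid of `Spec (A ⧸ I)` on `Spec A`. -/
noncomputable def tau : A →ₐ[R] A ⊗[R] (A ⧸ I) :=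
  (Algebra.TensorProduct.map (AlgHom.id R A) (Ideal.Quotient.mkₐ R I)).comp
    (Bialgebra.comulAlgHom R A)

/-- The source map `a ↦ a ⊗ 1`. -/
noncomputable def sigma : A →ₐ[R] A ⊗[R] (A ⧸ I) := Algebra.TensorProduct.includeLeft

/-- The identity section `a ⊗ b ↦ a * ε b`. -/
noncomputable def eps : A ⊗[R] (A ⧸ I) →ₐ[R] A :=
  Algebra.TensorProduct.lift (AlgHom.id R A)
    ((Algebra.ofId R A).comp (counitAlgHom R (A ⧸ I))) (fun _ _ => Commute.all _ _)

/-- The automorphism `(a ⊗ b) ⊗ b' ↦ (a ⊗ b b'₁) ⊗ b'₂`. -/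
noncomputable def theta : (A ⊗[R] (A ⧸ I)) ⊗[R] (A ⧸ I) ≃ₐ[R] (A ⊗[R] (A ⧸ I)) ⊗[R] (A ⧸ I) :=
  (Algebra.TensorProduct.assoc R R R A (A ⧸ I) (A ⧸ I)).trans
    ((Algebra.TensorProduct.congr (AlgEquiv.refl (R := R) (A₁ := A))
      ((HopfShear.shearEquiv R (A ⧸ I)).restrictScalars R)).trans
      (Algebra.TensorProduct.assoc R R R A (A ⧸ I) (A ⧸ I)).symm)

noncomputable def pr₂ : A ⊗[R] (A ⧸ I) →ₐ[R] (A ⊗[R] (A ⧸ I)) ⊗[R] (A ⧸ I) :=
  Algebra.TensorProduct.includeLeft

noncomputable def pr₁ : A ⊗[R] (A ⧸ I) →ₐ[R] (A ⊗[R] (A ⧸ I)) ⊗[R] (A ⧸ I) :=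
  Algebra.TensorProduct.map (tau R A I) (AlgHom.id R (A ⧸ I))

noncomputable def qq : A ⊗[R] (A ⧸ I) →ₐ[R] (A ⊗[R] (A ⧸ I)) ⊗[R] (A ⧸ I) :=
  Algebra.TensorProduct.map (sigma R A I) (AlgHom.id R (A ⧸ I))

noncomputable def cc : A ⊗[R] (A ⧸ I) →ₐ[R] (A ⊗[R] (A ⧸ I)) ⊗[R] (A ⧸ I) :=
  (theta R A I).toAlgHom.comp (qq R A I)

lemma theta_tmul (a : A) (b b' : A ⧸ I) :
    theta R A I ((a ⊗ₜ b) ⊗ₜ b') =
      (Algebra.TensorProduct.assoc R R R A (A ⧸ I) (A ⧸ I)).symm
        (a ⊗ₜ ((b ⊗ₜ[R] (1 : A ⧸ I)) * Coalgebra.comul (R := R) b')) := by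
  simp [theta, HopfShear.shearEquiv_tmul]

lemma cc_tmul (a : A) (b : A ⧸ I) :
    cc R A I (a ⊗ₜ b) =
      (Algebra.TensorProduct.assoc R R R A (A ⧸ I) (A ⧸ I)).symm
        (a ⊗ₜ (Coalgebra.comul (R := R) b)) := by
  have h1 : ((1 : A ⧸ I) ⊗ₜ[R] (1 : A ⧸ I)) = 1 := rfl
  simp [cc, qq, sigma, theta_tmul, h1]

lemma eps_sigma (a : A) : eps R A I (sigma R A I a) = a := by
  simp [eps, sigma]

lemma eps_tau (a : A) : eps R A I (tau R A I a) = a := by
  have h : ∀ t : A ⊗[R] A,
      eps R A I (Algebra.TensorProduct.map (AlgHom.id R A) (Ideal.Quotient.mkₐ R I) t) =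
        TensorProduct.rid R A ((Coalgebra.counit (R := R) (A := A)).lTensor A t) := by
    intro t
    induction t using TensorProduct.induction_on with
    | zero => simp
    | add x y hx hy => simp only [map_add, hx, hy]
    | tmul x y =>
      simp [eps, Algebra.smul_def, mul_comm]
  change eps R A I (Algebra.TensorProduct.map (AlgHom.id R A) (Ideal.Quotient.mkₐ R I)
    (Coalgebra.comul (R := R) a)) = a
  rw [h, Coalgebra.lTensor_counit_comul]
  simp

/-- `(x ⊗ y) ⊗ z ↦ (x ⊗ π y) ⊗ π z`. -/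
noncomputable def M₃ : (A ⊗[R] A) ⊗[R] A →ₐ[R] (A ⊗[R] (A ⧸ I)) ⊗[R] (A ⧸ I) :=
  Algebra.TensorProduct.map
    (Algebra.TensorProduct.map (AlgHom.id R A) (Ideal.Quotient.mkₐ R I)) (Ideal.Quotient.mkₐ R I)

lemma pr₁_map (t : A ⊗[R] A) :
    pr₁ R A I (Algebra.TensorProduct.map (AlgHom.id R A) (Ideal.Quotient.mkₐ R I) t) =
      M₃ R A I ((Coalgebra.comul (R := R) (A := A)).rTensor A t) := by
  induction t using TensorProduct.induction_on with
  | zero => simp
  | add x y hx hy => simp only [map_add, hx, hy]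
  | tmul x y =>
    simp [pr₁, M₃, tau]

lemma M₃_assoc_symm (x : A) (s : A ⊗[R] A) :
    M₃ R A I ((TensorProduct.assoc R A A A).symm (x ⊗ₜ s)) =
      (Algebra.TensorProduct.assoc R R R A (A ⧸ I) (A ⧸ I)).symm
        (x ⊗ₜ (TensorProduct.map (Ideal.Quotient.mkₐ R I).toLinearMap
          (Ideal.Quotient.mkₐ R I).toLinearMap s)) := by
  induction s using TensorProduct.induction_on with
  | zero => simp
  | add y z hy hz => simp only [tmul_add, map_add, hy, hz]
  | tmul y z =>
    simp [M₃]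

lemma cc_map (t : A ⊗[R] A) :
    cc R A I (Algebra.TensorProduct.map (AlgHom.id R A) (Ideal.Quotient.mkₐ R I) t) =
      M₃ R A I ((TensorProduct.assoc R A A A).symm
        ((Coalgebra.comul (R := R) (A := A)).lTensor A t)) := by
  induction t using TensorProduct.induction_on with
  | zero => simp
  | add x y hx hy => simp only [map_add, hx, hy]
  | tmul x y =>
    rw [Algebra.TensorProduct.map_tmul, cc_tmul, LinearMap.lTensor_tmul, M₃_assoc_symm]
    rfl

lemma cc_tau (a : A) : cc R A I (tau R A I a) = pr₁ R A I (tau R A I a) := by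
  change cc R A I (Algebra.TensorProduct.map (AlgHom.id R A) (Ideal.Quotient.mkₐ R I)
    (Coalgebra.comul (R := R) a)) = pr₁ R A I (Algebra.TensorProduct.map (AlgHom.id R A)
    (Ideal.Quotient.mkₐ R I) (Coalgebra.comul (R := R) a))
  rw [cc_map, pr₁_map, Coalgebra.coassoc_symm_apply]

lemma theta_pr₂ (x : A ⊗[R] (A ⧸ I)) : theta R A I (pr₂ R A I x) = pr₂ R A I x := by
  induction x using TensorProduct.induction_on with
  | zero => simp
  | add x y hx hy => simp only [map_add, hx, hy]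
  | tmul a b =>
    change theta R A I ((a ⊗ₜ b) ⊗ₜ 1) = (a ⊗ₜ b) ⊗ₜ 1
    rw [theta_tmul, Bialgebra.comul_one]
    simp

lemma isPushout_hpt :
    IsPushout (CommRingCat.ofHom (tau R A I).toRingHom)
      (CommRingCat.ofHom (algebraMap A (A ⊗[R] (A ⧸ I))))
      (CommRingCat.ofHom (S := (A ⊗[R] (A ⧸ I)) ⊗[R] (A ⧸ I)) (pr₂ R A I).toRingHom)
      (CommRingCat.ofHom (S := (A ⊗[R] (A ⧸ I)) ⊗[R] (A ⧸ I)) (pr₁ R A I).toRingHom) :=
  isPushout_map (H := A ⧸ I) (tau R A I)

lemma isPushout_hps :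
    IsPushout (CommRingCat.ofHom (algebraMap A (A ⊗[R] (A ⧸ I))))
      (CommRingCat.ofHom (algebraMap A (A ⊗[R] (A ⧸ I))))
      (CommRingCat.ofHom (S := (A ⊗[R] (A ⧸ I)) ⊗[R] (A ⧸ I)) (pr₂ R A I).toRingHom)
      (CommRingCat.ofHom (S := (A ⊗[R] (A ⧸ I)) ⊗[R] (A ⧸ I)) (cc R A I).toRingHom) := by
  have h := isPushout_map (H := A ⧸ I) (sigma R A I)
  refine h.of_iso (Iso.refl _) (Iso.refl _) (Iso.refl _)
    (theta R A I).toRingEquiv.toCommRingCatIso ?_ ?_ ?_ ?_
  · rfl
  · rfl
  · refine CommRingCat.hom_ext (RingHom.ext fun x => ?_)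
    exact theta_pr₂ R A I x
  · refine CommRingCat.hom_ext (RingHom.ext fun x => ?_)
    rfl

/-- The ring-level groupoid data of the action of `Spec (A ⧸ I)` on `Spec A` by right
translations. -/
noncomputable def rdata : Groth.Agent.Lib.Helper37.RData A (A ⊗[R] (A ⧸ I))
    ((A ⊗[R] (A ⧸ I)) ⊗[R] (A ⧸ I)) where
  τ := (tau R A I).toRingHom
  e := (eps R A I).toRingHom
  c := (cc R A I).toRingHom
  p₁ := (pr₁ R A I).toRingHom
  p₂ := (pr₂ R A I).toRingHom
  hes := eps_sigma R A I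
  het := eps_tau R A I
  hps := isPushout_hps R A I
  hpt := isPushout_hpt R A I
  hct := cc_tau R A I

/-- The canonical map `a ⊗ a' ↦ (a ⊗ 1) * τ a'` on `A ⊗[R] A` is `(id ⊗ π) ∘ shear`. -/
lemma map_shear (t : A ⊗[R] A) :
    Algebra.TensorProduct.map (AlgHom.id R A) (Ideal.Quotient.mkₐ R I)
      (HopfShear.shearEquiv R A t) =
    Algebra.TensorProduct.lift (sigma R A I) (tau R A I) (fun _ _ => Commute.all _ _) t := by
  induction t using TensorProduct.induction_on with
  | zero => simp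
  | add x y hx hy => simp only [map_add, hx, hy]
  | tmul x y =>
    rw [HopfShear.shearEquiv_tmul, map_mul, Algebra.TensorProduct.lift_tmul]
    simp [sigma, tau]

lemma lift_sigma_tau_surjective :
    Function.Surjective
      (Algebra.TensorProduct.lift (sigma R A I) (tau R A I) (fun _ _ => Commute.all _ _)) := by
  intro b
  obtain ⟨t, ht⟩ := Algebra.TensorProduct.map_surjective (AlgHom.id R A) (Ideal.Quotient.mkₐ R I)
    Function.surjective_id (Ideal.Quotient.mkₐ_surjective R I) b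
  obtain ⟨s, rfl⟩ := (HopfShear.shearEquiv R A).surjective t
  exact ⟨s, by rw [← map_shear, ht]⟩

section Main

variable [IsNoetherianRing R] [Module.Finite R A] [Module.Projective R A]
  [Module.Projective R (A ⧸ I)]

/-- The invariants. -/
noncomputable abbrev inv : Subalgebra R A := AlgHom.equalizer (tau R A I) (sigma R A I)

theorem quotient_theorem' {C : Type v} [CommRing C] [Algebra C A]
    (hinj : Function.Injective (algebraMap C A))
    (hinv' : ∀ a, tau R A I a = sigma R A I a ↔ a ∈ Set.range (algebraMap C A)) :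
    Module.Finite C A ∧ Module.Flat C A ∧
      ∃ ψ : A ⊗[C] A →+* A ⊗[R] (A ⧸ I),
        (∀ a a', ψ (a ⊗ₜ a') = (a ⊗ₜ[R] (1 : A ⧸ I)) * tau R A I a') ∧ Function.Bijective ψ := by
  have : Algebra.FiniteType R (A ⧸ I) := inferInstance
  have : Algebra.FinitePresentation R (A ⧸ I) := Algebra.FinitePresentation.of_finiteType.mp this
  let D := rdata R A I
  have hinv : ∀ a, algebraMap A (A ⊗[R] (A ⧸ I)) a = D.τ a ↔
      a ∈ Set.range (algebraMap C A) := by
    intro a
    rw [← hinv']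
    exact eq_comm
  let τa : A →ₐ[C] A ⊗[R] (A ⧸ I) :=
    { (tau R A I).toRingHom with
      commutes' := fun z => (hinv' _).mpr ⟨z, rfl⟩ }
  let ψ : A ⊗[C] A →ₐ[C] A ⊗[R] (A ⧸ I) :=
    Algebra.TensorProduct.lift (IsScalarTower.toAlgHom C A (A ⊗[R] (A ⧸ I))) τa
      (fun _ _ => Commute.all _ _)
  have hψ : ∀ a a', ψ.toRingHom (a ⊗ₜ a') = algebraMap A (A ⊗[R] (A ⧸ I)) a * D.τ a' := by
    intro a a'
    change ψ (a ⊗ₜ a') = _
    simp only [ψ]
    rw [Algebra.TensorProduct.lift_tmul]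
    rfl
  have hψs : Function.Surjective ψ.toRingHom := by
    intro b
    obtain ⟨t, rfl⟩ := lift_sigma_tau_surjective R A I b
    induction t using TensorProduct.induction_on with
    | zero => exact ⟨0, by simp⟩
    | add x y hx hy =>
      obtain ⟨x', hx'⟩ := hx
      obtain ⟨y', hy'⟩ := hy
      exact ⟨x' + y', by rw [map_add, hx', hy', map_add]⟩
    | tmul x y =>
      refine ⟨x ⊗ₜ y, ?_⟩
      rw [hψ, Algebra.TensorProduct.lift_tmul]
      rfl
  obtain ⟨hCfin, hCflat, -, hbij⟩ := D.ring_theorem hinj hinv ψ.toRingHom hψ hψs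
  exact ⟨hCfin, hCflat, ψ.toRingHom, hψ, hbij⟩

open Module in
/-- **Lagrange** for finite locally free group schemes: `rank A = rank (A ⧸ I) * rank A^{G'}`. -/
theorem rank_formula (q : PrimeSpectrum R) :
    Module.rankAtStalk A q =
      Module.rankAtStalk (A ⧸ I) q * Module.rankAtStalk (↥(inv R A I)) q := by
  let C := inv R A I
  have hinjC : Function.Injective (algebraMap C A) := Subtype.val_injective
  obtain ⟨hCfin, hCflat, ψ, hψ, hbij⟩ := quotient_theorem' R A I (C := C) hinjC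
    (fun a => ⟨fun h => ⟨⟨a, h⟩, rfl⟩, by rintro ⟨z, rfl⟩; exact z.2⟩)
  have : FaithfulSMul C A := (faithfulSMul_iff_algebraMap_injective C A).mpr hinjC
  have : Algebra.IsIntegral C A := inferInstance
  have hff : Module.FaithfullyFlat C A :=
    Module.FaithfullyFlat.of_comap_surjective (Algebra.IsIntegral.comap_surjective C A)
  have hRC : Module.Flat R C := RankTrans.flat_of_comp R C A
  have hfinC : Module.Finite R C := by
    have : IsNoetherian R A := isNoetherian_of_isNoetherianRing_of_finite R A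
    exact Module.Finite.of_injective (C.val.toLinearMap) Subtype.val_injective
  -- the `A`-linear isomorphism `A ⊗[C] A ≃ A ⊗[R] (A ⧸ I)`
  let e : A ⊗[C] A ≃ₗ[A] A ⊗[R] (A ⧸ I) :=
    LinearEquiv.ofBijective
      { toFun := ψ
        map_add' := map_add ψ
        map_smul' := fun a t => by
          have h1 : a • t = (a ⊗ₜ[C] (1 : A)) * t := by
            rw [Algebra.smul_def]
            rfl
          have h2 : ψ (a ⊗ₜ[C] (1 : A)) = a ⊗ₜ[R] (1 : A ⧸ I) := by
            rw [hψ, map_one, mul_one]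
          have h3 : a • ψ t = (a ⊗ₜ[R] (1 : A ⧸ I)) * ψ t :=
            Algebra.smul_def a (ψ t)
          rw [RingHom.id_apply, h1, map_mul, h2, h3] } hbij
  have hrank : ∀ P : PrimeSpectrum C, P.comap (algebraMap R C) = q →
      rankAtStalk A P = rankAtStalk (A ⧸ I) q := by
    intro P hP
    obtain ⟨Q, rfl⟩ := Algebra.IsIntegral.comap_surjective C A P
    rw [← rankAtStalk_baseChange (R := C) (M := A) (S := A) Q, rankAtStalk_eq_of_equiv e,
      rankAtStalk_baseChange, ← hP]
    congr 1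
  rw [RankTrans.rankAtStalk_eq_mul q _ hrank]

end Main

end Hopf

end Groth.Agent.H40.HopfQuot
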