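import Mathlib
import Groth.Agent.H40.ConnEtaleA
import Groth.Agent.H40.HopfQuot

/-! # Coinvariants of a normal flat Hopf quotient: Hopf subalgebra and unramifiedness (helper40)

`R` a ring, `A` a flat commutative Hopf algebra, `I` a normal Hopf ideal with `A ⧸ I` flat and the
coinvariants `B = A^{co A/I}` flat.  Then `Δ B ⊆ B ⊗ B` and `S B ⊆ B` (the field case is helper84's
`Coinv.isHopfSubalgebra_coinv`).  When moreover `I = (1 - e)` for an idempotent `e ∈ B` with
`ε e = 1`, `B` is unramified over `R`. -/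

set_option autoImplicit false
set_option linter.unusedSectionVars false
set_option linter.style.haveILetI false
universe u

open TensorProduct WithConv

namespace Groth.Agent.H40.ConnEtale

open Groth.Agent.Lib.Helper84.Points Groth.Agent.Lib.Helper84.Coinv

section LinAlg

variable {R : Type*} [CommRing R] {V V' X X' : Type*} [AddCommGroup V] [Module R V]
  [AddCommGroup V'] [Module R V'] [AddCommGroup X] [Module R X] [AddCommGroup X'] [Module R X']

/-- `(W ⊗ V') ∩ (V ⊗ W') = W ⊗ W'` for kernels `W = ker δ`, `W' = ker δ'` under flatness. -/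
theorem mem_range_map_of_flat (W : Submodule R V) (W' : Submodule R V') (δ : V →ₗ[R] X)
    (δ' : V' →ₗ[R] X') (hW : LinearMap.ker δ = W) (hW' : LinearMap.ker δ' = W')
    [Module.Flat R V'] [Module.Flat R X'] [Module.Flat R W] (z : V ⊗[R] V')
    (h1 : δ.rTensor V' z = 0) (h2 : δ'.lTensor V z = 0) :
    z ∈ LinearMap.range (TensorProduct.map W.subtype W'.subtype) := by
  have ex1 : Function.Exact W.subtype δ := by
    intro v
    rw [← LinearMap.mem_ker, hW]
    simp
  have ex2 : Function.Exact W'.subtype δ' := by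
    intro v
    rw [← LinearMap.mem_ker, hW']
    simp
  obtain ⟨z₁, rfl⟩ := (Module.Flat.rTensor_exact V' ex1 z).1 h1
  have h3 : δ'.lTensor W z₁ = 0 := by
    apply Module.Flat.rTensor_preserves_injective_linearMap (M := X') W.subtype
      W.injective_subtype
    rw [map_zero, ← LinearMap.comp_apply, LinearMap.rTensor_comp_lTensor,
      ← LinearMap.lTensor_comp_rTensor, LinearMap.comp_apply, h2]
  obtain ⟨z₂, rfl⟩ := (Module.Flat.lTensor_exact W ex2 z₁).1 h3
  refine ⟨z₂, ?_⟩
  rw [← LinearMap.comp_apply, LinearMap.rTensor_comp_lTensor]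

end LinAlg

section Points

variable {R : Type u} [CommRing R] {A : Type u} [CommRing A] [HopfAlgebra R A]
variable {T : Type u} [CommRing T] [Algebra R T]

/-- evaluation of "functions of two variables" at a pair of points. -/
noncomputable def ev (a b : Pt R A T) : A ⊗[R] A →ₐ[R] T :=
  Algebra.TensorProduct.lift a.ofConv b.ofConv (fun _ _ => Commute.all _ _)

variable (R A) in
/-- the first universal point. -/
noncomputable def uL : Pt R A (A ⊗[R] A) := toConv Algebra.TensorProduct.includeLeft

variable (R A) in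
/-- the second universal point. -/
noncomputable def uR : Pt R A (A ⊗[R] A) := toConv Algebra.TensorProduct.includeRight

@[simp] lemma mapPt_ev_uL (a b : Pt R A T) : mapPt (ev a b) (uL R A) = a := by
  apply WithConv.ofConv_injective
  ext x
  simp [ev, uL]

@[simp] lemma mapPt_ev_uR (a b : Pt R A T) : mapPt (ev a b) (uR R A) = b := by
  apply WithConv.ofConv_injective
  ext x
  simp [ev, uR]

lemma comul_eq (x : A) : Coalgebra.comul (R := R) x = (uL R A * uR R A).ofConv x := by
  have := HopfShear.comul_eq_conv R A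
  exact congrArg (fun f : A →ₐ[R] A ⊗[R] A => f x) this

lemma lmul'_eq : Algebra.TensorProduct.lmul' (S := A) R =
    ev (toConv (AlgHom.id R A)) (toConv (AlgHom.id R A)) := by
  apply Algebra.TensorProduct.ext <;> ext x <;> simp [ev]

end Points

section Coinv

variable {R : Type u} [CommRing R] {A : Type u} [CommRing A] [HopfAlgebra R A]
variable (I : Ideal A) [I.IsHopfIdeal R]

/-- the universal point of `G` in `A ⊗ A/I`. -/
noncomputable def vL : Pt R A (A ⊗[R] (A ⧸ I)) := toConv Algebra.TensorProduct.includeLeft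

/-- the universal point of `N = V(I)` in `A ⊗ A/I`. -/
noncomputable def vN : Pt R A (A ⊗[R] (A ⧸ I)) :=
  toConv (Algebra.TensorProduct.includeRight.comp (Ideal.Quotient.mkₐ R I))

lemma kills_vN : Kills I (vN (R := R) I) := by
  intro a ha
  change (Algebra.TensorProduct.includeRight : A ⧸ I →ₐ[R] A ⊗[R] (A ⧸ I))
    (Ideal.Quotient.mk I a) = 0
  rw [Ideal.Quotient.eq_zero_iff_mem.2 ha, map_zero]

lemma map_id_mk_eq : Algebra.TensorProduct.map (AlgHom.id R A) (Ideal.Quotient.mkₐ R I) =
    Algebra.TensorProduct.lift (vL (R := R) I).ofConv (vN (R := R) I).ofConv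
      (fun _ _ => Commute.all _ _) := by
  apply Algebra.TensorProduct.ext <;> ext x <;> simp [vL, vN]

lemma tau_eq : HopfQuot.tau R A I = (vL (R := R) I * vN (R := R) I).ofConv := by
  ext x
  rw [mul_apply, ← map_id_mk_eq]
  rfl

lemma sigma_eq : HopfQuot.sigma R A I = (vL (R := R) I).ofConv := rfl

lemma mem_coinv_iff_tau (x : A) :
    x ∈ coinv (k := R) I ↔ HopfQuot.tau R A I x = HopfQuot.sigma R A I x := Iff.rfl

/-- `τ - σ`, whose kernel is the coinvariants. -/
noncomputable def delta : A →ₗ[R] A ⊗[R] (A ⧸ I) :=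
  (HopfQuot.tau R A I).toLinearMap - (HopfQuot.sigma R A I).toLinearMap

lemma ker_delta :
    LinearMap.ker (delta (R := R) I) = Subalgebra.toSubmodule (coinv (k := R) I) := by
  ext x
  rw [LinearMap.mem_ker, delta, LinearMap.sub_apply, sub_eq_zero]
  exact (mem_coinv_iff_tau I x).symm

lemma rTensor_delta (z : A ⊗[R] A) : (delta (R := R) I).rTensor A z =
    Algebra.TensorProduct.map (HopfQuot.tau R A I) (AlgHom.id R A) z -
      Algebra.TensorProduct.map (HopfQuot.sigma R A I) (AlgHom.id R A) z := by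
  rw [delta, LinearMap.rTensor_sub]
  rfl

lemma lTensor_delta (z : A ⊗[R] A) : (delta (R := R) I).lTensor A z =
    Algebra.TensorProduct.map (AlgHom.id R A) (HopfQuot.tau R A I) z -
      Algebra.TensorProduct.map (AlgHom.id R A) (HopfQuot.sigma R A I) z := by
  rw [delta, LinearMap.lTensor_sub]
  rfl

lemma map_id_right_eq_ev {T₂ : Type u} [CommRing T₂] [Algebra R T₂] (f : A →ₐ[R] T₂) :
    Algebra.TensorProduct.map f (AlgHom.id R A) =
      ev (T := T₂ ⊗[R] A) (mapPt Algebra.TensorProduct.includeLeft (toConv f))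
        (toConv Algebra.TensorProduct.includeRight) := by
  apply Algebra.TensorProduct.ext <;> ext x <;> simp [ev]

lemma map_id_left_eq_ev {T₂ : Type u} [CommRing T₂] [Algebra R T₂] (f : A →ₐ[R] T₂) :
    Algebra.TensorProduct.map (AlgHom.id R A) f =
      ev (T := A ⊗[R] T₂) (toConv Algebra.TensorProduct.includeLeft)
        (mapPt Algebra.TensorProduct.includeRight (toConv f)) := by
  apply Algebra.TensorProduct.ext <;> ext x <;> simp [ev]

lemma map_tau_id : Algebra.TensorProduct.map (HopfQuot.tau R A I) (AlgHom.id R A) =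
    ev (T := (A ⊗[R] (A ⧸ I)) ⊗[R] A)
      (mapPt Algebra.TensorProduct.includeLeft (vL (R := R) I) *
        mapPt Algebra.TensorProduct.includeLeft (vN (R := R) I))
      (toConv Algebra.TensorProduct.includeRight) := by
  rw [map_id_right_eq_ev, tau_eq, toConv_ofConv, map_mul]

lemma map_sigma_id : Algebra.TensorProduct.map (HopfQuot.sigma R A I) (AlgHom.id R A) =
    ev (T := (A ⊗[R] (A ⧸ I)) ⊗[R] A)
      (mapPt Algebra.TensorProduct.includeLeft (vL (R := R) I))
      (toConv Algebra.TensorProduct.includeRight) := by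
  rw [map_id_right_eq_ev, sigma_eq, toConv_ofConv]

lemma map_id_tau : Algebra.TensorProduct.map (AlgHom.id R A) (HopfQuot.tau R A I) =
    ev (T := A ⊗[R] (A ⊗[R] (A ⧸ I))) (toConv Algebra.TensorProduct.includeLeft)
      (mapPt Algebra.TensorProduct.includeRight (vL (R := R) I) *
        mapPt Algebra.TensorProduct.includeRight (vN (R := R) I)) := by
  rw [map_id_left_eq_ev, tau_eq, toConv_ofConv, map_mul]

lemma map_id_sigma : Algebra.TensorProduct.map (AlgHom.id R A) (HopfQuot.sigma R A I) =
    ev (T := A ⊗[R] (A ⊗[R] (A ⧸ I))) (toConv Algebra.TensorProduct.includeLeft)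
      (mapPt Algebra.TensorProduct.includeRight (vL (R := R) I)) := by
  rw [map_id_left_eq_ev, sigma_eq, toConv_ofConv]

/-- A function of two variables, invariant under right translation by `N` in each variable,
lies in `B ⊗ B`. -/
theorem mem_range_of_points [Module.Flat R A] [Module.Flat R (A ⧸ I)]
    [hB : Module.Flat R (coinv (k := R) I)]
    (w : Pt R A (A ⊗[R] A)) (x : A)
    (H1 : ∀ (T : Type u) [CommRing T] [Algebra R T] (a b n : Pt R A T), Kills I n →
      (mapPt (ev (a * n) b) w).ofConv x = (mapPt (ev a b) w).ofConv x)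
    (H2 : ∀ (T : Type u) [CommRing T] [Algebra R T] (a b n : Pt R A T), Kills I n →
      (mapPt (ev a (b * n)) w).ofConv x = (mapPt (ev a b) w).ofConv x) :
    w.ofConv x ∈ LinearMap.range (TensorProduct.map
      (coinv (k := R) I).val.toLinearMap (coinv (k := R) I).val.toLinearMap) := by
  haveI : Module.Flat R (Subalgebra.toSubmodule (coinv (k := R) I)) := hB
  have h := mem_range_map_of_flat (Subalgebra.toSubmodule (coinv (k := R) I))
    (Subalgebra.toSubmodule (coinv (k := R) I)) (delta (R := R) I) (delta (R := R) I)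
    (ker_delta I) (ker_delta I) (w.ofConv x) ?_ ?_
  · obtain ⟨y, hy⟩ := h
    exact ⟨y, hy⟩
  · rw [rTensor_delta, sub_eq_zero, map_tau_id, map_sigma_id]
    exact H1 _ _ _ _ ((kills_vN I).map _)
  · rw [lTensor_delta, sub_eq_zero, map_id_tau, map_id_sigma]
    exact H2 _ _ _ _ ((kills_vN I).map _)

end Coinv

section Normal

variable {R : Type u} [CommRing R] {A : Type u} [CommRing A] [HopfAlgebra R A]
variable (I : Ideal A) [I.IsHopfIdeal R] (hI : SGA3.IsNormalHopfIdeal R A I)

include hI in
theorem antipode_mem_coinv' (x : A) (hx : x ∈ coinv (k := R) I) :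
    HopfAlgebra.antipode R x ∈ coinv (k := R) I := by
  rw [mem_coinv_iff_points] at hx ⊢
  intro T _ _ g n hn
  rw [← inv_apply, ← inv_apply, mul_inv_rev]
  have e : n⁻¹ * g⁻¹ = g⁻¹ * (g * n⁻¹ * g⁻¹) := by group
  rw [e]
  exact hx T g⁻¹ _ (Kills.conj I hI g (Kills.inv I hn))

include hI in
theorem comul_mem_coinv [Module.Flat R A] [Module.Flat R (A ⧸ I)]
    [Module.Flat R (coinv (k := R) I)] (x : A) (hx : x ∈ coinv (k := R) I) :
    Coalgebra.comul (R := R) x ∈ LinearMap.range (TensorProduct.map
      (coinv (k := R) I).val.toLinearMap (coinv (k := R) I).val.toLinearMap) := by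
  rw [comul_eq]
  apply mem_range_of_points I
  · intro T _ _ a b n hn
    rw [map_mul, mapPt_ev_uL, mapPt_ev_uR, map_mul, mapPt_ev_uL, mapPt_ev_uR]
    have e : a * n * b = (a * b) * (b⁻¹ * n * b) := by group
    rw [e]
    exact (mem_coinv_iff_points I x).1 hx T _ _ (Kills.conj' I hI b hn)
  · intro T _ _ a b n hn
    rw [map_mul, mapPt_ev_uL, mapPt_ev_uR, map_mul, mapPt_ev_uL, mapPt_ev_uR, ← mul_assoc]
    exact (mem_coinv_iff_points I x).1 hx T _ _ hn

include hI in
/-- the coinvariants of a flat normal Hopf quotient form a Hopf subalgebra. -/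
theorem isHopfSubalgebra_coinv' [Module.Flat R A] [Module.Flat R (A ⧸ I)]
    [Module.Flat R (coinv (k := R) I)] : SGA3.IsHopfSubalgebra R A (coinv (k := R) I) :=
  ⟨fun b hb => comul_mem_coinv I hI b hb, fun b hb => antipode_mem_coinv' I hI b hb⟩

end Normal

section Unram

variable {R : Type u} [CommRing R] {A : Type u} [CommRing A] [HopfAlgebra R A]
variable (e : A) (he : IsIdempotentElem e) (hε : Bialgebra.counitAlgHom R A e = 1)
  [(idl e).IsHopfIdeal R] (hI : SGA3.IsNormalHopfIdeal R A (idl e))
  (hmem : e ∈ coinv (k := R) (idl e))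

variable (R) in
/-- the diagonal idempotent `(x, y) ↦ e (x⁻¹ y)`. -/
noncomputable def diagE : A ⊗[R] A := ((uL R A)⁻¹ * uR R A).ofConv e

include hI hmem in
theorem diagE_mem [Module.Flat R A] [Module.Flat R (A ⧸ idl e)]
    [Module.Flat R (coinv (k := R) (idl e))] :
    diagE R e ∈ LinearMap.range (TensorProduct.map
      (coinv (k := R) (idl e)).val.toLinearMap (coinv (k := R) (idl e)).val.toLinearMap) := by
  apply mem_range_of_points (idl e)
  · intro T _ _ a b n hn
    rw [map_mul, map_inv, mapPt_ev_uL, mapPt_ev_uR, map_mul, map_inv, mapPt_ev_uL, mapPt_ev_uR]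
    have e1 : (a * n)⁻¹ * b = (a⁻¹ * b) * ((a⁻¹ * b)⁻¹ * n⁻¹ * (a⁻¹ * b)) := by group
    rw [e1]
    exact (mem_coinv_iff_points (idl e) e).1 hmem T _ _
      (Kills.conj' (idl e) hI _ (Kills.inv (idl e) hn))
  · intro T _ _ a b n hn
    rw [map_mul, map_inv, mapPt_ev_uL, mapPt_ev_uR, map_mul, map_inv, mapPt_ev_uL, mapPt_ev_uR,
      ← mul_assoc]
    exact (mem_coinv_iff_points (idl e) e).1 hmem T _ _ hn

include hε in
theorem lmul'_diagE : Algebra.TensorProduct.lmul' (S := A) R (diagE R e) = 1 := by
  rw [lmul'_eq, diagE, ← mapPt_apply, map_mul, map_inv, mapPt_ev_uL, mapPt_ev_uR,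
    inv_mul_cancel, one_apply, ← Bialgebra.counitAlgHom_apply, hε, map_one]

include he in
theorem sub_mul_diagE (s : A) (hs : s ∈ coinv (k := R) (idl e)) :
    ((1 : A) ⊗ₜ[R] s - s ⊗ₜ[R] (1 : A)) * diagE R e = 0 := by
  have hE : IsIdempotentElem (diagE R e) := he.map _
  let q : A ⊗[R] A →ₐ[R] (A ⊗[R] A) ⧸ Ideal.span ({1 - diagE R e} : Set (A ⊗[R] A)) :=
    Ideal.Quotient.mkₐ R _
  have hn : Kills (idl e) (mapPt q ((uL R A)⁻¹ * uR R A)) :=
    (kills_iff_one' e _).2 (by rw [mapPt_apply]; exact mk_e (diagE R e))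
  have h1 : mapPt q (uR R A) = mapPt q (uL R A) * mapPt q ((uL R A)⁻¹ * uR R A) := by
    rw [← map_mul, mul_inv_cancel_left]
  have h2 := (mem_coinv_iff_points (idl e) s).1 hs _ (mapPt q (uL R A))
    (mapPt q ((uL R A)⁻¹ * uR R A)) hn
  rw [← h1] at h2
  have h3 : q ((1 : A) ⊗ₜ[R] s - s ⊗ₜ[R] (1 : A)) = 0 := by
    rw [map_sub, sub_eq_zero]
    exact h2
  obtain ⟨c, hc⟩ := Ideal.mem_span_singleton'.1 (Ideal.Quotient.eq_zero_iff_mem.1 h3)
  rw [← hc, mul_assoc, sub_mul, one_mul, hE.eq, sub_self, mul_zero]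

include he hε hI hmem in
/-- the coinvariants of the identity component are unramified. -/
theorem formallyUnramified_coinv [Module.Flat R A] [Module.Flat R (A ⧸ idl e)]
    [Module.Flat R (coinv (k := R) (idl e))]
    [Algebra.EssFiniteType R (coinv (k := R) (idl e))] :
    Algebra.FormallyUnramified R (coinv (k := R) (idl e)) := by
  rw [Algebra.FormallyUnramified.iff_exists_tensorProduct]
  obtain ⟨t, ht⟩ := diagE_mem e hI hmem
  let j : (coinv (k := R) (idl e)) ⊗[R] (coinv (k := R) (idl e)) →ₐ[R] A ⊗[R] A :=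
    Algebra.TensorProduct.map (coinv (k := R) (idl e)).val (coinv (k := R) (idl e)).val
  have hjt : j t = diagE R e := ht
  have hinj : Function.Injective j :=
    TensorProduct.map_injective_of_flat_flat' (coinv (k := R) (idl e)).val.toLinearMap
      (coinv (k := R) (idl e)).val.toLinearMap Subtype.val_injective Subtype.val_injective
  refine ⟨t, fun s => hinj ?_, ?_⟩
  · rw [map_mul, map_zero, hjt, map_sub]
    exact sub_mul_diagE e he s s.2
  · apply Subtype.val_injective
    have hnat : (Algebra.TensorProduct.lmul' (S := A) R).comp j =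
        (coinv (k := R) (idl e)).val.comp
          (Algebra.TensorProduct.lmul' (S := coinv (k := R) (idl e)) R) := by
      apply Algebra.TensorProduct.ext <;> ext x <;> simp [j]
    have := congrArg (fun f : _ →ₐ[R] A => f t) hnat
    simp only [AlgHom.comp_apply] at this
    rw [hjt, lmul'_diagE e hε] at this
    exact this.symm

end Unram

end Groth.Agent.H40.ConnEtale
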