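import Mathlib
import Groth.Agent.H40.ConnEtaleB

/-! # The connected-étale sequence of a finite flat group scheme over a local ring (helper40)

Assembly: for a finite flat commutative Hopf algebra `A` over a Noetherian local ring `R` and an
idempotent `e` with `ε e = 1` and `A ⧸ (1 - e)` local, the coinvariants `B` of `(1 - e)` form a
Hopf subalgebra, finite étale over `R`, with `A` faithfully flat over `B` and `B⁺A = (1 - e)`. -/

set_option autoImplicit false
set_option linter.unusedSectionVars false
set_option linter.style.haveILetI false
universe u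

open TensorProduct WithConv

namespace Groth.Agent.H40.ConnEtale

open Groth.Agent.Lib.Helper84.Points Groth.Agent.Lib.Helper84.Coinv

variable {R : Type u} [CommRing R] [IsLocalRing R] [IsNoetherianRing R]
  {A : Type u} [CommRing A] [HopfAlgebra R A] [Module.Finite R A] [Module.Flat R A]
  (e : A) (he : IsIdempotentElem e) (hε : Bialgebra.counitAlgHom R A e = 1)
  [IsLocalRing (A ⧸ idl e)]

include he in
lemma projective_quot [Module.Projective R A] : Module.Projective R (A ⧸ idl e) := by
  let i : (A ⧸ idl e) →ₗ[R] A :=
    ((idl e).restrictScalars R).liftQ (LinearMap.mulLeft R e) (by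
      intro a ha
      obtain ⟨c, rfl⟩ := Ideal.mem_span_singleton'.1 ha
      rw [LinearMap.mem_ker, LinearMap.mulLeft_apply, mul_comm c, ← mul_assoc, mul_sub, mul_one,
        he.eq, sub_self, zero_mul])
  let s : A →ₗ[R] (A ⧸ idl e) := (Ideal.Quotient.mkₐ R (idl e)).toLinearMap
  refine Module.Projective.of_split i s (LinearMap.ext fun x => ?_)
  obtain ⟨a, rfl⟩ := Ideal.Quotient.mk_surjective x
  change Ideal.Quotient.mk (idl e) (e * a) = Ideal.Quotient.mk (idl e) a
  rw [map_mul, mk_e, one_mul]

include he hε in
theorem main (B : Subalgebra R A) (hB : B = coinv (k := R) (idl e)) :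
    SGA3.IsHopfSubalgebra R A B ∧ Algebra.Etale R B ∧ Module.FaithfullyFlat B A ∧
      SGA3.augIdealSpan R A B = idl e := by
  subst hB
  haveI : Algebra.IsIntegral R A := inferInstance
  haveI hH : (idl e).IsHopfIdeal R := isHopfIdeal e he hε
  have hN := isNormal e he hε
  have hmem := e_mem_coinv e he hε
  haveI : Module.Free R A := Module.free_of_flat_of_isLocalRing
  haveI : Module.Projective R A := inferInstance
  haveI : Module.Projective R (A ⧸ idl e) := projective_quot e he
  set C := coinv (k := R) (idl e) with hC
  have hinjC : Function.Injective (algebraMap C A) := Subtype.val_injective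
  obtain ⟨hCfin, hCflat, ψ, hψ, hbij⟩ := HopfQuot.quotient_theorem' R A (idl e) (C := C) hinjC
    (fun a => ⟨fun h => ⟨⟨a, h⟩, rfl⟩, by rintro ⟨z, rfl⟩; exact z.2⟩)
  have : FaithfulSMul C A := (faithfulSMul_iff_algebraMap_injective C A).mpr hinjC
  have : Algebra.IsIntegral C A := inferInstance
  have hff : Module.FaithfullyFlat C A :=
    Module.FaithfullyFlat.of_comap_surjective (Algebra.IsIntegral.comap_surjective C A)
  haveI hRC : Module.Flat R C := RankTrans.flat_of_comp R C A
  haveI hfinC : Module.Finite R C := by
    have : IsNoetherian R A := isNoetherian_of_isNoetherianRing_of_finite R A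
    exact Module.Finite.of_injective (C.val.toLinearMap) Subtype.val_injective
  haveI : Algebra.FiniteType R C := inferInstance
  haveI : Algebra.FinitePresentation R C := Algebra.FinitePresentation.of_finiteType.mp inferInstance
  haveI : Algebra.FormallyUnramified R C := formallyUnramified_coinv e he hε hN hmem
  refine ⟨isHopfSubalgebra_coinv' (idl e) hN, Algebra.Etale.of_formallyUnramified_of_flat, hff, ?_⟩
  refine le_antisymm (augIdealSpan_coinv_le (idl e)) ?_
  rw [Ideal.span_le, Set.singleton_subset_iff]
  refine Ideal.subset_span ⟨C.sub_mem C.one_mem hmem, ?_⟩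
  have := hε
  rw [Bialgebra.counitAlgHom_apply] at this
  rw [map_sub, this, Bialgebra.counit_one, sub_self]

end Groth.Agent.H40.ConnEtale
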