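import Groth.Agent.H40.GLnRed

/-! Helper lemmas (helper40): the grading of the coordinate ring of `GL_n` by the scalar torus, and
the exhaustion of each graded piece by the spaces `Dinv^c · (degree a polynomials)`. -/

set_option autoImplicit false
universe u

open TensorProduct CoordGrp LaurentPolynomial

namespace Groth.Agent.H40

section Degree

variable (n : ℕ) (k : Type u) [Field k]

/-- The generators `(∏ X (I t) (J t)) · Dinv^c` of the coordinate ring of `GL_n`. -/
noncomputable def ygen (a c : ℕ) (I J : Fin a → Fin n) : GLn n k :=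
  xxPow (fun i j => (GLn.X i j : GLn n k)) a I J * (GLn.Dinv : GLn n k) ^ c

/-- The scalar one-parameter subgroup. -/
noncomputable def sc : GLn n k →ₐc[k] k[T;T⁻¹] := GLn.diag n k (fun _ => 1)

/-- The degree coaction `(id ⊗ sc) ∘ Δ`. -/
noncomputable def gam : GLn n k →ₐ[k] GLn n k ⊗[k] k[T;T⁻¹] :=
  (Algebra.TensorProduct.map (AlgHom.id k (GLn n k)) (sc n k : GLn n k →ₐ[k] k[T;T⁻¹])).comp
    (Bialgebra.comulAlgHom k (GLn n k))

theorem gam_apply (g : GLn n k) :
    gam n k g = TensorProduct.map LinearMap.id ((sc n k : GLn n k →ₐ[k] k[T;T⁻¹]).toLinearMap)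
      (CoalgebraStruct.comul (R := k) g) := rfl

theorem gam_X (i j : Fin n) : gam n k (GLn.X i j) = (GLn.X i j : GLn n k) ⊗ₜ[k] T 1 := by
  classical
  rw [gam_apply, GLn.comul_X, map_sum]
  simp only [TensorProduct.map_tmul, LinearMap.id_apply, AlgHom.toLinearMap_apply]
  rw [Finset.sum_eq_single j]
  · change _ ⊗ₜ[k] (GLn.diag n k (fun _ => 1) (GLn.X j j)) = _
    rw [GLn.diag_X, if_pos rfl]
  · intro l _ hl
    change _ ⊗ₜ[k] (GLn.diag n k (fun _ => 1) (GLn.X l j)) = _
    rw [GLn.diag_X, if_neg hl, TensorProduct.tmul_zero]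
  · intro h
    exact (h (Finset.mem_univ j)).elim

theorem gam_Dinv : gam n k (GLn.Dinv : GLn n k) = (GLn.Dinv : GLn n k) ⊗ₜ[k] T (-(n : ℤ)) := by
  rw [gam_apply, GLn.comul_Dinv, TensorProduct.map_tmul, LinearMap.id_apply,
    AlgHom.toLinearMap_apply]
  change _ ⊗ₜ[k] (GLn.diag n k (fun _ => 1) GLn.Dinv) = _
  rw [GLn.diag_Dinv]
  simp

theorem prod_tmul_prod {R A B : Type*} [CommSemiring R] [CommSemiring A] [Algebra R A]
    [CommSemiring B] [Algebra R B] {ι : Type*} (s : Finset ι) (u : ι → A) (w : ι → B) :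
    ∏ t ∈ s, (u t ⊗ₜ[R] w t) = (∏ t ∈ s, u t) ⊗ₜ[R] (∏ t ∈ s, w t) := by
  classical
  induction s using Finset.induction_on with
  | empty => simp [Algebra.TensorProduct.one_def]
  | insert a s ha ih =>
    rw [Finset.prod_insert ha, Finset.prod_insert ha, Finset.prod_insert ha, ih,
      Algebra.TensorProduct.tmul_mul_tmul]

theorem gam_ygen (a c : ℕ) (I J : Fin a → Fin n) :
    gam n k (ygen n k a c I J) = ygen n k a c I J ⊗ₜ[k] T ((a : ℤ) - n * c) := by
  unfold ygen xxPow
  rw [map_mul, map_prod, map_pow, gam_Dinv]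
  simp only [gam_X]
  rw [prod_tmul_prod, Algebra.TensorProduct.tmul_pow, Algebra.TensorProduct.tmul_mul_tmul,
    GLn.prod_T, T_pow, ← T_add]
  congr 2
  simp
  ring

/-- The coefficient of `T^h`. -/
noncomputable def coeffT (h : ℤ) : k[T;T⁻¹] →ₗ[k] k :=
  (Finsupp.lapply h) ∘ₗ (AddMonoidAlgebra.coeffLinearEquiv k (S := k) (M := ℤ)).toLinearMap

theorem coeffT_T (h m : ℤ) : coeffT k h (T m) = if m = h then 1 else 0 := by
  simp [coeffT]

/-- The projection to the degree `h` part. -/
noncomputable def degProj (h : ℤ) : GLn n k →ₗ[k] GLn n k :=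
  (TensorProduct.rid k (GLn n k)).toLinearMap ∘ₗ
    (LinearMap.lTensor (GLn n k) (coeffT k h)) ∘ₗ (gam n k).toLinearMap

theorem degProj_of_gam (h : ℤ) (g : GLn n k) (w : ℤ) (hg : gam n k g = g ⊗ₜ[k] T w) :
    degProj n k h g = if w = h then g else 0 := by
  unfold degProj
  rw [LinearMap.comp_apply, LinearMap.comp_apply, AlgHom.toLinearMap_apply, hg,
    LinearMap.lTensor_tmul, coeffT_T, LinearEquiv.coe_coe, TensorProduct.rid_tmul]
  split_ifs <;> simp

theorem xxPow_append {A : Type*} [CommRing A] {ι : Type*} (x : ι → ι → A) (a b : ℕ)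
    (I J : Fin a → ι) (I' J' : Fin b → ι) :
    xxPow x (a + b) (Fin.append I I') (Fin.append J J') = xxPow x a I J * xxPow x b I' J' := by
  unfold xxPow
  rw [Fin.prod_univ_add]
  simp

/-- The span of the generators of degree `h` with denominator exponent `c`. -/
noncomputable def Rdeg (h : ℤ) (c : ℕ) : Submodule k (GLn n k) :=
  Submodule.span k {y | ∃ (a : ℕ) (I J : Fin a → Fin n), (a : ℤ) = h + n * c ∧ y = ygen n k a c I J}

theorem ygen_mem_Rdeg_succ (h : ℤ) (c a : ℕ) (I J : Fin a → Fin n) (ha : (a : ℤ) = h + n * c) :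
    ygen n k a c I J ∈ Rdeg n k h (c + 1) := by
  classical
  have h1 : ygen n k a c I J = xxPow (fun i j => (GLn.X i j : GLn n k)) a I J *
      (GLn.det : GLn n k) * (GLn.Dinv : GLn n k) ^ (c + 1) := by
    unfold ygen
    rw [pow_succ]
    calc _ = xxPow (fun i j => (GLn.X i j : GLn n k)) a I J * GLn.Dinv ^ c *
        ((GLn.det : GLn n k) * GLn.Dinv) := by rw [GLn.det_mul_Dinv, mul_one]
      _ = _ := by ring
  have h2 : xxPow (fun i j => (GLn.X i j : GLn n k)) a I J * (GLn.det : GLn n k) =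
      ∑ σ : Equiv.Perm (Fin n), Equiv.Perm.sign σ •
        xxPow (fun i j => (GLn.X i j : GLn n k)) (a + n) (Fin.append I σ) (Fin.append J id) := by
    rw [GLn.det_eq, Matrix.det_apply, Finset.mul_sum]
    refine Finset.sum_congr rfl fun σ _ => ?_
    rw [xxPow_append, mul_smul_comm]
    rfl
  rw [h1, h2, Finset.sum_mul]
  refine Submodule.sum_mem _ fun σ _ => ?_
  rw [smul_mul_assoc]
  have hmem : xxPow (fun i j => (GLn.X i j : GLn n k)) (a + n) (Fin.append I σ) (Fin.append J id) *
      (GLn.Dinv : GLn n k) ^ (c + 1) ∈ Rdeg n k h (c + 1) := by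
    apply Submodule.subset_span
    refine ⟨a + n, Fin.append I σ, Fin.append J id, ?_, rfl⟩
    push_cast
    rw [ha]
    ring
  rw [Units.smul_def]
  exact Submodule.smul_of_tower_mem _ _ hmem

theorem Rdeg_mono_succ (h : ℤ) (c : ℕ) : Rdeg n k h c ≤ Rdeg n k h (c + 1) := by
  apply Submodule.span_le.2
  rintro y ⟨a, I, J, ha, rfl⟩
  exact ygen_mem_Rdeg_succ n k h c a I J ha

theorem Rdeg_mono (h : ℤ) : Monotone (Rdeg n k h) :=
  monotone_nat_of_le_succ (Rdeg_mono_succ n k h)

/-- The generators span the coordinate ring. -/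
theorem span_ygen_eq_top :
    Submodule.span k {y : GLn n k | ∃ (a c : ℕ) (I J : Fin a → Fin n), y = ygen n k a c I J} = ⊤ := by
  set P : Submodule k (GLn n k) :=
    Submodule.span k {y : GLn n k | ∃ (a c : ℕ) (I J : Fin a → Fin n), y = ygen n k a c I J} with hP
  have hmulx : ∀ i j, ∀ p ∈ P, p * (GLn.X i j : GLn n k) ∈ P := by
    intro i j p hp
    induction hp using Submodule.span_induction with
    | mem y hy =>
      obtain ⟨a, c, I, J, rfl⟩ := hy
      apply Submodule.subset_span
      refine ⟨a + 1, c, Fin.snoc I i, Fin.snoc J j, ?_⟩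
      unfold ygen
      rw [xxPow_snoc_snoc]
      ring
    | zero => rw [zero_mul]; exact Submodule.zero_mem _
    | add y z _ _ hy hz => rw [add_mul]; exact Submodule.add_mem _ hy hz
    | smul r y _ hy => rw [smul_mul_assoc]; exact Submodule.smul_mem _ _ hy
  have hmulg : ∀ p ∈ P, p * (GLn.Dinv : GLn n k) ∈ P := by
    intro p hp
    induction hp using Submodule.span_induction with
    | mem y hy =>
      obtain ⟨a, c, I, J, rfl⟩ := hy
      apply Submodule.subset_span
      refine ⟨a, c + 1, I, J, ?_⟩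
      unfold ygen
      rw [pow_succ]
      ring
    | zero => rw [zero_mul]; exact Submodule.zero_mem _
    | add y z _ _ hy hz => rw [add_mul]; exact Submodule.add_mem _ hy hz
    | smul r y _ hy => rw [smul_mul_assoc]; exact Submodule.smul_mem _ _ hy
  let B : Subalgebra k (GLn n k) :=
    { carrier := {b | ∀ p ∈ P, p * b ∈ P}
      mul_mem' := by
        intro b b' hb hb' p hp
        rw [← mul_assoc]
        exact hb' _ (hb p hp)
      add_mem' := by
        intro b b' hb hb' p hp
        rw [mul_add]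
        exact Submodule.add_mem _ (hb p hp) (hb' p hp)
      algebraMap_mem' := by
        intro r p hp
        rw [mul_comm, ← Algebra.smul_def]
        exact Submodule.smul_mem _ _ hp }
  have hB : B = ⊤ := GLn_subalgebra_eq_top B (fun i j => hmulx i j) hmulg
  have h1 : (1 : GLn n k) ∈ P := by
    apply Submodule.subset_span
    refine ⟨0, 0, Fin.elim0, Fin.elim0, ?_⟩
    simp [ygen, xxPow]
  rw [eq_top_iff]
  intro y _
  have hy : y ∈ B := by rw [hB]; exact Algebra.mem_top
  have := hy 1 h1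
  rw [one_mul] at this
  exact this

/-- An element of degree `h` lies in some `Rdeg h c`. -/
theorem mem_iSup_Rdeg (h : ℤ) (g : GLn n k) (hg : gam n k g = g ⊗ₜ[k] T h) :
    g ∈ ⨆ c, Rdeg n k h c := by
  have h1 : degProj n k h g = g := by rw [degProj_of_gam n k h g h hg, if_pos rfl]
  have h2 : g ∈ Submodule.span k
      {y : GLn n k | ∃ (a c : ℕ) (I J : Fin a → Fin n), y = ygen n k a c I J} := by
    rw [span_ygen_eq_top]
    exact Submodule.mem_top
  rw [← h1]
  have h3 : Submodule.span k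
      {y : GLn n k | ∃ (a c : ℕ) (I J : Fin a → Fin n), y = ygen n k a c I J} ≤
      (⨆ c, Rdeg n k h c).comap (degProj n k h) := by
    apply Submodule.span_le.2
    rintro y ⟨a, c, I, J, rfl⟩
    change degProj n k h (ygen n k a c I J) ∈ ⨆ c, Rdeg n k h c
    rw [degProj_of_gam n k h _ _ (gam_ygen n k a c I J)]
    split_ifs with hw
    · apply Submodule.mem_iSup_of_mem c
      apply Submodule.subset_span
      refine ⟨a, I, J, ?_, rfl⟩
      rw [← hw]
      ring
    · exact Submodule.zero_mem _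
  exact h3 h2

/-- A finitely generated space of elements of degree `h` lies in a single `Rdeg h c`, `c > 0`. -/
theorem exists_le_Rdeg (h : ℤ) (N : Submodule k (GLn n k)) (hN : N.FG)
    (hdeg : ∀ g ∈ N, gam n k g = g ⊗ₜ[k] T h) :
    ∃ c : ℕ, 0 < c ∧ N ≤ Rdeg n k h c := by
  have hle : N ≤ ⨆ c, Rdeg n k h c := fun g hg => mem_iSup_Rdeg n k h g (hdeg g hg)
  have hcomp := (Submodule.fg_iff_compact N).1 hN
  obtain ⟨s, hs⟩ := CompleteLattice.IsCompactElement.exists_finset_of_le_iSup _ hcomp _ hle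
  refine ⟨s.sup id + 1, Nat.succ_pos _, hs.trans ?_⟩
  apply iSup_le
  intro c
  apply iSup_le
  intro hc
  apply Rdeg_mono n k h
  have : c ≤ s.sup id := Finset.le_sup (f := id) hc
  omega

end Degree

end Groth.Agent.H40
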