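import Mathlib

/-! # Algebra lemmas for equivariant thickenings (helper40)

* `exists_finset_isIntegral`: lifting integrality along a surjection.
* `quasiFinite_of_forall_quasiFiniteAt`: finite type and quasi-finite at all primes implies
  quasi-finite.
* `quasiFinite_localization_away`: quasi-finiteness of a localization from the Zariski main
  property at the relevant primes. -/

set_option autoImplicit false
universe u v w

namespace Groth.Agent.H40.EqThick1

open Polynomial

/-- Lifting integrality along a surjection: if `π b'` is integral over `S`, then `b'` is integral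
over every ring mapping to `P` whose image contains a certain finite subset of
`π⁻¹(image of S)`. -/
theorem exists_finset_isIntegral {S : Type u} {P : Type v} {R : Type w} [CommRing S] [CommRing P]
    [CommRing R] [Algebra S R] [Nontrivial R] (π : P →+* R) (hπ : Function.Surjective π)
    (b' : P) (hb : IsIntegral S (π b')) :
    ∃ C : Finset P, (∀ c ∈ C, π c ∈ (algebraMap S R).range) ∧
      ∀ (B : Type v) [CommRing B] [Algebra B P],
        (∀ c ∈ C, c ∈ (algebraMap B P).range) → IsIntegral B b' := by
  classical
  obtain ⟨f, hfm, hfr⟩ := hb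
  set p : R[X] := f.map (algebraMap S R) with hp
  have hpm : p.Monic := hfm.map _
  have hproot : p.eval (π b') = 0 := by rw [hp, eval_map]; exact hfr
  have hlift : p ∈ lifts π := by
    rw [lifts_iff_ringHom_rangeS, RingHom.mem_rangeS]
    exact map_surjective π hπ p
  obtain ⟨g, hg1, hg2, hgm⟩ := lifts_and_natDegree_eq_and_monic hlift hpm
  set e : P := g.eval b' with he
  have hπe : π e = 0 := by
    rw [he, ← eval_map_apply, hg1]
    exact hproot
  have hdeg : 0 < g.natDegree := by
    rw [hg2]
    by_contra hcon
    have h0 : p.natDegree = 0 := by omega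
    have h1 : p = 1 := hpm.natDegree_eq_zero.mp h0
    rw [h1, eval_one] at hproot
    exact one_ne_zero hproot
  refine ⟨insert e g.coeffs, ?_, ?_⟩
  · intro c hc
    rcases Finset.mem_insert.mp hc with rfl | hc
    · rw [hπe]; exact Subring.zero_mem _
    · obtain ⟨n, -, rfl⟩ := by simpa [coeffs] using hc
      have : π (g.coeff n) = p.coeff n := by rw [← hg1, coeff_map]
      rw [this, hp, coeff_map]
      exact ⟨_, rfl⟩
  · intro B _ _ hCB
    have heB : e ∈ (algebraMap B P).range := hCB e (by simp)
    have hgB : ∀ n, g.coeff n ∈ (algebraMap B P).range := by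
      intro n
      by_cases h0 : g.coeff n = 0
      · rw [h0]; exact Subring.zero_mem _
      · exact hCB _ (by simpa using Or.inr (coeff_mem_coeffs h0))
    set q : P[X] := g - C e with hq
    have hqm : q.Monic := by
      apply hgm.sub_of_left
      calc (C e).degree ≤ 0 := degree_C_le
        _ < g.degree := natDegree_pos_iff_degree_pos.mp hdeg
    have hqB : q ∈ lifts (algebraMap B P) := by
      rw [lifts_iff_coeff_lifts]
      intro n
      rw [hq, coeff_sub]
      have h1 : (C e).coeff n ∈ (algebraMap B P).range := by
        rw [coeff_C]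
        split_ifs
        · exact heB
        · exact Subring.zero_mem _
      exact Subring.sub_mem _ (hgB n) h1
    obtain ⟨qB, hqB1, -, hqBm⟩ := lifts_and_natDegree_eq_and_monic hqB hqm
    refine ⟨qB, hqBm, ?_⟩
    rw [← eval_map, hqB1, hq, eval_sub, eval_C, he, sub_self]

/-- A finite type algebra that is quasi-finite at all primes is quasi-finite. -/
theorem quasiFinite_of_forall_quasiFiniteAt {R : Type u} {S : Type v} [CommRing R] [CommRing S]
    [Algebra R S] [Algebra.FiniteType R S]
    (H : ∀ (q : Ideal S) [q.IsPrime], Algebra.QuasiFiniteAt R q) : Algebra.QuasiFinite R S := by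
  rw [Algebra.QuasiFinite.iff_finite_comap_preimage_singleton]
  intro p
  have hdisc : DiscreteTopology (PrimeSpectrum.comap (algebraMap R S) ⁻¹' {p}) := by
    rw [discreteTopology_iff_isOpen_singleton]
    rintro ⟨q, hq⟩
    have hq' : PrimeSpectrum.comap (algebraMap R S) q = p := hq
    subst hq'
    exact (Algebra.quasiFiniteAt_iff_isOpen_singleton_fiber q).mp (H q.asIdeal)
  have hcomp : CompactSpace (PrimeSpectrum.comap (algebraMap R S) ⁻¹' {p}) :=
    (PrimeSpectrum.preimageHomeomorphFiber R S p).symm.compactSpace
  exact Set.finite_coe_iff.mp finite_of_compact_of_discrete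

/-- Quasi-finiteness of a localization away from `h` when the Zariski main property holds at all
primes not containing `h`. -/
theorem quasiFinite_localization_away {S' : Type u} {P : Type v} {L : Type w} [CommRing S']
    [CommRing P] [CommRing L] [Algebra S' P] [Algebra.FiniteType S' P] [Algebra P L] [Algebra S' L]
    [IsScalarTower S' P L] (h : P) [IsLocalization.Away h L]
    (H : ∀ (q : Ideal P) [q.IsPrime], h ∉ q →
      ∃ r ∉ q, ∀ x : P, ∃ m : ℕ, IsIntegral S' (r ^ m * x)) :
    Algebra.QuasiFinite S' L := by
  have h0 : Algebra.FinitePresentation P L := IsLocalization.Away.finitePresentation h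
  have h1 : Algebra.FiniteType P L := Algebra.FiniteType.of_finitePresentation
  have h2 : Algebra.FiniteType S' L := Algebra.FiniteType.trans (S := P) inferInstance h1
  apply quasiFinite_of_forall_quasiFiniteAt
  intro q' hq'
  let q : Ideal P := q'.under P
  have hqprime : q.IsPrime := inferInstance
  have hhq : h ∉ q := by
    intro hmem
    have : algebraMap P L h ∈ q' := hmem
    exact hq'.ne_top (Ideal.eq_top_of_isUnit_mem _ this (IsLocalization.Away.algebraMap_isUnit h))
  obtain ⟨r, hr, hx⟩ := H q hhq
  have hzmp : Algebra.ZariskisMainProperty S' q := Algebra.zariskisMainProperty_iff'.mpr ⟨r, hr, hx⟩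
  have hqf : Algebra.QuasiFiniteAt S' q := hzmp.quasiFiniteAt
  have hlo : q'.LiesOver q := ⟨rfl⟩
  exact Algebra.QuasiFiniteAt.of_surjectiveOnStalks_of_liesOver q
    (RingHom.surjectiveOnStalks_of_isLocalization (M := Submonoid.powers h) L) q'

end Groth.Agent.H40.EqThick1
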