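import Mathlib
import Groth.Prelude.Def_GLin
import Groth.Agent.H40.Comod
import Groth.Agent.Lib.Helper59.PointsOfFT

/-! # Subcomodules from stability under rational points (helper40)

Over an algebraically closed field `k`, for a finitely generated reduced Hopf algebra `A`, a
`k`-subspace of a comodule that is stable under all rational points is a subcomodule.  Applied to
the integral closure of an equivariant map of coaction algebras. -/

set_option autoImplicit false
set_option linter.unusedSectionVars false
universe u v w
open TensorProduct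

namespace Groth.Agent.H40.EqZMT2

open Groth.Agent.H40

section Sep

/-- Rational points separate the elements of a reduced finitely generated algebra over an
algebraically closed field. -/
theorem eq_zero_of_forall_algHom (k : Type u) [Field k] [IsAlgClosed k] (A : Type v) [CommRing A]
    [Algebra k A] [Algebra.FiniteType k A] [IsReduced A] (a : A)
    (h : ∀ g : A →ₐ[k] k, g a = 0) : a = 0 := by
  by_contra ha
  have hJ : IsJacobsonRing A := isJacobsonRing_of_finiteType (A := k) (B := A)
  have hrad : (⊥ : Ideal A).radical = (⊥ : Ideal A).jacobson := Ideal.radical_eq_jacobson _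
  have hnot : a ∉ (⊥ : Ideal A).jacobson := by
    rw [← hrad]
    intro hmem
    have : IsNilpotent a := by
      obtain ⟨n, hn⟩ := hmem
      exact ⟨n, by simpa using hn⟩
    exact ha (IsReduced.eq_zero a this)
  rw [Ideal.jacobson, Ideal.mem_sInf] at hnot
  push Not at hnot
  obtain ⟨m, ⟨-, hm⟩, ham⟩ := hnot
  obtain ⟨x, hx⟩ := Groth.Agent.Lib.Helper59.exists_algHom_ker_eq_of_isMaximal k A m
  apply ham
  rw [← hx]
  exact h x

end Sep

section Sub

variable {k : Type u} [Field k] {A : Type v} [CommRing A] [Bialgebra k A]
  {V : Type w} [AddCommGroup V] [Module k V] [HopfRep.Comod k A V]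

theorem mem_range_iff_forall_slice (W : Submodule k V) (t : V ⊗[k] A) :
    t ∈ LinearMap.range (LinearMap.rTensor A W.subtype) ↔
      ∀ ψ : A →ₗ[k] k, slice ψ t ∈ W :=
  ⟨fun h ψ => slice_mem_of_mem_range W t h ψ,
    fun h => mem_range_rTensor_subtype_of_forall_slice W t h⟩

theorem act_eq_slice (g : A →ₐ[k] k) (v : V) :
    HopfRep.Comod.act k A V g v =
      slice g.toLinearMap (HopfRep.Comod.coact (k := k) (A := A) v) := rfl

/-- A subspace stable under all rational points is a subcomodule, when the rational points
separate the elements of `A`. -/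
theorem isSubcomod_of_act_mem (hA : ∀ a : A, (∀ g : A →ₐ[k] k, g a = 0) → a = 0)
    (P : Submodule k V)
    (hP : ∀ (g : A →ₐ[k] k), ∀ v ∈ P, HopfRep.Comod.act k A V g v ∈ P) :
    HopfRep.IsSubcomod (k := k) (A := A) P := by
  intro v hv
  have hex := rTensor_exact A (LinearMap.exact_subtype_mkQ P) (Submodule.mkQ_surjective P)
  refine (hex (HopfRep.Comod.coact (k := k) (A := A) v)).mp ?_
  refine tensor_eq_zero_of_lTensor_eq_zero
    (Set.range (fun g : A →ₐ[k] k => g.toLinearMap)) ?_ _ ?_
  · intro a ha
    exact hA a (fun g => ha _ ⟨g, rfl⟩)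
  · rintro _ ⟨g, rfl⟩
    have h1 : LinearMap.lTensor (V ⧸ P) g.toLinearMap
        (LinearMap.rTensor A P.mkQ (HopfRep.Comod.coact (k := k) (A := A) v)) =
        LinearMap.rTensor k P.mkQ (LinearMap.lTensor V g.toLinearMap
          (HopfRep.Comod.coact (k := k) (A := A) v)) := by
      generalize HopfRep.Comod.coact (k := k) (A := A) v = t
      induction t using TensorProduct.induction_on with
      | zero => simp
      | tmul x y => simp
      | add x y hx hy => simp only [map_add, hx, hy]
    rw [h1]
    have h2 : LinearMap.lTensor V g.toLinearMap (HopfRep.Comod.coact (k := k) (A := A) v) =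
        (TensorProduct.rid k V).symm (HopfRep.Comod.act k A V g v) := by
      rw [LinearEquiv.eq_symm_apply]
      rfl
    rw [h2, TensorProduct.rid_symm_apply, LinearMap.rTensor_tmul]
    have : P.mkQ (HopfRep.Comod.act k A V g v) = 0 := by
      rw [Submodule.mkQ_apply, Submodule.Quotient.mk_eq_zero]
      exact hP g v hv
    rw [this, TensorProduct.zero_tmul]

theorem isSubcomod_inf (P Q : Submodule k V) (hP : HopfRep.IsSubcomod (k := k) (A := A) P)
    (hQ : HopfRep.IsSubcomod (k := k) (A := A) Q) :
    HopfRep.IsSubcomod (k := k) (A := A) (P ⊓ Q) := by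
  intro v hv
  rw [mem_range_iff_forall_slice]
  intro ψ
  exact ⟨(mem_range_iff_forall_slice P _).mp (hP v hv.1) ψ,
    (mem_range_iff_forall_slice Q _).mp (hQ v hv.2) ψ⟩

theorem isSubcomod_sup (P Q : Submodule k V) (hP : HopfRep.IsSubcomod (k := k) (A := A) P)
    (hQ : HopfRep.IsSubcomod (k := k) (A := A) Q) :
    HopfRep.IsSubcomod (k := k) (A := A) (P ⊔ Q) := by
  intro v hv
  obtain ⟨p, hp, q, hq, rfl⟩ := Submodule.mem_sup.mp hv
  rw [mem_range_iff_forall_slice]
  intro ψ
  rw [map_add, map_add]
  exact Submodule.add_mem _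
    (le_sup_left (a := P) (b := Q) ((mem_range_iff_forall_slice P _).mp (hP p hp) ψ))
    (le_sup_right (a := P) (b := Q) ((mem_range_iff_forall_slice Q _).mp (hQ q hq) ψ))

theorem isSubcomod_bot : HopfRep.IsSubcomod (k := k) (A := A) (⊥ : Submodule k V) := by
  intro v hv
  rw [(Submodule.mem_bot k).mp hv, map_zero]
  exact Submodule.zero_mem _

/-- Every finite subset of a comodule lies in a finite-dimensional subcomodule. -/
theorem exists_finite_subcomod_subset (F : Finset V) :
    ∃ W : Submodule k V, Module.Finite k W ∧ (F : Set V) ⊆ W ∧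
      HopfRep.IsSubcomod (k := k) (A := A) W := by
  classical
  induction F using Finset.induction_on with
  | empty => exact ⟨⊥, inferInstance, by simp, isSubcomod_bot⟩
  | insert a F _ ih =>
    obtain ⟨W, hWfin, hFW, hW⟩ := ih
    obtain ⟨W', hW'fin, haW', hW'⟩ := exists_finite_subcomod_mem (k := k) (C := A) a
    refine ⟨W' ⊔ W, inferInstance, ?_, isSubcomod_sup W' W hW' hW⟩
    intro x hx
    rw [Finset.coe_insert] at hx
    rcases hx with rfl | hx
    · exact le_sup_left (a := W') (b := W) haW'
    · exact le_sup_right (a := W') (b := W) (hFW hx)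

end Sub

end Groth.Agent.H40.EqZMT2
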