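import Mathlib
import Groth.Prelude.Def_GLin
import Groth.Prelude.Def_ComodSub
import Groth.Agent.H40.EqZMT2

/-! # Stable subalgebras of coaction algebras (helper40)

The action of rational points on a coaction algebra by algebra maps, stability of the integral
closure of an equivariant map, and the induced coaction on a stable subalgebra. -/

set_option autoImplicit false
set_option linter.unusedSectionVars false
universe u v w w'
open TensorProduct

namespace Groth.Agent.H40.EqZMT3

open Groth.Agent.H40 Groth.Agent.H40.EqZMT2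

section Gen

variable {k : Type u} [Field k] {A : Type v} [AddCommGroup A] [Module k A]
  {V : Type w} [AddCommGroup V] [Module k V] {U : Type w'} [AddCommGroup U] [Module k U]

theorem range_rTensor_eq (f : U →ₗ[k] V) :
    LinearMap.range (LinearMap.rTensor A f) =
      LinearMap.range (LinearMap.rTensor A (LinearMap.range f).subtype) := by
  have hf : f = (LinearMap.range f).subtype ∘ₗ f.rangeRestrict := by
    ext x; rfl
  conv_lhs => rw [hf, LinearMap.rTensor_comp, LinearMap.range_comp,
    LinearMap.range_eq_top.mpr (LinearMap.rTensor_surjective A f.surjective_rangeRestrict),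
    Submodule.map_top]

theorem mem_range_rTensor_iff (f : U →ₗ[k] V) (t : V ⊗[k] A) :
    t ∈ LinearMap.range (LinearMap.rTensor A f) ↔
      ∀ ψ : A →ₗ[k] k, slice ψ t ∈ LinearMap.range f := by
  rw [range_rTensor_eq]
  constructor
  · intro h ψ
    exact slice_mem_of_mem_range _ t h ψ
  · intro h
    exact mem_range_rTensor_subtype_of_forall_slice _ t h

end Gen

section Act

variable {k : Type u} [Field k] {A : Type v} [CommRing A] [Bialgebra k A]
  {R : Type w} [CommRing R] [Algebra k R] [HopfRep.Comod k A R] [GLin.IsCoactAlg k A R]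

/-- The action of a rational point, as an algebra map. -/
noncomputable def actAlgHom (g : A →ₐ[k] k) : R →ₐ[k] R :=
  (Algebra.TensorProduct.rid k k R).toAlgHom.comp
    ((Algebra.TensorProduct.map (AlgHom.id k R) g).comp (GLin.coactAlgHom k A R))

theorem actAlgHom_apply (g : A →ₐ[k] k) (x : R) :
    actAlgHom g x = HopfRep.Comod.act k A R g x := rfl

variable {S : Type w'} [CommRing S] [Algebra k S] [HopfRep.Comod k A S] [GLin.IsCoactAlg k A S]
  [Algebra S R] [IsScalarTower k S R]

theorem act_algebraMap
    (hequiv : ∀ s : S, HopfRep.Comod.coact (k := k) (A := A) (algebraMap S R s) =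
      Algebra.TensorProduct.map (IsScalarTower.toAlgHom k S R) (AlgHom.id k A)
        (HopfRep.Comod.coact (k := k) (A := A) s))
    (g : A →ₐ[k] k) (s : S) :
    HopfRep.Comod.act k A R g (algebraMap S R s) =
      algebraMap S R (HopfRep.Comod.act k A S g s) := by
  unfold HopfRep.Comod.act
  simp only [LinearMap.comp_apply, LinearEquiv.coe_coe]
  rw [hequiv]
  generalize HopfRep.Comod.coact (k := k) (A := A) s = t
  induction t using TensorProduct.induction_on with
  | zero => simp
  | tmul a b =>
    simp [Algebra.smul_def, IsScalarTower.algebraMap_apply k S R]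
  | add a b ha hb => simp only [map_add, ha, hb]

theorem isIntegral_act
    (hequiv : ∀ s : S, HopfRep.Comod.coact (k := k) (A := A) (algebraMap S R s) =
      Algebra.TensorProduct.map (IsScalarTower.toAlgHom k S R) (AlgHom.id k A)
        (HopfRep.Comod.coact (k := k) (A := A) s))
    (g : A →ₐ[k] k) {b : R} (hb : IsIntegral S b) :
    IsIntegral S (HopfRep.Comod.act k A R g b) := by
  have h : (algebraMap S R).comp (actAlgHom (R := S) g).toRingHom =
      (actAlgHom (R := R) g).toRingHom.comp (algebraMap S R) := by
    apply RingHom.ext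
    intro s
    exact (act_algebraMap hequiv g s).symm
  exact IsIntegral.map_of_comp_eq _ _ h hb

/-- The integral closure of an equivariant map is a subcomodule. -/
theorem isSubcomod_integralClosure (hA : ∀ a : A, (∀ g : A →ₐ[k] k, g a = 0) → a = 0)
    (hequiv : ∀ s : S, HopfRep.Comod.coact (k := k) (A := A) (algebraMap S R s) =
      Algebra.TensorProduct.map (IsScalarTower.toAlgHom k S R) (AlgHom.id k A)
        (HopfRep.Comod.coact (k := k) (A := A) s)) :
    HopfRep.IsSubcomod (k := k) (A := A)
      (Subalgebra.toSubmodule ((integralClosure S R).restrictScalars k)) := by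
  apply isSubcomod_of_act_mem hA
  intro g v hv
  exact isIntegral_act hequiv g hv

end Act

section SubAlg

variable {k : Type u} [Field k] {A : Type v} [CommRing A] [Bialgebra k A]
  {R : Type w} [CommRing R] [Algebra k R] [HopfRep.Comod k A R] [GLin.IsCoactAlg k A R]

/-- `B ⊗ A → R ⊗ A` for a subalgebra `B`. -/
noncomputable def tmap (B : Subalgebra k R) : ↥B ⊗[k] A →ₐ[k] R ⊗[k] A :=
  Algebra.TensorProduct.map B.val (AlgHom.id k A)

theorem tmap_eq_rTensor (B : Subalgebra k R) (t : ↥B ⊗[k] A) :
    tmap B t = LinearMap.rTensor A B.val.toLinearMap t := rfl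

theorem tmap_injective (B : Subalgebra k R) : Function.Injective (tmap (A := A) B) := by
  have : Function.Injective (LinearMap.rTensor A B.val.toLinearMap) :=
    Module.Flat.rTensor_preserves_injective_linearMap _ Subtype.val_injective
  exact this

theorem mem_range_tmap_iff (B : Subalgebra k R) (t : R ⊗[k] A) :
    t ∈ (tmap (A := A) B).range ↔ ∀ ψ : A →ₗ[k] k, slice ψ t ∈ B := by
  have h1 : t ∈ (tmap (A := A) B).range ↔
      t ∈ LinearMap.range (LinearMap.rTensor A B.val.toLinearMap) := Iff.rfl
  rw [h1, mem_range_rTensor_iff]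
  have h2 : ∀ x : R, x ∈ LinearMap.range B.val.toLinearMap ↔ x ∈ B := by
    intro x
    constructor
    · rintro ⟨y, rfl⟩
      exact y.2
    · intro hx
      exact ⟨⟨x, hx⟩, rfl⟩
  simp only [h2]

theorem isSubcomod_toSubmodule_iff (B : Subalgebra k R) :
    HopfRep.IsSubcomod (k := k) (A := A) (Subalgebra.toSubmodule B) ↔
      ∀ b ∈ B, HopfRep.Comod.coact (k := k) (A := A) b ∈ (tmap (A := A) B).range := by
  constructor
  · intro h b hb
    rw [mem_range_tmap_iff]
    intro ψ
    exact (mem_range_iff_forall_slice (Subalgebra.toSubmodule B) _).mp (h b hb) ψ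
  · intro h b hb
    rw [mem_range_iff_forall_slice]
    intro ψ
    exact (mem_range_tmap_iff B _).mp (h b hb) ψ

/-- The coaction restricted to a stable subalgebra. -/
noncomputable def subCoact (B : Subalgebra k R)
    (hB : ∀ b ∈ B, HopfRep.Comod.coact (k := k) (A := A) b ∈ (tmap (A := A) B).range) :
    ↥B →ₐ[k] ↥B ⊗[k] A :=
  ((AlgEquiv.ofInjective (tmap (A := A) B) (tmap_injective B)).symm : _ →ₐ[k] _).comp
    (AlgHom.codRestrict ((GLin.coactAlgHom k A R).comp B.val) (tmap (A := A) B).range
      (fun b => hB b.1 b.2))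

theorem tmap_subCoact (B : Subalgebra k R)
    (hB : ∀ b ∈ B, HopfRep.Comod.coact (k := k) (A := A) b ∈ (tmap (A := A) B).range) (b : ↥B) :
    tmap B (subCoact B hB b) = HopfRep.Comod.coact (k := k) (A := A) (b : R) := by
  unfold subCoact
  rw [AlgHom.comp_apply]
  have := (AlgEquiv.ofInjective (tmap (A := A) B) (tmap_injective B)).apply_symm_apply
    (AlgHom.codRestrict ((GLin.coactAlgHom k A R).comp B.val) (tmap (A := A) B).range
      (fun b => hB b.1 b.2) b)
  have h2 := congrArg Subtype.val this
  rw [AlgEquiv.ofInjective_apply] at h2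
  exact h2

/-- The comodule structure on a stable subalgebra. -/
@[reducible] noncomputable def subComod (B : Subalgebra k R)
    (hB : ∀ b ∈ B, HopfRep.Comod.coact (k := k) (A := A) b ∈ (tmap (A := A) B).range) :
    HopfRep.Comod k A ↥B where
  coact := (subCoact B hB).toLinearMap
  coassoc := by
    refine ComodSub.coassoc_of_emb (inferInstance : HopfRep.Comod k A R) _ B.val.toLinearMap ?_ ?_
    · apply LinearMap.ext
      intro b
      exact tmap_subCoact B hB b
    · exact Module.Flat.rTensor_preserves_injective_linearMap _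
        (Module.Flat.rTensor_preserves_injective_linearMap _ Subtype.val_injective)
  counit_comp := by
    refine ComodSub.counit_of_emb (inferInstance : HopfRep.Comod k A R) _ B.val.toLinearMap ?_ ?_
    · apply LinearMap.ext
      intro b
      exact tmap_subCoact B hB b
    · exact Module.Flat.rTensor_preserves_injective_linearMap _ Subtype.val_injective

theorem subComod_isCoactAlg (B : Subalgebra k R)
    (hB : ∀ b ∈ B, HopfRep.Comod.coact (k := k) (A := A) b ∈ (tmap (A := A) B).range) :
    @GLin.IsCoactAlg k _ A _ _ ↥B _ _ (subComod B hB) :=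
  @GLin.IsCoactAlg.mk k _ A _ _ ↥B _ _ (subComod B hB) (map_one (subCoact B hB))
    (fun f g => map_mul (subCoact B hB) f g)

end SubAlg

section Adjoin

variable {k : Type u} [Field k] {A : Type v} [CommRing A] [Bialgebra k A]
  {R : Type w} [CommRing R] [Algebra k R] [HopfRep.Comod k A R] [GLin.IsCoactAlg k A R]
  {S : Type w'} [CommRing S] [Algebra k S] [HopfRep.Comod k A S] [GLin.IsCoactAlg k A S]
  [Algebra S R] [IsScalarTower k S R]

theorem adjoin_stable
    (hequiv : ∀ s : S, HopfRep.Comod.coact (k := k) (A := A) (algebraMap S R s) =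
      Algebra.TensorProduct.map (IsScalarTower.toAlgHom k S R) (AlgHom.id k A)
        (HopfRep.Comod.coact (k := k) (A := A) s))
    (V : Submodule k R) (hV : HopfRep.IsSubcomod (k := k) (A := A) V) (G : Set R)
    (hGV : G ⊆ V) (hVG : (V : Set R) ⊆ Algebra.adjoin S G) :
    ∀ b ∈ (Algebra.adjoin S G).restrictScalars k,
      HopfRep.Comod.coact (k := k) (A := A) b ∈
        (tmap (A := A) ((Algebra.adjoin S G).restrictScalars k)).range := by
  intro b hb
  have hb' : b ∈ Algebra.adjoin S G := hb
  induction hb' using Algebra.adjoin_induction with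
  | mem x hx =>
    rw [mem_range_tmap_iff]
    intro ψ
    exact hVG ((mem_range_iff_forall_slice V _).mp (hV x (hGV hx)) ψ)
  | algebraMap s =>
    rw [mem_range_tmap_iff, hequiv]
    intro ψ
    have : slice ψ (Algebra.TensorProduct.map (IsScalarTower.toAlgHom k S R) (AlgHom.id k A)
        (HopfRep.Comod.coact (k := k) (A := A) s)) =
        (IsScalarTower.toAlgHom k S R).toLinearMap
          (slice ψ (HopfRep.Comod.coact (k := k) (A := A) s)) :=
      slice_rTensor (IsScalarTower.toAlgHom k S R).toLinearMap ψ _
    rw [this]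
    exact Subalgebra.algebraMap_mem (Algebra.adjoin S G) _
  | add x y hx hy ihx ihy =>
    rw [map_add]
    exact Subalgebra.add_mem _ (ihx hx) (ihy hy)
  | mul x y hx hy ihx ihy =>
    rw [GLin.IsCoactAlg.coact_mul]
    exact Subalgebra.mul_mem _ (ihx hx) (ihy hy)

end Adjoin

end Groth.Agent.H40.EqZMT3
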