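import Mathlib
import Groth.Agent.Lib.Helper84.UnipPts
import Groth.Agent.Lib.Helper84.Points

/-! # The group of rational points acting on a comodule -/

set_option autoImplicit false
universe u v w
open TensorProduct WithConv

namespace Groth.Agent.H40.PtAct

open Groth.Agent.Lib.Helper84.UnipPts Groth.Agent.Lib.Helper84.Points

variable {k : Type u} [Field k] {A : Type v} [CommRing A] [HopfAlgebra k A]
  {V : Type w} [AddCommGroup V] [Module k V] [HopfRep.Comod k A V]

theorem convPt_eq (g h : A →ₐ[k] k) :
    convPt g h = (toConv g * toConv h : Pt k A k).ofConv := by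
  apply AlgHom.toLinearMap_injective
  rw [convPt_toLinearMap]
  rfl

theorem act_mul (p q : Pt k A k) (v : V) :
    HopfRep.Comod.act k A V (p * q).ofConv v =
      HopfRep.Comod.act k A V p.ofConv (HopfRep.Comod.act k A V q.ofConv v) := by
  rw [act_act, convPt_eq]

theorem act_one (v : V) : HopfRep.Comod.act k A V (1 : Pt k A k).ofConv v = v :=
  act_counit (A := A) v

theorem act_inv_act (p : Pt k A k) (v : V) :
    HopfRep.Comod.act k A V p⁻¹.ofConv (HopfRep.Comod.act k A V p.ofConv v) = v := by
  rw [← act_mul, inv_mul_cancel, act_one]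

theorem act_act_inv (p : Pt k A k) (v : V) :
    HopfRep.Comod.act k A V p.ofConv (HopfRep.Comod.act k A V p⁻¹.ofConv v) = v := by
  rw [← act_mul, mul_inv_cancel, act_one]

end Groth.Agent.H40.PtAct
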