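import Mathlib
import Groth.Prelude.Def_GLin
import Groth.Agent.H40.EqZMT3
import Groth.Agent.H40.PtAct
import Groth.Agent.H40.NoethInv

/-! # Stable subalgebras, stable ideals and invariant separation (helper40) -/

set_option autoImplicit false
set_option linter.unusedSectionVars false
universe u v w w'
open TensorProduct

namespace Groth.Agent.H40.EqThick2

open Groth.Agent.H40 Groth.Agent.H40.EqZMT2 Groth.Agent.H40.EqZMT3

section Stable

variable {k : Type u} [Field k] {A : Type v} [CommRing A] [Bialgebra k A]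
  {P : Type w} [CommRing P] [Algebra k P] [HopfRep.Comod k A P] [GLin.IsCoactAlg k A P]

/-- The subalgebra generated by a subcomodule is stable. -/
theorem adjoin_stable_k (M : Submodule k P) (hM : HopfRep.IsSubcomod (k := k) (A := A) M) :
    ∀ b ∈ Algebra.adjoin k (M : Set P),
      HopfRep.Comod.coact (k := k) (A := A) b ∈
        (tmap (A := A) (Algebra.adjoin k (M : Set P))).range := by
  intro b hb
  induction hb using Algebra.adjoin_induction with
  | mem x hx =>
    rw [mem_range_tmap_iff]
    intro ψ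
    exact Algebra.subset_adjoin ((mem_range_iff_forall_slice M _).mp (hM x hx) ψ)
  | algebraMap c =>
    rw [Algebra.algebraMap_eq_smul_one, map_smul, GLin.IsCoactAlg.coact_one (k := k) (A := A)]
    exact Subalgebra.smul_mem _ (Subalgebra.one_mem _) c
  | add x y hx hy ihx ihy =>
    rw [map_add]
    exact Subalgebra.add_mem _ ihx ihy
  | mul x y hx hy ihx ihy =>
    rw [GLin.IsCoactAlg.coact_mul]
    exact Subalgebra.mul_mem _ ihx ihy

variable {R : Type w'} [CommRing R] [Algebra k R] [HopfRep.Comod k A R] [GLin.IsCoactAlg k A R]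

/-- The preimage of a stable subalgebra under an equivariant map is stable. -/
theorem comap_stable (π : P →ₐ[k] R)
    (hπ : ∀ x, HopfRep.Comod.coact (k := k) (A := A) (π x) =
      Algebra.TensorProduct.map π (AlgHom.id k A) (HopfRep.Comod.coact (k := k) (A := A) x))
    (B : Subalgebra k R)
    (hB : ∀ b ∈ B, HopfRep.Comod.coact (k := k) (A := A) b ∈ (tmap (A := A) B).range) :
    ∀ b ∈ B.comap π, HopfRep.Comod.coact (k := k) (A := A) b ∈
      (tmap (A := A) (B.comap π)).range := by
  intro b hb
  rw [mem_range_tmap_iff]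
  intro ψ
  rw [Subalgebra.mem_comap]
  have h1 : π (slice ψ (HopfRep.Comod.coact (k := k) (A := A) b)) =
      slice ψ (Algebra.TensorProduct.map π (AlgHom.id k A)
        (HopfRep.Comod.coact (k := k) (A := A) b)) :=
    (slice_rTensor π.toLinearMap ψ _).symm
  rw [h1, ← hπ]
  exact (mem_range_tmap_iff B _).mp (hB (π b) hb) ψ

/-- The range of an equivariant map is stable. -/
theorem range_stable (φ : P →ₐ[k] R)
    (hφ : ∀ x, HopfRep.Comod.coact (k := k) (A := A) (φ x) =
      Algebra.TensorProduct.map φ (AlgHom.id k A) (HopfRep.Comod.coact (k := k) (A := A) x)) :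
    ∀ b ∈ φ.range, HopfRep.Comod.coact (k := k) (A := A) b ∈ (tmap (A := A) φ.range).range := by
  rintro _ ⟨x, rfl⟩
  rw [mem_range_tmap_iff]
  intro ψ
  have h1 : φ (slice ψ (HopfRep.Comod.coact (k := k) (A := A) x)) =
      slice ψ (Algebra.TensorProduct.map φ (AlgHom.id k A)
        (HopfRep.Comod.coact (k := k) (A := A) x)) :=
    (slice_rTensor φ.toLinearMap ψ _).symm
  change slice ψ (HopfRep.Comod.coact (k := k) (A := A) (φ x)) ∈ φ.range
  rw [hφ, ← h1]
  exact ⟨_, rfl⟩

/-- The kernel of an equivariant map is a subcomodule. -/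
theorem isSubcomod_ker_algHom (π : P →ₐ[k] R)
    (hπ : ∀ x, HopfRep.Comod.coact (k := k) (A := A) (π x) =
      Algebra.TensorProduct.map π (AlgHom.id k A) (HopfRep.Comod.coact (k := k) (A := A) x)) :
    HopfRep.IsSubcomod (k := k) (A := A) ((RingHom.ker π.toRingHom).restrictScalars k) := by
  have h : Hoch.IsComodHom A π.toLinearMap := by
    apply LinearMap.ext
    intro x
    exact hπ x
  have h2 := isSubcomod_ker (C := A) π.toLinearMap h
  have h3 : (RingHom.ker π.toRingHom).restrictScalars k = LinearMap.ker π.toLinearMap := by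
    ext x
    simp [RingHom.mem_ker]
  rw [h3]
  exact h2

end Stable

section Tset

variable {k : Type u} [Field k] {A : Type v} [CommRing A] [HopfAlgebra k A]
  {P : Type w} [CommRing P] [Algebra k P] [HopfRep.Comod k A P] [GLin.IsCoactAlg k A P]

/-- Elements `r` such that `P[1/r]` is integral over `B[1/r]`-ish: `r ^ m * x` integral. -/
def Tset (B : Subalgebra k P) : Set P := {r | ∀ x : P, ∃ m : ℕ, IsIntegral B (r ^ m * x)}

theorem isIntegral_act_sub (B : Subalgebra k P)
    (hB : ∀ b ∈ B, HopfRep.Comod.coact (k := k) (A := A) b ∈ (tmap (A := A) B).range)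
    (g : A →ₐ[k] k) {b : P} (hb : IsIntegral B b) :
    IsIntegral B (HopfRep.Comod.act k A P g b) := by
  letI : HopfRep.Comod k A ↥B := subComod B hB
  haveI : GLin.IsCoactAlg k A ↥B := subComod_isCoactAlg B hB
  refine isIntegral_act (S := ↥B) (R := P) ?_ g hb
  intro s
  exact (tmap_subCoact B hB s).symm

theorem act_mem_Tset (B : Subalgebra k P)
    (hB : ∀ b ∈ B, HopfRep.Comod.coact (k := k) (A := A) b ∈ (tmap (A := A) B).range)
    (g : A →ₐ[k] k) {r : P} (hr : r ∈ Tset B) :
    HopfRep.Comod.act k A P g r ∈ Tset B := by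
  intro x
  let p : Groth.Agent.Lib.Helper84.Points.Pt k A k := WithConv.toConv g
  obtain ⟨m, hm⟩ := hr (HopfRep.Comod.act k A P p⁻¹.ofConv x)
  refine ⟨m, ?_⟩
  have h1 := isIntegral_act_sub B hB g hm
  have h2 : HopfRep.Comod.act k A P g (r ^ m * HopfRep.Comod.act k A P p⁻¹.ofConv x) =
      HopfRep.Comod.act k A P g r ^ m * x := by
    have e1 : ∀ y, HopfRep.Comod.act k A P g y = actAlgHom (R := P) g y := fun _ => rfl
    rw [e1, map_mul, map_pow, ← e1, ← e1]
    congr 1
    exact Groth.Agent.H40.PtAct.act_act_inv p x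
  rwa [h2] at h1

/-- The ideal generated by `Tset B` is a subcomodule. -/
theorem isSubcomod_span_Tset (hA : ∀ a : A, (∀ g : A →ₐ[k] k, g a = 0) → a = 0)
    (B : Subalgebra k P)
    (hB : ∀ b ∈ B, HopfRep.Comod.coact (k := k) (A := A) b ∈ (tmap (A := A) B).range) :
    HopfRep.IsSubcomod (k := k) (A := A) ((Ideal.span (Tset B)).restrictScalars k) := by
  apply isSubcomod_of_act_mem hA
  intro g v hv
  have hv' : v ∈ Ideal.span (Tset B) := hv
  change HopfRep.Comod.act k A P g v ∈ Ideal.span (Tset B)
  have e1 : ∀ y, HopfRep.Comod.act k A P g y = actAlgHom (R := P) g y := fun _ => rfl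
  induction hv' using Submodule.span_induction with
  | mem x hx => exact Ideal.subset_span (act_mem_Tset B hB g hx)
  | zero => rw [map_zero]; exact Submodule.zero_mem _
  | add x y _ _ hx hy => rw [map_add]; exact Submodule.add_mem _ (hx ‹_›) (hy ‹_›)
  | smul a x _ hx =>
    rw [smul_eq_mul, e1, map_mul, ← e1, ← e1]
    exact Ideal.mul_mem_left _ _ (hx ‹_›)

end Tset

section Sep

variable {k : Type u} [Field k] {A : Type v} [CommRing A] [HopfAlgebra k A]
  {P : Type w} [CommRing P] [Algebra k P] [HopfRep.Comod k A P] [GLin.IsCoactAlg k A P]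

/-- Invariant separation of two stable ideals that generate the unit ideal. -/
theorem exists_invariant_of_sup_eq_top (hG : HopfRep.IsLinearlyReductive k A) (I J : Ideal P)
    (hI : HopfRep.IsSubcomod (k := k) (A := A) (I.restrictScalars k))
    (hJ : HopfRep.IsSubcomod (k := k) (A := A) (J.restrictScalars k))
    (hIJ : I ⊔ J = ⊤) :
    ∃ h ∈ J, HopfRep.Comod.coact (k := k) (A := A) h = h ⊗ₜ[k] (1 : A) ∧ 1 - h ∈ I := by
  obtain ⟨I₀, hI1, hI₀⟩ := exists_integral (k := k) (A := A) hG
  have h1 : (1 : P) ∈ I ⊔ J := by rw [hIJ]; trivial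
  obtain ⟨a, ha, b, hb, hab⟩ := Submodule.mem_sup.mp h1
  have hE1 : coactSlice (C := A) I₀ (1 : P) = 1 := by
    apply coactSlice_of_fixed I₀ hI1
    rw [GLin.IsCoactAlg.coact_one (k := k) (A := A), Algebra.TensorProduct.one_def]
  refine ⟨coactSlice (C := A) I₀ b, ?_, coact_coactSlice_integral I₀ hI₀ b, ?_⟩
  · exact coactSlice_mem_of_isSubcomod I₀ (J.restrictScalars k) hJ (v := b) hb
  · have : (1 : P) - coactSlice (C := A) I₀ b = coactSlice (C := A) I₀ a := by
      rw [← hE1, ← map_sub, ← hab, add_sub_cancel_right]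
    rw [this]
    exact coactSlice_mem_of_isSubcomod I₀ (I.restrictScalars k) hI (v := a) ha

end Sep

end Groth.Agent.H40.EqThick2
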