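import Mathlib

/-! # Global form of Zariski's main theorem and an open immersion criterion (helper40) -/

set_option autoImplicit false
universe u v

namespace Groth.Agent.H40.EqZMT1

open AlgebraicGeometry CategoryTheory

/-- Global form of Zariski's main theorem: a quasi-finite algebra of finite type is covered by
finitely many principal opens `D(r)` with `r` integral and `r ^ m * x` integral for all `x`. -/
theorem exists_cover (S : Type u) (R : Type v) [CommRing S] [CommRing R] [Algebra S R]
    [Algebra.FiniteType S R] [Algebra.QuasiFinite S R] :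
    ∃ t : Finset R, Ideal.span (t : Set R) = ⊤ ∧
      ∀ r ∈ t, IsIntegral S r ∧ ∀ x : R, ∃ m : ℕ, IsIntegral S (r ^ m * x) := by
  classical
  let T : Set R := {r | IsIntegral S r ∧ ∀ x : R, ∃ m : ℕ, IsIntegral S (r ^ m * x)}
  have hT : Ideal.span T = ⊤ := by
    by_contra hne
    obtain ⟨M, hM, hle⟩ := Ideal.exists_le_maximal _ hne
    have : M.IsPrime := hM.isPrime
    obtain ⟨r, hrM, hr, hx⟩ := Algebra.zariskisMainProperty_iff.mp
      (Algebra.ZariskisMainProperty.of_finiteType (R := S) M)
    exact hrM (hle (Ideal.subset_span ⟨hr, hx⟩))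
  obtain ⟨t, ht, hspan⟩ := (Ideal.span_eq_top_iff_finite _).mp hT
  exact ⟨t, hspan, fun r hr => ht hr⟩

/-- If `r ^ m * x` lies in a subalgebra for generators `x`, the same holds for all `x`. -/
theorem exists_pow_mul_mem {k : Type u} {R : Type v} [CommRing k] [CommRing R] [Algebra k R]
    (B : Subalgebra k R) (r : R) (hr : r ∈ B) (s : Set R) (hs : Algebra.adjoin k s = ⊤)
    (H : ∀ x ∈ s, ∃ m : ℕ, r ^ m * x ∈ B) (x : R) : ∃ m : ℕ, r ^ m * x ∈ B := by
  have hx : x ∈ Algebra.adjoin k s := by rw [hs]; trivial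
  induction hx using Algebra.adjoin_induction with
  | mem x hx => exact H x hx
  | algebraMap c => exact ⟨0, by simp [B.algebraMap_mem c]⟩
  | add x y _ _ ihx ihy =>
    obtain ⟨m, hm⟩ := ihx
    obtain ⟨n, hn⟩ := ihy
    refine ⟨m + n, ?_⟩
    have : r ^ (m + n) * (x + y) = r ^ n * (r ^ m * x) + r ^ m * (r ^ n * y) := by ring
    rw [this]
    exact B.add_mem (B.mul_mem (B.pow_mem hr n) hm) (B.mul_mem (B.pow_mem hr m) hn)
  | mul x y _ _ ihx ihy =>
    obtain ⟨m, hm⟩ := ihx
    obtain ⟨n, hn⟩ := ihy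
    refine ⟨m + n, ?_⟩
    have : r ^ (m + n) * (x * y) = (r ^ m * x) * (r ^ n * y) := by ring
    rw [this]
    exact B.mul_mem hm hn

theorem isLocalizationAway_of_forall {B R : Type u} [CommRing B] [CommRing R] (φ : B →+* R)
    (hφ : Function.Injective φ) (r : B)
    (H : ∀ x : R, ∃ m : ℕ, ∃ b : B, φ b = φ r ^ m * x) :
    @IsLocalization.Away B _ r (Localization.Away (φ r)) _
      ((algebraMap R (Localization.Away (φ r))).comp φ).toAlgebra := by
  let _ : Algebra B (Localization.Away (φ r)) :=
    ((algebraMap R (Localization.Away (φ r))).comp φ).toAlgebra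
  have hmap : ∀ b : B, algebraMap B (Localization.Away (φ r)) b =
      algebraMap R (Localization.Away (φ r)) (φ b) := fun _ => rfl
  refine IsLocalization.Away.mk r ?_ ?_ ?_
  · rw [hmap]
    exact IsLocalization.Away.algebraMap_isUnit (φ r)
  · intro z
    obtain ⟨n, x, hx⟩ := IsLocalization.Away.surj (φ r) z
    obtain ⟨m, b, hb⟩ := H x
    refine ⟨n + m, b, ?_⟩
    rw [hmap, hmap, hb, map_mul, ← hx, map_pow, pow_add]
    ring
  · intro a b hab
    rw [hmap, hmap] at hab
    obtain ⟨n, hn⟩ := IsLocalization.Away.exists_of_eq (φ r) hab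
    refine ⟨n, hφ ?_⟩
    simpa using hn

theorem comap_injective_of_cover {B R : Type u} [CommRing B] [CommRing R] (φ : B →+* R)
    (t : Set B) (ht : Ideal.span (φ '' t) = ⊤)
    (H : ∀ r ∈ t, ∀ x : R, ∃ m : ℕ, ∃ b : B, φ b = φ r ^ m * x) :
    Function.Injective (PrimeSpectrum.comap φ) := by
  have key : ∀ p q : PrimeSpectrum R, PrimeSpectrum.comap φ p = PrimeSpectrum.comap φ q →
      p.asIdeal ≤ q.asIdeal := by
    intro p q hpq x hx
    have hmem : ∀ b : B, φ b ∈ p.asIdeal ↔ φ b ∈ q.asIdeal := by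
      intro b
      have := congrArg (fun P : PrimeSpectrum B => b ∈ P.asIdeal) hpq
      simpa using this
    -- some r ∈ t with φ r ∉ q
    obtain ⟨r, hr, hrq⟩ : ∃ r ∈ t, φ r ∉ q.asIdeal := by
      by_contra hcon
      push Not at hcon
      apply q.2.ne_top
      rw [← top_le_iff, ← ht, Ideal.span_le]
      rintro _ ⟨r, hr, rfl⟩
      exact hcon r hr
    obtain ⟨m, b, hb⟩ := H r hr x
    have h1 : φ b ∈ p.asIdeal := by rw [hb]; exact Ideal.mul_mem_left _ _ hx
    have h2 : φ r ^ m * x ∈ q.asIdeal := by rw [← hb]; exact (hmem b).1 h1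
    rcases q.2.mem_or_mem h2 with h | h
    · exact absurd (q.2.mem_of_pow_mem _ h) hrq
    · exact h
  intro p q hpq
  exact PrimeSpectrum.ext (le_antisymm (key p q hpq) (key q p hpq.symm))

theorem isOpenImmersion_of_cover {B R : Type u} [CommRing B] [CommRing R] (φ : B →+* R)
    (hφ : Function.Injective φ) (t : Set B) (ht : Ideal.span (φ '' t) = ⊤)
    (H : ∀ r ∈ t, ∀ x : R, ∃ m : ℕ, ∃ b : B, φ b = φ r ^ m * x) :
    IsOpenImmersion (Spec.map (CommRingCat.ofHom φ)) := by
  let s : t → R := fun i => φ i.1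
  have hs : Ideal.span (Set.range s) = ⊤ := by
    rw [← ht]
    congr 1
    ext x
    simp [s]
  let 𝒰 := (Scheme.affineOpenCoverOfSpanRangeEqTop (R := .of R) s hs).openCover
  refine IsOpenImmersion.of_openCover_source _ 𝒰 ?_ ?_
  · exact comap_injective_of_cover φ t ht H
  · intro (i : t)
    let _ : Algebra B (Localization.Away (φ i.1)) :=
      ((algebraMap R (Localization.Away (φ i.1))).comp φ).toAlgebra
    have hloc : IsLocalization.Away i.1 (Localization.Away (φ i.1)) :=
      isLocalizationAway_of_forall φ hφ i.1 (H i.1 i.2)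
    have := IsOpenImmersion.of_isLocalization (R := B) (S := Localization.Away (φ i.1)) i.1
    have heq : Spec.map (CommRingCat.ofHom (algebraMap R (Localization.Away (φ i.1)))) ≫
        Spec.map (CommRingCat.ofHom φ) =
        Spec.map (CommRingCat.ofHom (algebraMap B (Localization.Away (φ i.1)))) := by
      rw [← Spec.map_comp]
      rfl
    change IsOpenImmersion (Spec.map (CommRingCat.ofHom (algebraMap R (Localization.Away (φ i.1)))) ≫
        Spec.map (CommRingCat.ofHom φ))
    rw [heq]
    exact this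

end Groth.Agent.H40.EqZMT1
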