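import Mathlib
import Groth.Prelude.Def_GLin
import Groth.Agent.H40.EqZMT1
import Groth.Agent.H40.EqThick1
import Groth.Agent.H40.EqThick2
import Groth.Agent.H40.CoactAlgHom
import Groth.Agent.Lib.Helper84.HopfCartier

/-! # Equivariant normal thickening from an equivariant presentation (helper40) -/

set_option autoImplicit false
set_option linter.unusedSectionVars false
set_option maxHeartbeats 1600000
universe u
open TensorProduct

namespace Groth.Agent.H40.EqThick3

open Groth.Agent.H40 Groth.Agent.H40.EqZMT2 Groth.Agent.H40.EqZMT3 Groth.Agent.H40.EqThick2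
  Groth.Agent.H40.CoactAlgHom

theorem main1 (k : Type u) [Field k] [IsAlgClosed k] [CharZero k]
    (A : Type u) [CommRing A] [HopfAlgebra k A] [Algebra.FiniteType k A]
    (hG : HopfRep.IsLinearlyReductive k A)
    (S : Type u) [CommRing S] [Algebra k S] [Algebra.FiniteType k S] [HopfRep.Comod k A S]
    [GLin.IsCoactAlg k A S]
    (R : Type u) [CommRing R] [Nontrivial R] [Algebra k R] [Algebra.FiniteType k R]
    [HopfRep.Comod k A R] [GLin.IsCoactAlg k A R]
    [Algebra S R] [IsScalarTower k S R] [Algebra.QuasiFinite S R]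
    (hinj : Function.Injective (algebraMap S R))
    (hequiv : (∀ s : S, HopfRep.Comod.coact (k := k) (A := A) (algebraMap S R s) =
      Algebra.TensorProduct.map (IsScalarTower.toAlgHom k S R) (AlgHom.id k A)
        (HopfRep.Comod.coact (k := k) (A := A) s)))
    (P : Type u) [CommRing P] [IsDomain P] [IsIntegrallyClosed P] [Algebra k P]
    [Algebra.FiniteType k P] [HopfRep.Comod k A P] [GLin.IsCoactAlg k A P]
    (π : P →ₐ[k] R) (hπs : Function.Surjective π)
    (hπ : ∀ x, HopfRep.Comod.coact (k := k) (A := A) (π x) =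
      Algebra.TensorProduct.map π (AlgHom.id k A) (HopfRep.Comod.coact (k := k) (A := A) x)) :
    ∃ (R' : Type u) (_ : CommRing R') (_ : IsDomain R') (_ : IsIntegrallyClosed R') (_ : Algebra k R')
      (_ : HopfRep.Comod k A R') (_ : GLin.IsCoactAlg k A R')
      (S' : Type u) (_ : CommRing S') (_ : IsDomain S') (_ : Algebra k S')
      (_ : HopfRep.Comod k A S') (_ : GLin.IsCoactAlg k A S'),
      Algebra.FiniteType k R' ∧ Algebra.FiniteType k S' ∧
      ∃ (pR : R' →ₐ[k] R) (pS : S' →ₐ[k] S) (φ' : S' →ₐ[k] R'),
        Function.Surjective pR ∧ Function.Surjective pS ∧ Function.Injective φ' ∧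
        φ'.toRingHom.QuasiFinite ∧
        (∀ s : R', HopfRep.Comod.coact (k := k) (A := A) (pR s) =
        Algebra.TensorProduct.map pR (AlgHom.id k A) (HopfRep.Comod.coact (k := k) (A := A) s)) ∧
        (∀ s : S', HopfRep.Comod.coact (k := k) (A := A) (pS s) =
        Algebra.TensorProduct.map pS (AlgHom.id k A) (HopfRep.Comod.coact (k := k) (A := A) s)) ∧
        (∀ s : S', HopfRep.Comod.coact (k := k) (A := A) (φ' s) =
        Algebra.TensorProduct.map φ' (AlgHom.id k A) (HopfRep.Comod.coact (k := k) (A := A) s)) ∧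
        pR.comp φ' = (IsScalarTower.toAlgHom k S R).comp pS := by
  classical
  have hred : IsReduced A := Groth.Agent.Lib.Helper84.HopfCartier.isReduced_of_charZero k A
  have hA : ∀ a : A, (∀ g : A →ₐ[k] k, g a = 0) → a = 0 :=
    fun a h => EqZMT2.eq_zero_of_forall_algHom k A a h
  have hft : Algebra.FiniteType S R := Algebra.FiniteType.of_restrictScalars_finiteType k S R
  obtain ⟨t, htspan, ht⟩ := EqZMT1.exists_cover S R
  obtain ⟨genP, hgenP⟩ := (Algebra.FiniteType.out : (⊤ : Subalgebra k P).FG)
  obtain ⟨genS, hgenS⟩ := (Algebra.FiniteType.out : (⊤ : Subalgebra k S).FG)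
  choose lift hlift using hπs
  have hex : ∀ (r : R) (y : P), ∃ m : ℕ, r ∈ t → IsIntegral S (r ^ m * π y) := by
    intro r y
    by_cases hr : r ∈ t
    · obtain ⟨m, hm⟩ := (ht r hr).2 (π y)
      exact ⟨m, fun _ => hm⟩
    · exact ⟨0, fun h => absurd h hr⟩
  choose m hm using hex
  let F' : Finset P := t.image lift ∪ (t ×ˢ genP).image (fun p => lift p.1 ^ m p.1 p.2 * p.2)
  have hF'int : ∀ b ∈ F', IsIntegral S (π b) := by
    intro b hb
    rcases Finset.mem_union.mp hb with hb | hb
    · obtain ⟨r, hr, rfl⟩ := Finset.mem_image.mp hb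
      rw [hlift]
      exact (ht r hr).1
    · obtain ⟨p, hp, rfl⟩ := Finset.mem_image.mp hb
      rw [map_mul, map_pow, hlift]
      exact hm p.1 p.2 (Finset.mem_product.mp hp).1
  have hC : ∀ b : P, ∃ C : Finset P, b ∈ F' →
      ((∀ c ∈ C, π c ∈ (algebraMap S R).range) ∧
        ∀ (B : Type u) [CommRing B] [Algebra B P],
          (∀ c ∈ C, c ∈ (algebraMap B P).range) → IsIntegral B b) := by
    intro b
    by_cases hb : b ∈ F'
    · obtain ⟨C, hC1, hC2⟩ := EqThick1.exists_finset_isIntegral (S := S) π.toRingHom
        (fun r => ⟨lift r, hlift r⟩) b (hF'int b hb)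
      exact ⟨C, fun _ => ⟨hC1, hC2⟩⟩
    · exact ⟨∅, fun h => absurd h hb⟩
  choose Cf hCf using hC
  let Call : Finset P := genS.image (fun s => lift (algebraMap S R s)) ∪ F'.biUnion Cf
  let φ : S →ₐ[k] R := IsScalarTower.toAlgHom k S R
  let Sfull : Subalgebra k P := φ.range.comap π
  have hSfull := EqThick2.comap_stable π hπ φ.range (EqThick2.range_stable φ hequiv)
  have hCall : ∀ c ∈ Call, c ∈ Sfull := by
    intro c hc
    rcases Finset.mem_union.mp hc with hc | hc
    · obtain ⟨s, -, rfl⟩ := Finset.mem_image.mp hc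
      change π (lift (algebraMap S R s)) ∈ φ.range
      rw [hlift]
      exact ⟨s, rfl⟩
    · obtain ⟨b, hb, hcb⟩ := Finset.mem_biUnion.mp hc
      obtain ⟨s, hs⟩ := (hCf b hb).1 c hcb
      exact ⟨s, hs⟩
  obtain ⟨N, hNfin, hCN, hN⟩ :=
    EqZMT2.exists_finite_subcomod_subset (k := k) (A := A) Call
  let M : Submodule k P := N ⊓ Subalgebra.toSubmodule Sfull
  have hM : HopfRep.IsSubcomod (k := k) (A := A) M :=
    isSubcomod_inf N _ hN ((isSubcomod_toSubmodule_iff Sfull).mpr hSfull)
  have hMfin : Module.Finite k M := Submodule.finiteDimensional_inf_left N _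
  let S' : Subalgebra k P := Algebra.adjoin k (M : Set P)
  have hS' := EqThick2.adjoin_stable_k M hM
  have hS'le : S' ≤ Sfull := Algebra.adjoin_le (fun x hx => hx.2)
  have hCS' : ∀ c ∈ Call, c ∈ S' :=
    fun c hc => Algebra.subset_adjoin ⟨hCN hc, hCall c hc⟩
  have hS'fg : S'.FG := by
    obtain ⟨G, hG⟩ := (Submodule.fg_iff_finiteDimensional M).mpr hMfin
    refine ⟨G, ?_⟩
    rw [← Algebra.adjoin_span, hG]
  have hF'S' : ∀ b ∈ F', IsIntegral S' b := by
    intro b hb
    refine (hCf b hb).2 S' (fun c hc => ?_)
    exact ⟨⟨c, hCS' c (Finset.mem_union_right _ (Finset.mem_biUnion.mpr ⟨b, hb, hc⟩))⟩, rfl⟩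
  have hT : ∀ r ∈ t, lift r ∈ EqThick2.Tset S' := by
    intro r hr x
    obtain ⟨n, hn⟩ := EqZMT1.exists_pow_mul_mem ((integralClosure S' P).restrictScalars k) (lift r)
      (hF'S' _ (Finset.mem_union_left _ (Finset.mem_image_of_mem lift hr))) (genP : Set P) hgenP
      (fun y hy => ⟨m r y, hF'S' _ (Finset.mem_union_right _
        (Finset.mem_image.mpr ⟨(r, y), Finset.mem_product.mpr ⟨hr, hy⟩, rfl⟩))⟩) x
    exact ⟨n, hn⟩
  let I : Ideal P := RingHom.ker π.toRingHom
  let J : Ideal P := Ideal.span (EqThick2.Tset S')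
  have hI := EqThick2.isSubcomod_ker_algHom π hπ
  have hJ := EqThick2.isSubcomod_span_Tset hA S' hS'
  have hπs' : Function.Surjective π.toRingHom := fun r => ⟨lift r, hlift r⟩
  have hIJ : I ⊔ J = ⊤ := by
    rw [Ideal.eq_top_iff_one]
    have h1 : (1 : R) ∈ Ideal.span (t : Set R) := by rw [htspan]; trivial
    have h2 : Ideal.span (t : Set R) ≤ Ideal.map π.toRingHom J := by
      rw [Ideal.span_le]
      intro r hr
      have := Ideal.mem_map_of_mem π.toRingHom (Ideal.subset_span (hT r hr) : lift r ∈ J)
      have e : π.toRingHom (lift r) = r := hlift r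
      rwa [e] at this
    obtain ⟨j, hj, hj1⟩ := (Ideal.mem_map_iff_of_surjective π.toRingHom hπs').mp (h2 h1)
    have e : (1 : P) = (1 - j) + j := by ring
    rw [e]
    refine Submodule.add_mem_sup ?_ hj
    change π.toRingHom (1 - j) = 0
    rw [map_sub, hj1, map_one, sub_self]
  obtain ⟨h, hhJ, hhinv, hhI⟩ := EqThick2.exists_invariant_of_sup_eq_top hG I J hI hJ hIJ
  have hπh : π h = 1 := by
    have h0 : π (1 - h) = 0 := hhI
    rw [map_sub, map_one, sub_eq_zero] at h0
    exact h0.symm
  have hh0 : h ≠ 0 := by
    rintro rfl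
    rw [map_zero] at hπh
    exact zero_ne_one hπh
  have hdomL : IsDomain (Localization.Away h) := Localization.Away.isDomain hh0
  have hpow : Submonoid.powers h ≤ nonZeroDivisors P :=
    powers_le_nonZeroDivisors_of_noZeroDivisors hh0
  have hicL : IsIntegrallyClosed (Localization.Away h) :=
    isIntegrallyClosed_of_isLocalization (Localization.Away h) (Submonoid.powers h) hpow
  let cL : HopfRep.Comod k A (Localization.Away h) := locComod h (Localization.Away h) hhinv
  have hcL : @GLin.IsCoactAlg k _ A _ _ (Localization.Away h) _ _ cL :=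
    locComod_isCoactAlg h (Localization.Away h) hhinv
  let cS' : HopfRep.Comod k A ↥S' := subComod S' hS'
  have hcS' : @GLin.IsCoactAlg k _ A _ _ ↥S' _ _ cS' := subComod_isCoactAlg S' hS'
  have hu : IsUnit (π h) := by rw [hπh]; exact isUnit_one
  let pR : Localization.Away h →ₐ[k] R := IsLocalization.Away.liftAlgHom h (f := π) hu
  let φ' : ↥S' →ₐ[k] Localization.Away h :=
    (Algebra.algHom k P (Localization.Away h)).comp S'.val
  let e : S ≃ₐ[k] φ.range := AlgEquiv.ofInjective φ hinj
  let pS : ↥S' →ₐ[k] S := (e.symm : φ.range →ₐ[k] S).comp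
    (AlgHom.codRestrict (π.comp S'.val) φ.range (fun s => hS'le s.2))
  have hφpS : ∀ s : ↥S', φ (pS s) = π (s : P) := by
    intro s
    have h1 : e (pS s) = ⟨π (s : P), hS'le s.2⟩ := by
      change e (e.symm _) = _
      rw [AlgEquiv.apply_symm_apply]
      rfl
    have h2 := congrArg Subtype.val h1
    rwa [AlgEquiv.ofInjective_apply] at h2
  have hpRalg : ∀ x : P, pR (algebraMap P (Localization.Away h) x) = π x := by
    intro x
    change IsLocalization.Away.lift h hu (algebraMap P (Localization.Away h) x) = π x
    rw [IsLocalization.Away.lift_eq]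
    rfl
  have hftL : Algebra.FiniteType k (Localization.Away h) := by
    have h0 : Algebra.FinitePresentation P (Localization.Away h) :=
      IsLocalization.Away.finitePresentation h
    have h1 : Algebra.FiniteType P (Localization.Away h) :=
      Algebra.FiniteType.of_finitePresentation
    exact Algebra.FiniteType.trans (S := P) inferInstance h1
  have hftS' : Algebra.FiniteType k ↥S' := (Subalgebra.fg_iff_finiteType S').mp hS'fg
  refine ⟨Localization.Away h, inferInstance, hdomL, hicL, inferInstance, cL, hcL,
    ↥S', inferInstance, inferInstance, inferInstance, cS', hcS', hftL, hftS', pR, pS, φ',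
    ?_, ?_, ?_, ?_, ?_, ?_, ?_, ?_⟩
  · -- pR surjective
    intro r
    exact ⟨algebraMap P _ (lift r), by rw [hpRalg, hlift]⟩
  · -- pS surjective
    have hrange : ∀ s : S, ∃ s' : ↥S', π (s' : P) = φ s := by
      intro s
      have hs : s ∈ Algebra.adjoin k (genS : Set S) := by rw [hgenS]; trivial
      induction hs using Algebra.adjoin_induction with
      | mem x hx =>
        exact ⟨⟨lift (algebraMap S R x), hCS' _ (Finset.mem_union_left _
          (Finset.mem_image_of_mem _ hx))⟩, hlift _⟩
      | algebraMap c =>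
        exact ⟨algebraMap k ↥S' c, by
          rw [AlgHom.commutes]
          change π (algebraMap k P c) = _
          rw [AlgHom.commutes]⟩
      | add x y _ _ hx hy =>
        obtain ⟨x', hx'⟩ := hx
        obtain ⟨y', hy'⟩ := hy
        exact ⟨x' + y', by rw [map_add, ← hx', ← hy']; simp⟩
      | mul x y _ _ hx hy =>
        obtain ⟨x', hx'⟩ := hx
        obtain ⟨y', hy'⟩ := hy
        exact ⟨x' * y', by rw [map_mul, ← hx', ← hy']; simp⟩
    intro s
    obtain ⟨s', hs'⟩ := hrange s
    refine ⟨s', ?_⟩
    apply hinj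
    change φ (pS s') = φ s
    rw [hφpS, hs']
  · -- φ' injective
    intro x y hxy
    have h1 : algebraMap P (Localization.Away h) (x : P) =
        algebraMap P (Localization.Away h) (y : P) := hxy
    exact Subtype.ext (IsLocalization.injective (Localization.Away h) hpow h1)
  · -- quasi-finite
    have hftS'P : Algebra.FiniteType ↥S' P := Algebra.FiniteType.of_restrictScalars_finiteType k ↥S' P
    have hqf : Algebra.QuasiFinite ↥S' (Localization.Away h) := by
      apply EqThick1.quasiFinite_localization_away (S' := ↥S') (P := P) h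
      intro q hq hhq
      by_contra hcon
      push Not at hcon
      apply hhq
      have hle : J ≤ q := by
        rw [Ideal.span_le]
        intro r hr
        by_contra hrq
        obtain ⟨x, hx⟩ := hcon r hrq
        obtain ⟨n, hn⟩ := hr x
        exact hx n hn
      exact hle hhJ
    have heq : φ'.toRingHom = algebraMap ↥S' (Localization.Away h) := by
      apply RingHom.ext
      intro s
      rfl
    rw [heq, RingHom.quasiFinite_algebraMap]
    exact hqf
  · -- pR equivariant
    intro y
    exact coact_locLift h (Localization.Away h) hhinv π hπ hu y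
  · -- pS equivariant
    intro s
    have hinjT : Function.Injective (Algebra.TensorProduct.map φ (AlgHom.id k A)) := by
      have : Function.Injective (LinearMap.rTensor A φ.toLinearMap) :=
        Module.Flat.rTensor_preserves_injective_linearMap _ hinj
      exact this
    apply hinjT
    have h1 : Algebra.TensorProduct.map φ (AlgHom.id k A)
        (HopfRep.Comod.coact (k := k) (A := A) (pS s)) =
        HopfRep.Comod.coact (k := k) (A := A) (π (s : P)) := by
      rw [← hφpS]
      exact (hequiv (pS s)).symm
    rw [h1, hπ, ← tmap_subCoact S' hS' s]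
    change _ = Algebra.TensorProduct.map φ (AlgHom.id k A)
      (Algebra.TensorProduct.map pS (AlgHom.id k A) (subCoact S' hS' s))
    generalize subCoact S' hS' s = w
    induction w using TensorProduct.induction_on with
    | zero => simp
    | tmul a b =>
      simp only [tmap, Algebra.TensorProduct.map_tmul, AlgHom.coe_id, id_eq]
      rw [hφpS]
      rfl
    | add a b ha hb => simp only [map_add, ha, hb]
  · -- φ' equivariant
    intro s
    change locCoact h (Localization.Away h) hhinv (algebraMap P (Localization.Away h) (s : P)) =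
      Algebra.TensorProduct.map φ' (AlgHom.id k A) (subCoact S' hS' s)
    rw [locCoact_algebraMap, ← tmap_subCoact S' hS' s]
    generalize subCoact S' hS' s = w
    induction w using TensorProduct.induction_on with
    | zero => simp
    | tmul a b => rfl
    | add a b ha hb => simp only [map_add, ha, hb]
  · -- commutation
    apply AlgHom.ext
    intro s
    change pR (algebraMap P (Localization.Away h) (s : P)) = φ (pS s)
    rw [hpRalg, hφpS]

end Groth.Agent.H40.EqThick3
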