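import Mathlib

/-! # Fixed points of a finite group acting on a separated scheme (helper40)

Part 1: the functor of fixed points of a family of endomorphisms of a separated `S`-scheme is
represented by a closed subscheme (iterated equalizers). -/

set_option autoImplicit false

open CategoryTheory Limits AlgebraicGeometry

universe u v

namespace Groth.Agent.H40.FixedPt

variable {S : Scheme.{u}} {X : Over S}

/-- The common fixed locus of finitely many endomorphisms of a separated `S`-scheme is a closed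
subscheme. -/
theorem exists_fixed_list [IsSeparated X.hom] {G : Type v} (a : G → (X ⟶ X)) (L : List G) :
    ∃ (W : Over S) (j : W ⟶ X), IsClosedImmersion j.left ∧
      ∀ (T : Over S) (t : T ⟶ X), (∀ g ∈ L, t ≫ a g = t) ↔ ∃ t' : T ⟶ W, t' ≫ j = t := by
  induction L with
  | nil =>
    exact ⟨X, 𝟙 X, inferInstanceAs (IsClosedImmersion (𝟙 X.left)), fun T t =>
      ⟨fun _ => ⟨t, Category.comp_id t⟩, fun _ g hg => absurd hg List.not_mem_nil⟩⟩
  | cons g L ih =>
    obtain ⟨W, j, hj, hW⟩ := ih
    refine ⟨equalizer j (j ≫ a g), equalizer.ι _ _ ≫ j, ?_, ?_⟩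
    · rw [Over.comp_left]
      infer_instance
    · intro T t
      constructor
      · intro h
        obtain ⟨t', ht'⟩ := (hW T t).1 (fun g' hg' => h g' (List.mem_cons_of_mem _ hg'))
        have h1 : t' ≫ j = t' ≫ (j ≫ a g) := by
          rw [← Category.assoc, ht', h g List.mem_cons_self]
        exact ⟨equalizer.lift t' h1, by rw [← Category.assoc, equalizer.lift_ι, ht']⟩
      · rintro ⟨t'', rfl⟩ g' hg'
        rcases List.mem_cons.1 hg' with rfl | hg'
        · rw [Category.assoc, Category.assoc, ← equalizer.condition]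
        · exact (hW T _).2 ⟨t'' ≫ equalizer.ι _ _, by rw [Category.assoc]⟩ g' hg'

/-- The fixed locus of a finite family of endomorphisms. -/
theorem exists_fixed [IsSeparated X.hom] {G : Type v} [Finite G] (a : G → (X ⟶ X)) :
    ∃ (W : Over S) (j : W ⟶ X), IsClosedImmersion j.left ∧
      ∀ (T : Over S) (t : T ⟶ X), (∀ g, t ≫ a g = t) ↔ ∃ t' : T ⟶ W, t' ≫ j = t := by
  classical
  have := Fintype.ofFinite G
  obtain ⟨W, j, hj, hW⟩ := exists_fixed_list a (Finset.univ : Finset G).toList
  refine ⟨W, j, hj, fun T t => ?_⟩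
  rw [← hW T t]
  simp

/-- Any representing object of the fixed-point functor is a closed subscheme. -/
theorem isClosedImmersion_of_represents [IsSeparated X.hom] {G : Type v} [Finite G]
    (a : G → (X ⟶ X)) (Z : Over S) (ι : Z ⟶ X) (hι : ∀ g : G, ι ≫ a g = ι)
    (hZ : ∀ (T : Over S) (t : T ⟶ X), (∀ g : G, t ≫ a g = t) ↔ ∃! t' : T ⟶ Z, t' ≫ ι = t) :
    IsClosedImmersion ι.left := by
  obtain ⟨W, j, hj, hW⟩ := exists_fixed a
  obtain ⟨p, hp⟩ := (hW Z ι).1 hι
  have hjfix : ∀ g, j ≫ a g = j := (hW W j).2 ⟨𝟙 W, Category.id_comp j⟩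
  obtain ⟨q, hq, -⟩ := (hZ W j).1 hjfix
  have hmono : Mono j := by
    have : Mono j.left := inferInstance
    exact Over.mono_of_mono_left j
  have h1 : p ≫ q = 𝟙 Z := by
    obtain ⟨r, -, hr⟩ := (hZ Z ι).1 hι
    rw [hr (p ≫ q) (by change (p ≫ q) ≫ ι = ι; rw [Category.assoc, hq, hp]),
      hr (𝟙 Z) (Category.id_comp ι)]
  have h2 : q ≫ p = 𝟙 W := by
    rw [← cancel_mono j, Category.assoc, hp, hq, Category.id_comp]
  have hiso : IsIso p := ⟨q, h1, h2⟩
  have : IsIso p.left := (Over.forget S).map_isIso p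
  rw [← hp, Over.comp_left]
  infer_instance

end Groth.Agent.H40.FixedPt
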