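import Mathlib
import Groth.Agent.S16211

/-! # Fixed points of a finite group: the affine, algebraic step (helper40)

If `B` is a smooth `A`-algebra with an action of a finite group `G` of invertible order by
`A`-algebra automorphisms, then the coinvariant quotient `B / (g b - b)` is smooth over `A`. -/

set_option autoImplicit false
set_option linter.style.haveILetI false

universe u v

namespace Groth.Agent.H40.FixedPt

section Alg

variable {A B : Type u} [CommRing A] [CommRing B] [Algebra A B]
  {G : Type v} [Group G] [Finite G] [MulSemiringAction G B] [SMulCommClass G A B]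

/-- The ideal of coinvariants is finitely generated when `B` is of finite type. -/
theorem coinvariant_ideal_fg [Algebra.FiniteType A B] :
    (Ideal.span {x : B | ∃ (g : G) (f : B), x = g • f - f}).FG := by
  classical
  have := Fintype.ofFinite G
  obtain ⟨s, hs⟩ := (Algebra.FiniteType.out : (⊤ : Subalgebra A B).FG)
  let gen : Set B := (fun p : G × B => p.1 • p.2 - p.2) '' ((Set.univ : Set G) ×ˢ (s : Set B))
  have hfin : gen.Finite := (Set.finite_univ.prod s.finite_toSet).image _
  refine ⟨hfin.toFinset, ?_⟩
  rw [Set.Finite.coe_toFinset]
  apply le_antisymm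
  · apply Ideal.span_mono
    rintro _ ⟨⟨g, b⟩, -, rfl⟩
    exact ⟨g, b, rfl⟩
  · rw [Ideal.span_le]
    rintro _ ⟨g, f, rfl⟩
    -- the subalgebra of elements `b` with `g b - b ∈ I''` for all `g`
    let I'' : Ideal B := Ideal.span gen
    let B' : Subalgebra A B :=
      { carrier := {b | ∀ g : G, g • b - b ∈ I''}
        mul_mem' := by
          intro x y hx hy g
          have : g • (x * y) - x * y = g • x * (g • y - y) + (g • x - x) * y := by
            rw [smul_mul']
            ring
          rw [this]
          exact I''.add_mem (I''.mul_mem_left _ (hy g)) (I''.mul_mem_right _ (hx g))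
        one_mem' := by
          intro g
          rw [smul_one, sub_self]
          exact I''.zero_mem
        add_mem' := by
          intro x y hx hy g
          have : g • (x + y) - (x + y) = (g • x - x) + (g • y - y) := by
            rw [smul_add]
            ring
          rw [this]
          exact I''.add_mem (hx g) (hy g)
        zero_mem' := by
          intro g
          rw [smul_zero, sub_self]
          exact I''.zero_mem
        algebraMap_mem' := by
          intro r g
          rw [Algebra.algebraMap_eq_smul_one, smul_comm, smul_one, sub_self]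
          exact I''.zero_mem }
    have htop : B' = ⊤ := by
      rw [eq_top_iff, ← hs]
      apply Algebra.adjoin_le
      intro b hb g
      apply Ideal.subset_span
      exact ⟨(g, b), ⟨Set.mem_univ _, hb⟩, rfl⟩
    have hf : f ∈ B' := by rw [htop]; exact Algebra.mem_top
    exact hf g

/-- The coinvariant quotient of a smooth algebra by a finite group of invertible order is smooth. -/
theorem smooth_coinvariant [Algebra.Smooth A B] (hG : IsUnit (Nat.card G : A)) :
    Algebra.Smooth A (B ⧸ Ideal.span {x : B | ∃ (g : G) (f : B), x = g • f - f}) where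
  formallySmooth := Groth.Agent.S16211.result A B G hG
  finitePresentation := Algebra.FinitePresentation.quotient (coinvariant_ideal_fg (A := A))

end Alg

section RingHom

variable {A B C : Type u} [CommRing A] [CommRing B] [CommRing C]

/-- Ring-hom form: `φ : A → B` smooth, `π : B → C` surjective whose kernel is the coinvariant ideal of
a finite group of invertible order acting (contravariantly) on `B` over `A`; then `π ∘ φ` is smooth. -/
theorem smooth_comp_of_fixed (φ : A →+* B) (π : B →+* C) (hφ : φ.Smooth)
    (hπ : Function.Surjective π)
    {G : Type v} [Group G] [Finite G] (σ : G → (B →+* B))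
    (hσ_mul : ∀ g h, σ (g * h) = (σ h).comp (σ g)) (hσ_one : σ 1 = RingHom.id B)
    (hσφ : ∀ g, (σ g).comp φ = φ) (hπσ : ∀ g, π.comp (σ g) = π)
    (hker : ∀ b, π b = 0 → b ∈ Ideal.span {x : B | ∃ (g : G) (b' : B), x = σ g b' - b'})
    (hG : IsUnit (Nat.card G : A)) : (π.comp φ).Smooth := by
  letI : Algebra A B := φ.toAlgebra
  have hsm : Algebra.Smooth A B := hφ
  letI : Algebra A C := (π.comp φ).toAlgebra
  letI : MulSemiringAction G B :=
    { smul := fun g b => σ g⁻¹ b
      one_smul := fun b => by
        change σ (1 : G)⁻¹ b = b
        rw [inv_one, hσ_one]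
        rfl
      mul_smul := fun g h b => by
        change σ (g * h)⁻¹ b = σ g⁻¹ (σ h⁻¹ b)
        rw [mul_inv_rev, hσ_mul]
        rfl
      smul_zero := fun g => map_zero (σ g⁻¹)
      smul_add := fun g x y => map_add (σ g⁻¹) x y
      smul_one := fun g => map_one (σ g⁻¹)
      smul_mul := fun g x y => map_mul (σ g⁻¹) x y }
  have hsmul : ∀ (g : G) (b : B), g • b = σ g⁻¹ b := fun g b => rfl
  haveI : SMulCommClass G A B := ⟨fun g r b => by
    rw [hsmul, hsmul, Algebra.smul_def, Algebra.smul_def, map_mul]
    congr 1
    exact RingHom.congr_fun (hσφ g⁻¹) r⟩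
  have hS := smooth_coinvariant (A := A) (B := B) (G := G) hG
  set I : Ideal B := Ideal.span {x : B | ∃ (g : G) (f : B), x = g • f - f} with hI
  let πa : B →ₐ[A] C := { π with commutes' := fun r => rfl }
  have hπa : Function.Surjective πa := hπ
  have hIker : I = RingHom.ker πa := by
    apply le_antisymm
    · rw [hI, Ideal.span_le]
      rintro _ ⟨g, f, rfl⟩
      rw [SetLike.mem_coe, RingHom.mem_ker, map_sub, sub_eq_zero, hsmul]
      exact RingHom.congr_fun (hπσ g⁻¹) f
    · intro b hb
      have := hker b hb
      refine Ideal.span_mono ?_ this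
      rintro _ ⟨g, b', rfl⟩
      exact ⟨g⁻¹, b', by rw [hsmul, inv_inv]⟩
  let e : (B ⧸ I) ≃ₐ[A] C :=
    (Ideal.quotientEquivAlgOfEq A hIker).trans (Ideal.quotientKerAlgEquivOfSurjective hπa)
  exact Algebra.Smooth.of_equiv e

end RingHom

end Groth.Agent.H40.FixedPt
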