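import Mathlib
import Groth.Agent.H40.FixedPt
import Groth.Agent.H40.FixedPtAlg

/-! # Fixed points of a finite group acting on a smooth separated scheme (helper40)

Part 3: the local computation on a `G`-stable affine open. -/

set_option autoImplicit false

open CategoryTheory Limits AlgebraicGeometry TopologicalSpace

universe u v

namespace Groth.Agent.H40.FixedPt

theorem appLE_congr_hom {X Y : Scheme.{u}} {f g : X ⟶ Y} (h : f = g) (U : Y.Opens) (V : X.Opens)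
    (e : V ≤ f ⁻¹ᵁ U) : f.appLE U V e = g.appLE U V (h ▸ e) := by
  subst h
  rfl

variable {S X Z : Scheme.{u}}

theorem smooth_appLE_fixed (f : X ⟶ S) (i : Z ⟶ X) [IsClosedImmersion i] [Smooth f]
    {G : Type v} [Group G] [Finite G] (a : G → (X ⟶ X))
    (ha_mul : ∀ g h, a (g * h) = a h ≫ a g) (ha_one : a 1 = 𝟙 X)
    (haf : ∀ g, a g ≫ f = f) (hia : ∀ g, i ≫ a g = i)
    (huniv : ∀ (T : Scheme.{u}) (t : T ⟶ X), (∀ g, t ≫ a g = t) → ∃ t' : T ⟶ Z, t' ≫ i = t)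
    (U : S.Opens) (hU : IsAffineOpen U) (W : X.Opens) (hW : IsAffineOpen W) (hWU : W ≤ f ⁻¹ᵁ U)
    (hWa : ∀ g, a g ⁻¹ᵁ W = W)
    (hG : IsUnit (Nat.card G : Γ(S, U))) (e : i ⁻¹ᵁ W ≤ (i ≫ f) ⁻¹ᵁ U) :
    ((i ≫ f).appLE U (i ⁻¹ᵁ W) e).hom.Smooth := by
  have hV : IsAffineOpen (i ⁻¹ᵁ W) := hW.preimage i
  have hsplit : (i ≫ f).appLE U (i ⁻¹ᵁ W) e =
      f.appLE U W hWU ≫ i.appLE W (i ⁻¹ᵁ W) le_rfl :=
    (Scheme.Hom.appLE_comp_appLE i f U W (i ⁻¹ᵁ W) hWU le_rfl).symm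
  rw [hsplit, CommRingCat.hom_comp]
  let σ : G → (Γ(X, W) →+* Γ(X, W)) := fun g => ((a g).appLE W W (hWa g).ge).hom
  refine smooth_comp_of_fixed (f.appLE U W hWU).hom (i.appLE W (i ⁻¹ᵁ W) le_rfl).hom ?_ ?_ σ
    ?_ ?_ ?_ ?_ ?_ hG
  · exact Smooth.smooth_appLE f hU hW hWU
  · rw [Scheme.Hom.appLE_eq_app]
    exact (isClosedImmersion_iff_isAffineHom.1 inferInstance).2 W hW
  · intro g h
    have h1 := appLE_congr_hom (ha_mul g h) W W (hWa (g * h)).ge
    have h2 := Scheme.Hom.appLE_comp_appLE (a h) (a g) W W W (hWa g).ge (hWa h).ge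
    change ((a (g * h)).appLE W W _).hom =
      ((a h).appLE W W (hWa h).ge).hom.comp ((a g).appLE W W (hWa g).ge).hom
    rw [h1, ← CommRingCat.hom_comp, h2]
  · have h1 := appLE_congr_hom ha_one W W (hWa 1).ge
    change ((a 1).appLE W W _).hom = RingHom.id _
    rw [h1]
    have h2 : ∀ e' : W ≤ (𝟙 X : X ⟶ X) ⁻¹ᵁ W, (𝟙 X : X ⟶ X).appLE W W e' = 𝟙 _ := by
      intro e'
      exact (Category.id_comp _).trans (X.presheaf.map_id _)
    rw [h2]
    rfl
  · intro g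
    have h1 := Scheme.Hom.appLE_comp_appLE (a g) f U W W hWU (hWa g).ge
    have h2 := appLE_congr_hom (haf g) U W ((hWa g).ge.trans
      ((Opens.map (a g).base).map (homOfLE hWU)).le)
    change ((a g).appLE W W (hWa g).ge).hom.comp (f.appLE U W hWU).hom = (f.appLE U W hWU).hom
    rw [← CommRingCat.hom_comp, h1, h2]
  · intro g
    have h1 := Scheme.Hom.appLE_comp_appLE i (a g) W W (i ⁻¹ᵁ W) (hWa g).ge le_rfl
    have h2 := appLE_congr_hom (hia g) W (i ⁻¹ᵁ W) ((le_refl (i ⁻¹ᵁ W)).trans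
      ((Opens.map i.base).map (homOfLE (hWa g).ge)).le)
    change (i.appLE W (i ⁻¹ᵁ W) le_rfl).hom.comp ((a g).appLE W W (hWa g).ge).hom =
      (i.appLE W (i ⁻¹ᵁ W) le_rfl).hom
    rw [← CommRingCat.hom_comp, h1, h2]
  · intro b hb
    set I : Ideal Γ(X, W) := Ideal.span {x | ∃ (g : G) (b' : Γ(X, W)), x = σ g b' - b'} with hI
    let q : Γ(X, W) ⟶ CommRingCat.of (Γ(X, W) ⧸ I) := CommRingCat.ofHom (Ideal.Quotient.mk I)
    let t₀ : Spec (.of (Γ(X, W) ⧸ I)) ⟶ X := Spec.map q ≫ hW.fromSpec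
    have hfix : ∀ g, t₀ ≫ a g = t₀ := by
      intro g
      have h1 := IsAffineOpen.SpecMap_appLE_fromSpec (a g) hW hW (hWa g).ge
      have h2 : (a g).appLE W W (hWa g).ge ≫ q = q := by
        ext x
        change Ideal.Quotient.mk I (σ g x) = Ideal.Quotient.mk I x
        rw [Ideal.Quotient.eq]
        exact Ideal.subset_span ⟨g, x, rfl⟩
      change (Spec.map q ≫ hW.fromSpec) ≫ a g = Spec.map q ≫ hW.fromSpec
      rw [Category.assoc, ← h1, ← Category.assoc, ← Spec.map_comp, h2]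
    obtain ⟨t', ht'⟩ := huniv _ t₀ hfix
    have hrange : Set.range t' ⊆ Set.range hV.fromSpec := by
      rw [hV.range_fromSpec]
      rintro _ ⟨y, rfl⟩
      change i (t' y) ∈ W
      have h1 : i (t' y) = t₀ y := by
        rw [← ht']
        rfl
      rw [h1]
      have h2 : t₀ y ∈ Set.range hW.fromSpec := ⟨Spec.map q y, rfl⟩
      rw [hW.range_fromSpec] at h2
      exact h2
    let s := IsOpenImmersion.lift hV.fromSpec t' hrange
    have hs : s ≫ hV.fromSpec = t' := IsOpenImmersion.lift_fac _ _ _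
    have h3 := IsAffineOpen.SpecMap_appLE_fromSpec i hW hV le_rfl
    have h4 : Spec.map q ≫ hW.fromSpec =
        (s ≫ Spec.map (i.appLE W (i ⁻¹ᵁ W) le_rfl)) ≫ hW.fromSpec := by
      rw [Category.assoc, h3, ← Category.assoc, hs, ht']
    have h5 : Spec.map q = s ≫ Spec.map (i.appLE W (i ⁻¹ᵁ W) le_rfl) :=
      (cancel_mono hW.fromSpec).1 h4
    have h6 : q = i.appLE W (i ⁻¹ᵁ W) le_rfl ≫ Spec.preimage s := by
      apply Spec.map_injective
      rw [Spec.map_comp, Spec.map_preimage, h5]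
    have h7 : Ideal.Quotient.mk I b = 0 := by
      change q.hom b = 0
      rw [h6, CommRingCat.hom_comp, RingHom.comp_apply, hb, map_zero]
    exact Ideal.Quotient.eq_zero_iff_mem.1 h7

end Groth.Agent.H40.FixedPt
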