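import Mathlib
import Groth.Agent.H40.FixedPtSch

/-! # Fixed points of a finite group acting on a smooth separated scheme (helper40)

`G`-stable affine neighbourhoods of fixed points and the smoothness of the fixed-point scheme. -/

set_option autoImplicit false

open CategoryTheory Limits AlgebraicGeometry TopologicalSpace

universe u v

namespace Groth.Agent.H40.FixedPt

theorem exists_stable_affine_nhd {S X : Scheme.{u}} (f : X ⟶ S) [IsSeparated f]
    {G : Type v} [Group G] [Finite G]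
    (a : G → (X ⟶ X)) [∀ g, IsIso (a g)]
    (ha_mul : ∀ g h, a (g * h) = a h ≫ a g) (haf : ∀ g, a g ≫ f = f)
    (x : X) (hx : ∀ g, a g x = x) (U : S.Opens) (hU : IsAffineOpen U) (hxU : f x ∈ U) :
    ∃ W : X.Opens, IsAffineOpen W ∧ x ∈ W ∧ W ≤ f ⁻¹ᵁ U ∧ ∀ g, a g ⁻¹ᵁ W = W := by
  obtain ⟨W₀, hW₀, hxW₀, hW₀U⟩ := Opens.isBasis_iff_nbhd.mp X.isBasis_affineOpens
    (show x ∈ f ⁻¹ᵁ U from hxU)
  have hdiag : IsAffineHom (pullback.diagonal f) := inferInstance
  have hmem : ∀ y, (y ∈ ⨅ g, a g ⁻¹ᵁ W₀) ↔ ∀ g, a g y ∈ W₀ := by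
    intro y
    rw [← SetLike.mem_coe, Opens.coe_iInf, Set.mem_iInter]
    rfl
  have hle : ∀ g, a g ⁻¹ᵁ W₀ ≤ f ⁻¹ᵁ U := by
    intro g y hy
    have h1 : f (a g y) ∈ U := hW₀U hy
    have h2 : f (a g y) = f y := by
      change (a g ≫ f) y = f y
      rw [haf g]
    rw [h2] at h1
    exact h1
  have hne : Nonempty G := ⟨1⟩
  have haff := InfClosed.iInf_mem_of_nonempty
    (s := {V : X.Opens | IsAffineOpen V ∧ V ≤ f ⁻¹ᵁ U})
    (fun V₁ h₁ V₂ h₂ => ⟨isAffineHom_diagonal_iff.mp hdiag U hU V₁ h₁.2 V₂ h₂.2 h₁.1 h₂.1,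
      inf_le_left.trans h₁.2⟩)
    (f := fun g => a g ⁻¹ᵁ W₀) (fun g => ⟨hW₀.preimage_of_isIso (a g), hle g⟩)
  refine ⟨⨅ g, a g ⁻¹ᵁ W₀, haff.1, ?_, haff.2, ?_⟩
  · rw [hmem]
    intro g
    rw [hx g]
    exact hxW₀
  · intro h
    ext y
    change a h y ∈ (⨅ g, a g ⁻¹ᵁ W₀) ↔ y ∈ (⨅ g, a g ⁻¹ᵁ W₀)
    rw [hmem, hmem]
    have key : ∀ g, a g (a h y) = a (g * h) y := by
      intro g
      rw [ha_mul]
      rfl
    simp_rw [key]
    constructor
    · intro H g
      have := H (g * h⁻¹)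
      rwa [inv_mul_cancel_right] at this
    · intro H g
      exact H (g * h)

/-- The scheme of fixed points of a finite group of invertible order acting on a smooth separated
`S`-scheme is smooth over `S`. -/
theorem smooth_of_represents {S : Scheme.{u}} (X : Over S) [Smooth X.hom] [IsSeparated X.hom]
    {G : Type v} [Group G] [Finite G] (ρ : G →* Aut X) (hG : IsUnit (Nat.card G : Γ(S, ⊤)))
    (Z : Over S) (ι : Z ⟶ X) (hι : ∀ g : G, ι ≫ (ρ g).hom = ι)
    (hZ : ∀ (T : Over S) (t : T ⟶ X), (∀ g : G, t ≫ (ρ g).hom = t) ↔ ∃! t' : T ⟶ Z, t' ≫ ι = t) :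
    Smooth Z.hom := by
  have hci : IsClosedImmersion ι.left :=
    isClosedImmersion_of_represents (fun g => (ρ g).hom) Z ι hι hZ
  let a : G → (X.left ⟶ X.left) := fun g => (ρ g).hom.left
  have haiso : ∀ g, IsIso (a g) := fun g => (Over.forget S).map_isIso (ρ g).hom
  have ha_mul : ∀ g h, a (g * h) = a h ≫ a g := by
    intro g h
    change (ρ (g * h)).hom.left = (ρ h).hom.left ≫ (ρ g).hom.left
    rw [map_mul, ← Over.comp_left]
    rfl
  have ha_one : a 1 = 𝟙 _ := by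
    change (ρ 1).hom.left = 𝟙 _
    rw [map_one]
    rfl
  have haf : ∀ g, a g ≫ X.hom = X.hom := fun g => Over.w (ρ g).hom
  have hia : ∀ g, ι.left ≫ a g = ι.left := fun g => by
    change ι.left ≫ (ρ g).hom.left = ι.left
    rw [← Over.comp_left, hι]
  have huniv : ∀ (T : Scheme.{u}) (t : T ⟶ X.left), (∀ g, t ≫ a g = t) →
      ∃ t' : T ⟶ Z.left, t' ≫ ι.left = t := by
    intro T t ht
    let T' : Over S := Over.mk (t ≫ X.hom)
    let tt : T' ⟶ X := Over.homMk t rfl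
    have hfix : ∀ g, tt ≫ (ρ g).hom = tt := by
      intro g
      apply Over.OverMorphism.ext
      exact ht g
    obtain ⟨t', ht', -⟩ := (hZ T' tt).1 hfix
    refine ⟨t'.left, ?_⟩
    rw [← Over.comp_left, ht']
    rfl
  have hZhom : Z.hom = ι.left ≫ X.hom := (Over.w ι).symm
  rw [hZhom, HasRingHomProperty.iff_exists_appLE (P := @Smooth) (Q := RingHom.Smooth)
    (RingHom.Smooth.stableUnderComposition.stableUnderCompositionWithLocalizationAway
      RingHom.Smooth.holdsForLocalizationAway).1]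
  intro z
  obtain ⟨U, hU, hzU, -⟩ := Opens.isBasis_iff_nbhd.mp S.isBasis_affineOpens
    (Opens.mem_top (X.hom (ι.left z)))
  have hx : ∀ g, a g (ι.left z) = ι.left z := by
    intro g
    change (ι.left ≫ a g) z = ι.left z
    rw [hia g]
  obtain ⟨W, hW, hxW, hWU, hWa⟩ := exists_stable_affine_nhd X.hom a ha_mul haf (ι.left z) hx U hU hzU
  have hG' : IsUnit (Nat.card G : Γ(S, U)) := by
    have := hG.map (S.presheaf.map (homOfLE (le_top : U ≤ ⊤)).op).hom
    rwa [map_natCast] at this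
  have e : ι.left ⁻¹ᵁ W ≤ (ι.left ≫ X.hom) ⁻¹ᵁ U := fun y hy => hWU hy
  exact ⟨⟨U, hU⟩, ⟨ι.left ⁻¹ᵁ W, hW.preimage ι.left⟩, hxW, e,
    smooth_appLE_fixed X.hom ι.left a ha_mul ha_one haf hia huniv U hU W hW hWU hWa hG' e⟩

end Groth.Agent.H40.FixedPt
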