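import Mathlib

/-! # Fine sharp monoids with smooth monoid algebra are free (helper40)

* `exists_minimal_generators`: a finitely generated sharp cancellative monoid has a finite
  generating set consisting of irreducible elements.
* `injective_of_formallySmooth`: if `R[N]` is formally smooth over a nontrivial ring `R`,
  the canonical map `ℕ^S → N` is injective.
-/

set_option autoImplicit false
universe u

namespace Groth.Agent.H40.FreeMonoid

section Monoid

variable {N : Type*} [AddCommMonoid N]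

theorem eq_zero_of_add_eq_zero (hsharp : ∀ n : N, IsAddUnit n → n = 0) {a b : N}
    (h : a + b = 0) : a = 0 :=
  hsharp a (IsAddUnit.of_add_eq_zero b h)

theorem eq_zero_of_add_eq_zero' (hsharp : ∀ n : N, IsAddUnit n → n = 0) {a b : N}
    (h : a + b = 0) : b = 0 :=
  eq_zero_of_add_eq_zero hsharp (by rwa [add_comm] at h)

/-- Every element of `closure (insert s C)` is `n • s + y` with `y ∈ closure C`. -/
theorem exists_nsmul_add_of_mem_closure_insert (s : N) (C : Set N) (x : N)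
    (hx : x ∈ AddSubmonoid.closure (insert s C)) :
    ∃ (n : ℕ) (y : N), y ∈ AddSubmonoid.closure C ∧ x = n • s + y := by
  induction hx using AddSubmonoid.closure_induction with
  | mem x hx =>
    rcases hx with rfl | hx
    · exact ⟨1, 0, zero_mem _, by simp⟩
    · exact ⟨0, x, AddSubmonoid.subset_closure hx, by simp⟩
  | zero => exact ⟨0, 0, zero_mem _, by simp⟩
  | add x y _ _ hx hy =>
    obtain ⟨n₁, y₁, hy₁, rfl⟩ := hx
    obtain ⟨n₂, y₂, hy₂, rfl⟩ := hy
    exact ⟨n₁ + n₂, y₁ + y₂, add_mem hy₁ hy₂, by rw [add_nsmul]; abel⟩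

variable [IsCancelAdd N]

/-- A finitely generated sharp cancellative monoid is generated by finitely many irreducibles. -/
theorem exists_minimal_generators [AddMonoid.FG N] (hsharp : ∀ n : N, IsAddUnit n → n = 0) :
    ∃ S : Finset N, AddSubmonoid.closure (S : Set N) = ⊤ ∧
      ∀ s ∈ S, s ≠ 0 ∧ ∀ a b : N, s = a + b → a = 0 ∨ b = 0 := by
  classical
  have hex : ∃ c : ℕ, ∃ S : Finset N, S.card = c ∧ AddSubmonoid.closure (S : Set N) = ⊤ := by
    obtain ⟨S, hS⟩ := AddMonoid.FG.fg_top (M := N)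
    exact ⟨S.card, S, rfl, hS⟩
  obtain ⟨S, hcard, hS⟩ := Nat.find_spec hex
  have hmin : ∀ S' : Finset N, AddSubmonoid.closure (S' : Set N) = ⊤ → S.card ≤ S'.card := by
    intro S' hS'
    rw [hcard]
    exact Nat.find_min' hex ⟨S', rfl, hS'⟩
  -- removing a redundant generator contradicts minimality
  have herase : ∀ s ∈ S, s ∉ AddSubmonoid.closure ((S.erase s : Finset N) : Set N) := by
    intro s hs hmem
    have htop : AddSubmonoid.closure ((S.erase s : Finset N) : Set N) = ⊤ := by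
      rw [eq_top_iff, ← hS, AddSubmonoid.closure_le]
      intro x hx
      by_cases hxs : x = s
      · rw [hxs]; exact hmem
      · exact AddSubmonoid.subset_closure (Finset.mem_coe.mpr (Finset.mem_erase.mpr ⟨hxs, hx⟩))
    have := hmin _ htop
    have h2 := Finset.card_erase_lt_of_mem hs
    omega
  refine ⟨S, hS, fun s hs => ⟨?_, ?_⟩⟩
  · rintro rfl
    exact herase 0 hs (zero_mem _)
  · intro a b hab
    have hins : (insert s ((S.erase s : Finset N) : Set N)) = (S : Set N) := by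
      rw [← Finset.coe_insert, Finset.insert_erase hs]
    have hmemtop : ∀ x : N, x ∈ AddSubmonoid.closure (insert s ((S.erase s : Finset N) : Set N)) := by
      intro x
      rw [hins, hS]
      exact AddSubmonoid.mem_top x
    obtain ⟨n₁, y₁, hy₁, ha⟩ := exists_nsmul_add_of_mem_closure_insert s _ a (hmemtop a)
    obtain ⟨n₂, y₂, hy₂, hb⟩ := exists_nsmul_add_of_mem_closure_insert s _ b (hmemtop b)
    have hs0 : s ≠ 0 := by
      rintro rfl
      exact herase 0 hs (zero_mem _)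
    rcases Nat.eq_zero_or_pos (n₁ + n₂) with h0 | hpos
    · exfalso
      have h1 : n₁ = 0 := by omega
      have h2 : n₂ = 0 := by omega
      rw [h1, zero_nsmul, zero_add] at ha
      rw [h2, zero_nsmul, zero_add] at hb
      have hs' : s = y₁ + y₂ := by rw [hab, ha, hb]
      have hmem := add_mem hy₁ hy₂
      rw [← hs'] at hmem
      exact herase s hs hmem
    · -- cancel one copy of `s`
      obtain ⟨r, hr⟩ : ∃ r, n₁ + n₂ = r + 1 := ⟨n₁ + n₂ - 1, by omega⟩
      have h1 : s + 0 = s + (r • s + (y₁ + y₂)) := by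
        rw [add_zero]
        conv_lhs => rw [hab, ha, hb]
        rw [← add_assoc s, ← succ_nsmul', ← hr, add_nsmul]
        abel
      have h2 : r • s + (y₁ + y₂) = 0 := (add_left_cancel h1).symm
      have h3 : r • s = 0 := eq_zero_of_add_eq_zero hsharp h2
      have h4 : y₁ + y₂ = 0 := eq_zero_of_add_eq_zero' hsharp h2
      have hy₁0 : y₁ = 0 := eq_zero_of_add_eq_zero hsharp h4
      have hy₂0 : y₂ = 0 := eq_zero_of_add_eq_zero' hsharp h4
      have hr0 : r = 0 := by
        by_contra hr0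
        obtain ⟨r', rfl⟩ := Nat.exists_eq_succ_of_ne_zero hr0
        rw [succ_nsmul'] at h3
        exact hs0 (eq_zero_of_add_eq_zero hsharp h3)
      have hsum : n₁ + n₂ = 1 := by omega
      rcases Nat.eq_zero_or_pos n₁ with hn1 | hn1
      · left
        rw [ha, hn1, zero_nsmul, hy₁0, add_zero]
      · right
        have hn2 : n₂ = 0 := by omega
        rw [hb, hn2, zero_nsmul, hy₂0, add_zero]

end Monoid

section Ring

variable {B : Type*} [CommRing B] (𝔟 : Ideal B)

/-- Products of elements agreeing to higher order agree to higher order. -/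
theorem prod_sub_prod_mem {ι : Type*} (s : Finset ι) (U V : ι → B) (n : ι → ℕ)
    (hU : ∀ i ∈ s, U i ∈ 𝔟 ^ n i) (hV : ∀ i ∈ s, V i ∈ 𝔟 ^ n i)
    (hUV : ∀ i ∈ s, U i - V i ∈ 𝔟 ^ (n i + 1)) :
    ∏ i ∈ s, V i ∈ 𝔟 ^ (∑ i ∈ s, n i) ∧
      ∏ i ∈ s, U i - ∏ i ∈ s, V i ∈ 𝔟 ^ ((∑ i ∈ s, n i) + 1) := by
  classical
  induction s using Finset.induction_on with
  | empty => simp
  | insert a s ha ih =>
    have hU' : ∀ i ∈ s, U i ∈ 𝔟 ^ n i := fun i hi => hU i (Finset.mem_insert_of_mem hi)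
    have hV' : ∀ i ∈ s, V i ∈ 𝔟 ^ n i := fun i hi => hV i (Finset.mem_insert_of_mem hi)
    have hUV' : ∀ i ∈ s, U i - V i ∈ 𝔟 ^ (n i + 1) :=
      fun i hi => hUV i (Finset.mem_insert_of_mem hi)
    obtain ⟨ih1, ih2⟩ := ih hU' hV' hUV'
    rw [Finset.prod_insert ha, Finset.prod_insert ha, Finset.sum_insert ha]
    refine ⟨?_, ?_⟩
    · rw [pow_add]
      exact Ideal.mul_mem_mul (hV a (Finset.mem_insert_self a s)) ih1
    · have h1 : U a * ∏ i ∈ s, U i - V a * ∏ i ∈ s, V i =
          U a * (∏ i ∈ s, U i - ∏ i ∈ s, V i) + (U a - V a) * ∏ i ∈ s, V i := by ring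
      rw [h1]
      refine Ideal.add_mem _ ?_ ?_
      · have : n a + ∑ i ∈ s, n i + 1 = n a + (∑ i ∈ s, n i + 1) := by ring
        rw [this, pow_add]
        exact Ideal.mul_mem_mul (hU a (Finset.mem_insert_self a s)) ih2
      · have : n a + ∑ i ∈ s, n i + 1 = (n a + 1) + ∑ i ∈ s, n i := by ring
        rw [this, pow_add]
        exact Ideal.mul_mem_mul (hUV a (Finset.mem_insert_self a s)) ih1

/-- Powers of elements agreeing to second order agree to higher order. -/
theorem pow_sub_pow_mem (u t : B) (hu : u ∈ 𝔟) (ht : t ∈ 𝔟) (hut : u - t ∈ 𝔟 ^ 2) (n : ℕ) :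
    t ^ n ∈ 𝔟 ^ n ∧ u ^ n ∈ 𝔟 ^ n ∧ u ^ n - t ^ n ∈ 𝔟 ^ (n + 1) := by
  have h := prod_sub_prod_mem 𝔟 (Finset.range n) (fun _ => u) (fun _ => t) (fun _ => 1)
    (fun _ _ => by simpa using hu) (fun _ _ => by simpa using ht) (fun _ _ => by simpa using hut)
  simp only [Finset.prod_const, Finset.card_range, Finset.sum_const, smul_eq_mul, mul_one] at h
  exact ⟨h.1, Ideal.pow_mem_pow hu n, h.2⟩

end Ring

section Smooth

open MvPolynomial in
/-- If `R[N]` is formally smooth over `R` and `R` has a residue field `k`, then distinct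
exponent vectors on a set of irreducibles of the sharp monoid `N` give distinct elements. -/
theorem injective_of_formallySmooth {R : Type u} [CommRing R] {N : Type} [AddCommMonoid N]
    (hsharp : ∀ n : N, IsAddUnit n → n = 0)
    [Algebra.FormallySmooth R (AddMonoidAlgebra R N)]
    (k : Type u) [Field k] [Algebra R k]
    (S : Finset N) (hS : ∀ s ∈ S, s ≠ 0 ∧ ∀ a b : N, s = a + b → a = 0 ∨ b = 0)
    (c c' : S →₀ ℕ) (h : ∑ s : S, c s • (s : N) = ∑ s : S, c' s • (s : N)) : c = c' := by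
  classical
  wlog hdeg : c.degree ≤ c'.degree generalizing c c'
  · exact (this c' c h.symm (le_of_lt (not_le.mp hdeg))).symm
  set j := c.degree + 1 with hj
  set 𝔞 : Ideal (MvPolynomial S k) := MvPolynomial.idealOfVars S k with h𝔞
  set 𝔟 : Ideal (MvPolynomial S k ⧸ 𝔞 ^ j) := 𝔞.map (Ideal.Quotient.mk (𝔞 ^ j)) with h𝔟
  have h𝔟j : 𝔟 ^ j = ⊥ := by rw [h𝔟, ← Ideal.map_pow, Ideal.map_quotient_self]
  have hzero : ∀ (i : ℕ) (x : MvPolynomial S k ⧸ 𝔞 ^ j), j ≤ i → x ∈ 𝔟 ^ i → x = 0 := by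
    intro i x hi hx
    have := Ideal.pow_le_pow_right hi hx
    rw [h𝔟j] at this
    exact (Submodule.mem_bot _).mp this
  have hInil : IsNilpotent (𝔟 ^ 2) := by
    refine ⟨j, ?_⟩
    rw [Ideal.zero_eq_bot, eq_bot_iff, ← pow_mul]
    intro x hx
    rw [hzero (2 * j) x (by omega) hx]
    exact Submodule.zero_mem _
  let t : S → MvPolynomial S k ⧸ 𝔞 ^ j := fun s => Ideal.Quotient.mk (𝔞 ^ j) (X s)
  have ht : ∀ s, t s ∈ 𝔟 := fun s => Ideal.mem_map_of_mem _ (Ideal.subset_span ⟨s, rfl⟩)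
  let ψf : N → (MvPolynomial S k ⧸ 𝔞 ^ j) ⧸ 𝔟 ^ 2 := fun n =>
    if n = 0 then 1 else if hn : n ∈ S then Ideal.Quotient.mk (𝔟 ^ 2) (t ⟨n, hn⟩) else 0
  have hψmem : ∀ n, n ≠ 0 → ∃ b ∈ 𝔟, ψf n = Ideal.Quotient.mk (𝔟 ^ 2) b := by
    intro n hn
    by_cases hnS : n ∈ S
    · exact ⟨t ⟨n, hnS⟩, ht _, by simp only [ψf, if_neg hn, dif_pos hnS]⟩
    · exact ⟨0, zero_mem _, by simp only [ψf, if_neg hn, dif_neg hnS, map_zero]⟩
  have hψmul : ∀ a b, ψf (a + b) = ψf a * ψf b := by
    intro a b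
    by_cases ha : a = 0
    · subst ha; simp only [ψf, zero_add, if_true, one_mul]
    by_cases hb : b = 0
    · subst hb; simp only [ψf, add_zero, if_true, mul_one]
    have hab : a + b ≠ 0 := fun h0 => ha (eq_zero_of_add_eq_zero hsharp h0)
    have habS : a + b ∉ S := by
      intro hmem
      rcases (hS _ hmem).2 a b rfl with h0 | h0
      · exact ha h0
      · exact hb h0
    obtain ⟨x, hx, hxa⟩ := hψmem a ha
    obtain ⟨y, hy, hyb⟩ := hψmem b hb
    rw [hxa, hyb, ← map_mul]
    have : x * y ∈ 𝔟 ^ 2 := by rw [pow_two]; exact Ideal.mul_mem_mul hx hy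
    rw [Ideal.Quotient.eq_zero_iff_mem.mpr this]
    simp only [ψf, if_neg hab, dif_neg habS]
  let ψ : Multiplicative N →* (MvPolynomial S k ⧸ 𝔞 ^ j) ⧸ 𝔟 ^ 2 :=
    { toFun := fun x => ψf x.toAdd
      map_one' := by simp [ψf]
      map_mul' := fun x y => hψmul _ _ }
  obtain ⟨φ, hφ⟩ := Algebra.FormallySmooth.exists_lift (R := R) (𝔟 ^ 2) hInil
    (AddMonoidAlgebra.lift R _ N ψ)
  let Θ : Multiplicative N →* (MvPolynomial S k ⧸ 𝔞 ^ j) := (AddMonoidAlgebra.lift R _ N).symm φ
  let u : S → MvPolynomial S k ⧸ 𝔞 ^ j := fun s => Θ (Multiplicative.ofAdd (s : N))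
  have hut : ∀ s : S, u s - t s ∈ 𝔟 ^ 2 := by
    intro s
    rw [← Ideal.Quotient.eq]
    have h1 := AlgHom.congr_fun hφ (AddMonoidAlgebra.single (s : N) (1 : R))
    rw [AddMonoidAlgebra.lift_single, one_smul] at h1
    have h2 : ψ (Multiplicative.ofAdd (s : N)) = Ideal.Quotient.mk (𝔟 ^ 2) (t s) := by
      show ψf (s : N) = _
      simp only [ψf, if_neg (hS _ s.2).1, dif_pos s.2]
    rw [h2] at h1
    exact h1
  have hu : ∀ s : S, u s ∈ 𝔟 := by
    intro s
    have h1 : u s - t s ∈ 𝔟 := Ideal.pow_le_self (by norm_num) (hut s)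
    have := Ideal.add_mem _ h1 (ht s)
    rwa [sub_add_cancel] at this
  have hΘ : ∀ e : S →₀ ℕ, Θ (Multiplicative.ofAdd (∑ s : S, e s • (s : N))) = ∏ s : S, u s ^ e s := by
    intro e
    rw [ofAdd_sum, map_prod]
    apply Finset.prod_congr rfl
    intro s _
    rw [ofAdd_nsmul, map_pow]
  have hmono : ∀ e : S →₀ ℕ,
      Ideal.Quotient.mk (𝔞 ^ j) (monomial e (1 : k)) = ∏ s : S, t s ^ e s := by
    intro e
    rw [MvPolynomial.monomial_eq, map_mul, C_1, map_one, one_mul,
      Finsupp.prod_fintype _ _ (fun _ => pow_zero _), map_prod]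
    apply Finset.prod_congr rfl
    intro s _
    rw [map_pow]
  have hdiff : ∀ e : S →₀ ℕ,
      ∏ s : S, u s ^ e s - ∏ s : S, t s ^ e s ∈ 𝔟 ^ (e.degree + 1) := by
    intro e
    rw [Finsupp.degree_eq_sum]
    refine (prod_sub_prod_mem 𝔟 Finset.univ (fun s => u s ^ e s) (fun s => t s ^ e s)
      (fun s => e s) ?_ ?_ ?_).2
    · intro s _
      exact (pow_sub_pow_mem 𝔟 (u s) (t s) (hu s) (ht s) (hut s) (e s)).2.1
    · intro s _
      exact (pow_sub_pow_mem 𝔟 (u s) (t s) (hu s) (ht s) (hut s) (e s)).1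
    · intro s _
      exact (pow_sub_pow_mem 𝔟 (u s) (t s) (hu s) (ht s) (hut s) (e s)).2.2
  have hP : ∏ s : S, u s ^ c s = ∏ s : S, u s ^ c' s := by
    rw [← hΘ, ← hΘ, h]
  have h1 := hzero _ _ (le_of_eq hj) (hdiff c)
  have h2 := hzero _ _ (by omega) (hdiff c')
  rw [sub_eq_zero] at h1 h2
  have h3 : Ideal.Quotient.mk (𝔞 ^ j) (monomial c (1 : k)) =
      Ideal.Quotient.mk (𝔞 ^ j) (monomial c' (1 : k)) := by
    rw [hmono, hmono, ← h1, ← h2, hP]
  rw [Ideal.Quotient.eq, h𝔞, MvPolynomial.mem_pow_idealOfVars_iff'] at h3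
  have h4 := h3 c (by omega)
  rw [coeff_sub, coeff_monomial, coeff_monomial, if_pos rfl] at h4
  by_contra hne
  rw [if_neg (fun h' => hne h'.symm), sub_zero] at h4
  exact one_ne_zero h4

end Smooth

section Main

/-- A fine sharp monoid whose monoid algebra is smooth is free, so the monoid algebra is a
symmetric algebra. -/
theorem exists_algEquiv_symmetricAlgebra (R : Type u) [CommRing R] (N : Type)
    [AddCommMonoid N] [AddMonoid.FG N] [IsCancelAdd N] (hsharp : ∀ n : N, IsAddUnit n → n = 0)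
    [Algebra.Smooth R (AddMonoidAlgebra R N)] :
    ∃ (P : Type u) (_ : AddCommGroup P) (_ : Module R P), Module.Finite R P ∧
      Module.Projective R P ∧ Nonempty (AddMonoidAlgebra R N ≃ₐ[R] SymmetricAlgebra R P) := by
  classical
  rcases subsingleton_or_nontrivial R with hR | hR
  · -- the zero ring
    refine ⟨PUnit.{u + 1}, inferInstance, inferInstance, inferInstance, inferInstance, ?_⟩
    have h1 : Subsingleton (AddMonoidAlgebra R N) := Module.subsingleton R _
    have h2 : Subsingleton (SymmetricAlgebra R PUnit.{u + 1}) := Module.subsingleton R _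
    let f : AddMonoidAlgebra R N →ₐ[R] SymmetricAlgebra R PUnit.{u + 1} :=
      AddMonoidAlgebra.lift R _ N 1
    exact ⟨AlgEquiv.ofBijective f
      ⟨fun _ _ _ => Subsingleton.elim _ _, fun y => ⟨0, Subsingleton.elim _ _⟩⟩⟩
  · obtain ⟨𝔪, h𝔪⟩ := Ideal.exists_maximal R
    let _ : Field (R ⧸ 𝔪) := Ideal.Quotient.field 𝔪
    obtain ⟨S, hSgen, hSirr⟩ := exists_minimal_generators (N := N) hsharp
    let π : (S →₀ ℕ) →+ N := (Finsupp.linearCombination ℕ (fun s : S => (s : N))).toAddMonoidHom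
    have hπ : ∀ c : S →₀ ℕ, π c = ∑ s : S, c s • (s : N) := by
      intro c
      show Finsupp.linearCombination ℕ (fun s : S => (s : N)) c = _
      rw [Finsupp.linearCombination_apply]
      exact Finsupp.sum_fintype c (fun i a => a • (i : N)) (fun i => zero_smul ℕ (i : N))
    have hinj : Function.Injective π := by
      intro c c' h
      rw [hπ, hπ] at h
      exact injective_of_formallySmooth (R := R) hsharp (R ⧸ 𝔪) S hSirr c c' h
    have hsurj : Function.Surjective π := by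
      rw [← AddMonoidHom.mrange_eq_top, eq_top_iff, ← hSgen, AddSubmonoid.closure_le]
      intro s hs
      refine ⟨Finsupp.single ⟨s, hs⟩ 1, ?_⟩
      show Finsupp.linearCombination ℕ (fun s : S => (s : N)) _ = _
      rw [Finsupp.linearCombination_single, one_smul]
    let e : (S →₀ ℕ) ≃+ N := AddEquiv.ofBijective π ⟨hinj, hsurj⟩
    refine ⟨S →₀ R, inferInstance, inferInstance, inferInstance, inferInstance, ?_⟩
    let e1 : AddMonoidAlgebra R N ≃ₐ[R] MvPolynomial S R := AddMonoidAlgebra.domCongr R R e.symm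
    exact ⟨e1.trans (SymmetricAlgebra.equivMvPolynomial (Finsupp.basisSingleOne)).symm⟩

end Main

end Groth.Agent.H40.FreeMonoid
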