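import Groth.Agent.H40.ComodHom
import Groth.Agent.H40.Coeff9
import Groth.Prelude.Def_ComodTens
import Groth.Prelude.Def_ComodDual
import Groth.Prelude.Def_GLin5

/-! Helper lemmas (helper40): coefficient spaces of tensor powers; every finite-dimensional comodule
of a closed subgroup of `GL_n` is a subquotient of a sum of tensor powers of `V ⊕ V^*`. -/

set_option autoImplicit false
universe u v w w'

open TensorProduct

namespace Groth.Agent.H40

section Cf

variable {k : Type u} [Field k] {A : Type v} [AddCommGroup A] [Module k A] [Coalgebra k A]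
  {V : Type w} [AddCommGroup V] [Module k V] {W : Type w'} [AddCommGroup W] [Module k W]

/-- The coefficient map `v ↦ (f ⊗ id)(ρ v)` of an explicit comodule structure. -/
noncomputable def cf (c : HopfRep.Comod k A V) (f : V →ₗ[k] k) : V →ₗ[k] A :=
  lslice f ∘ₗ c.coact

theorem cf_apply (c : HopfRep.Comod k A V) (f : V →ₗ[k] k) (v : V) :
    cf c f v = lslice f (c.coact v) := rfl

theorem cf_eq_coeffMap (c : HopfRep.Comod k A V) (f : V →ₗ[k] k) :
    cf c f = @coeffMap k _ A _ _ _ V _ _ c f := rfl

/-- The coefficient space of a comodule. -/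
noncomputable def Coefs (c : HopfRep.Comod k A V) : Submodule k A :=
  ⨆ f : V →ₗ[k] k, LinearMap.range (cf c f)

theorem cf_mem_Coefs (c : HopfRep.Comod k A V) (f : V →ₗ[k] k) (v : V) : cf c f v ∈ Coefs c :=
  Submodule.mem_iSup_of_mem f ⟨v, rfl⟩

theorem Coefs_le_iff (c : HopfRep.Comod k A V) (D : Submodule k A) :
    Coefs c ≤ D ↔ ∀ f v, cf c f v ∈ D := by
  constructor
  · intro h f v
    exact h (cf_mem_Coefs c f v)
  · intro h
    apply iSup_le
    rintro f _ ⟨v, rfl⟩
    exact h f v

theorem cf_ofEquiv (e : V ≃ₗ[k] W) (c : HopfRep.Comod k A V) (f : W →ₗ[k] k) (w : W) :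
    cf (ComodTens.Comod.ofEquiv e c) f w = cf c (f ∘ₗ (e : V →ₗ[k] W)) (e.symm w) := by
  rw [cf_apply, cf_apply, ComodTens.ofEquiv_coact, lslice_rTensor]

theorem Coefs_ofEquiv_le (e : V ≃ₗ[k] W) (c : HopfRep.Comod k A V) :
    Coefs c ≤ Coefs (ComodTens.Comod.ofEquiv e c) := by
  rw [Coefs_le_iff]
  intro f v
  have h := cf_ofEquiv e c (f ∘ₗ (e.symm : W →ₗ[k] V)) (e v)
  rw [e.symm_apply_apply] at h
  have h2 : (f ∘ₗ (e.symm : W →ₗ[k] V)) ∘ₗ (e : V →ₗ[k] W) = f := by
    apply LinearMap.ext
    intro x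
    simp
  rw [h2] at h
  rw [← h]
  exact cf_mem_Coefs _ _ _

end Cf

section CfTensor

variable {k : Type u} [Field k] {A : Type v} [CommRing A] [Bialgebra k A]
  {V : Type w} [AddCommGroup V] [Module k V] {W : Type w'} [AddCommGroup W] [Module k W]

/-- The functional `f ⊗ g` on `V ⊗ W`. -/
noncomputable def tfun (f : V →ₗ[k] k) (g : W →ₗ[k] k) : V ⊗[k] W →ₗ[k] k :=
  (TensorProduct.lid k k).toLinearMap ∘ₗ TensorProduct.map f g

theorem tfun_tmul (f : V →ₗ[k] k) (g : W →ₗ[k] k) (v : V) (w : W) :
    tfun f g (v ⊗ₜ[k] w) = f v * g w := by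
  simp [tfun]

theorem cf_tensor (c : HopfRep.Comod k A V) (d : HopfRep.Comod k A W) (f : V →ₗ[k] k)
    (g : W →ₗ[k] k) (v : V) (w : W) :
    cf (ComodTens.Comod.tensor c d) (tfun f g) (v ⊗ₜ[k] w) = cf c f v * cf d g w := by
  rw [cf_apply, cf_apply, cf_apply, ComodTens.tensor_coact_tmul]
  generalize c.coact v = s
  generalize d.coact w = t
  induction s using TensorProduct.induction_on with
  | zero => simp
  | tmul x a =>
    induction t using TensorProduct.induction_on with
    | zero => simp
    | tmul y b =>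
      simp only [AlgebraTensorModule.tensorTensorTensorComm_tmul, TensorProduct.map_tmul,
        LinearMap.id_apply, LinearMap.mul'_apply, lslice_tmul, tfun_tmul]
      rw [smul_mul_smul_comm]
    | add p q hp hq => simp only [TensorProduct.tmul_add, map_add, hp, hq, mul_add]
  | add p q hp hq => simp only [TensorProduct.add_tmul, map_add, hp, hq, add_mul]

theorem Coefs_mul_le (c : HopfRep.Comod k A V) (d : HopfRep.Comod k A W) {a b : A}
    (ha : a ∈ Coefs c) (hb : b ∈ Coefs d) : a * b ∈ Coefs (ComodTens.Comod.tensor c d) := by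
  unfold Coefs at ha
  induction ha using Submodule.iSup_induction' with
  | mem f x hx =>
    obtain ⟨v, rfl⟩ := hx
    unfold Coefs at hb
    induction hb using Submodule.iSup_induction' with
    | mem g y hy =>
      obtain ⟨w, rfl⟩ := hy
      rw [← cf_tensor]
      exact cf_mem_Coefs _ _ _
    | zero => rw [mul_zero]; exact Submodule.zero_mem _
    | add y z _ _ hy hz => rw [mul_add]; exact Submodule.add_mem _ hy hz
  | zero => rw [zero_mul]; exact Submodule.zero_mem _
  | add y z _ _ hy hz => rw [add_mul]; exact Submodule.add_mem _ hy hz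

end CfTensor

section TPow

variable {k : Type u} [Field k] {A : Type v} [CommRing A] [Bialgebra k A]
  {V : Type w} [AddCommGroup V] [Module k V]

theorem one_mem_Coefs_tpow_zero (c : HopfRep.Comod k A V) :
    (1 : A) ∈ Coefs (ComodTens.Comod.tpow c 0) := by
  rw [ComodTens.tpow_zero]
  apply Coefs_ofEquiv_le
  have h : cf (HopfRep.Comod.trivial k A k) LinearMap.id (1 : k) = 1 := by
    rw [cf_apply]
    change lslice LinearMap.id ((1 : k) ⊗ₜ[k] (1 : A)) = 1
    simp
  rw [← h]
  exact cf_mem_Coefs _ _ _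

theorem mul_mem_Coefs_tpow_succ (c : HopfRep.Comod k A V) (m : ℕ) {a b : A}
    (ha : a ∈ Coefs (ComodTens.Comod.tpow c m)) (hb : b ∈ Coefs c) :
    a * b ∈ Coefs (ComodTens.Comod.tpow c (m + 1)) := by
  rw [ComodTens.tpow_succ]
  apply Coefs_ofEquiv_le
  apply Coefs_mul_le _ _ ha
  exact Coefs_ofEquiv_le _ _ hb

/-- The sum of the coefficient spaces of all tensor powers. -/
noncomputable def CoefsAll (c : HopfRep.Comod k A V) : Submodule k A :=
  ⨆ m : ℕ, Coefs (ComodTens.Comod.tpow c m)

theorem mul_mem_CoefsAll (c : HopfRep.Comod k A V) {a b : A}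
    (ha : a ∈ CoefsAll c) (hb : b ∈ Coefs c) : a * b ∈ CoefsAll c := by
  unfold CoefsAll at ha
  induction ha using Submodule.iSup_induction' with
  | mem m x hx =>
    exact Submodule.mem_iSup_of_mem (m + 1) (mul_mem_Coefs_tpow_succ c m hx hb)
  | zero => rw [zero_mul]; exact Submodule.zero_mem _
  | add y z _ _ hy hz => rw [add_mul]; exact Submodule.add_mem _ hy hz

theorem CoefsAll_eq_top (c : HopfRep.Comod k A V)
    (hgen : Algebra.adjoin k (Coefs c : Set A) = ⊤) : CoefsAll c = ⊤ := by
  have key : ∀ a ∈ Algebra.adjoin k (Coefs c : Set A), ∀ x ∈ CoefsAll c, x * a ∈ CoefsAll c := by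
    intro a ha
    induction ha using Algebra.adjoin_induction with
    | mem b hb => exact fun x hx => mul_mem_CoefsAll c hx hb
    | algebraMap r =>
      intro x hx
      rw [mul_comm, ← Algebra.smul_def]
      exact Submodule.smul_mem _ _ hx
    | add a b _ _ ha hb =>
      intro x hx
      rw [mul_add]
      exact Submodule.add_mem _ (ha x hx) (hb x hx)
    | mul a b _ _ ha hb =>
      intro x hx
      rw [← mul_assoc]
      exact hb _ (ha x hx)
  rw [eq_top_iff]
  intro a _
  have h1 : (1 : A) ∈ CoefsAll c :=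
    Submodule.mem_iSup_of_mem 0 (one_mem_Coefs_tpow_zero c)
  have := key a (by rw [hgen]; exact Algebra.mem_top) 1 h1
  rwa [one_mul] at this

end TPow

section Gen

open CoordGrp

variable {k : Type u} [Field k] {n : ℕ}

theorem GLn_subalgebra_eq_top (B : Subalgebra k (GLn n k)) (hX : ∀ i j, (GLn.X i j : GLn n k) ∈ B)
    (hD : (GLn.Dinv : GLn n k) ∈ B) : B = ⊤ := by
  have key : ∀ p : MvPolynomial (GLPoly.Idx n) k, GLn.mk n k (id p : GLb n k) ∈ B := by
    intro p
    induction p using MvPolynomial.induction_on with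
    | C r => exact B.algebraMap_mem r
    | add p q hp hq =>
      change GLn.mk n k ((id p : GLb n k) + (id q : GLb n k)) ∈ B
      rw [map_add]
      exact B.add_mem hp hq
    | mul_X p i hp =>
      change GLn.mk n k ((id p : GLb n k) * (id (MvPolynomial.X i) : GLb n k)) ∈ B
      rw [map_mul]
      refine B.mul_mem hp ?_
      rcases i with ⟨i, j⟩ | ⟨⟩
      · exact hX i j
      · exact hD
  rw [eq_top_iff]
  intro a _
  obtain ⟨p, rfl⟩ := Ideal.Quotient.mkₐ_surjective k (GLb.relIdeal n k) a
  exact key p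

theorem det_mem_subalgebra {R : Type*} [CommRing R] [Algebra k R] (B : Subalgebra k R)
    (M : Matrix (Fin n) (Fin n) R) (hM : ∀ i j, M i j ∈ B) : M.det ∈ B := by
  rw [Matrix.det_apply']
  refine B.sum_mem fun σ _ => B.mul_mem ?_ (B.prod_mem fun i _ => hM _ _)
  exact B.intCast_mem _

variable {A : Type u} [CommRing A] [HopfAlgebra k A]

theorem subalgebra_eq_top_of_GLn (π : GLn n k →ₐc[k] A) (hπ : Function.Surjective π)
    (B : Subalgebra k A) (hM : ∀ i j, π (GLn.X i j) ∈ B)
    (hS : ∀ i j, HopfAlgebra.antipode k (π (GLn.X i j)) ∈ B) : B = ⊤ := by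
  have hgl : IsGroupLikeElem k (π (GLn.det : GLn n k)) :=
    (IsGroupLikeElem.mk GLn.counit_det GLn.comul_det).map π
  have h1 : π (GLn.Dinv : GLn n k) * π (GLn.det : GLn n k) = 1 := by
    rw [← map_mul, GLn.Dinv_mul_det, map_one]
  have h2 : π (GLn.Dinv : GLn n k) = HopfAlgebra.antipode k (π (GLn.det : GLn n k)) := by
    calc π (GLn.Dinv : GLn n k) = π GLn.Dinv * (π GLn.det * HopfAlgebra.antipode k (π GLn.det)) := by
          rw [hgl.mul_antipode_cancel, mul_one]
      _ = HopfAlgebra.antipode k (π (GLn.det : GLn n k)) := by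
          rw [← mul_assoc, h1, one_mul]
  have h3 : HopfAlgebra.antipode k (π (GLn.det : GLn n k)) =
      (Matrix.of fun i j => HopfAlgebra.antipode k (π (GLn.X i j : GLn n k))).det := by
    rw [GLn.det_eq]
    change HopfAlgebra.antipodeAlgHom k A ((π : GLn n k →ₐ[k] A) (GLn.genMat n k).det) = _
    rw [AlgHom.map_det, AlgHom.map_det]
    rfl
  have hDinv : π (GLn.Dinv : GLn n k) ∈ B := by
    rw [h2, h3]
    exact det_mem_subalgebra B _ fun i j => hS i j
  have h4 : B.comap (π : GLn n k →ₐ[k] A) = ⊤ :=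
    GLn_subalgebra_eq_top _ (fun i j => hM i j) hDinv
  rw [eq_top_iff]
  intro a _
  obtain ⟨g, rfl⟩ := hπ a
  have : g ∈ B.comap (π : GLn n k →ₐ[k] A) := by
    rw [h4]
    exact Algebra.mem_top
  exact this

end Gen

section Std

open CoordGrp

variable {k : Type u} [Field k] {n : ℕ} {A : Type u} [CommRing A] [HopfAlgebra k A]
  (π : GLn n k →ₐc[k] A)

/-- The standard representation of `GL_n` restricted along `π`. -/
noncomputable abbrev stdA : HopfRep.Comod k A (Fin n → k) :=
  GLin.comodAlong π (GLin.comodAlong (CoordGrp.Mat.toGLn n k) (ComodTens.stdVec n k))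

theorem stdA_coact_single (i : Fin n) :
    (stdA π).coact (Pi.single i 1) = ∑ j : Fin n, (Pi.single j (1 : k)) ⊗ₜ[k] π (GLn.X j i) := by
  rw [GLin.comodAlong_coact, GLin.comodAlong_coact, ComodTens.stdVec_coact_single]
  simp only [map_sum, TensorProduct.map_tmul, LinearMap.id_apply]
  refine Finset.sum_congr rfl fun j _ => ?_
  congr 1
  change π (CoordGrp.Mat.toGLn n k (CoordGrp.Mat.X j i)) = _
  rw [CoordGrp.Mat.toGLn_X]

theorem cf_stdA (i j : Fin n) :
    cf (stdA π) (LinearMap.proj j) (Pi.single i 1) = π (GLn.X j i) := by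
  classical
  rw [cf_apply, stdA_coact_single, map_sum]
  simp only [lslice_tmul, LinearMap.proj_apply]
  rw [Finset.sum_eq_single j]
  · simp
  · intro l _ hl
    rw [Pi.single_eq_of_ne hl.symm, zero_smul]
  · intro h
    exact absurd (Finset.mem_univ j) h

omit [Field k] [CommRing A] [HopfAlgebra k A] in
theorem lslice_eval_eq_dualTensorHom [Field k] [CommRing A] [Algebra k A]
    {V : Type w} [AddCommGroup V] [Module k V] (v : V) (t : Module.Dual k V ⊗[k] A) :
    lslice (Module.Dual.eval k V v) t = dualTensorHom k V A t v := by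
  induction t using TensorProduct.induction_on with
  | zero => simp
  | tmul f a => simp [dualTensorHom_apply]
  | add p q hp hq => simp only [map_add, hp, hq, LinearMap.add_apply]

theorem cf_dual (d : HopfRep.Comod k A (Module.Dual k (Fin n → k)))
    (hd : ComodTens.Comod.IsDual (stdA π) d) (i j : Fin n) :
    cf d (Module.Dual.eval k (Fin n → k) (Pi.single i 1)) (LinearMap.proj j) =
      HopfAlgebra.antipode k (π (GLn.X j i)) := by
  classical
  rw [cf_apply, lslice_eval_eq_dualTensorHom, hd, ComodTens.dualCoactFun_apply,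
    stdA_coact_single, map_sum, map_sum]
  simp only [TensorProduct.map_tmul, TensorProduct.lid_tmul, LinearMap.proj_apply]
  rw [Finset.sum_eq_single j]
  · simp
  · intro l _ hl
    rw [Pi.single_eq_of_ne hl.symm, zero_smul]
  · intro h
    exact absurd (Finset.mem_univ j) h

end Std

section CfHom

variable {k : Type u} [Field k] {A : Type v} [AddCommGroup A] [Module k A] [Coalgebra k A]
  {U : Type w} [AddCommGroup U] [Module k U] {V : Type w'} [AddCommGroup V] [Module k V]

theorem cf_of_isHom {c : HopfRep.Comod k A U} {d : HopfRep.Comod k A V} {h : U →ₗ[k] V}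
    (hh : IsHom c d h) (f : V →ₗ[k] k) (u : U) : cf d f (h u) = cf c (f ∘ₗ h) u := by
  have h1 := LinearMap.congr_fun hh u
  simp only [LinearMap.comp_apply] at h1
  rw [cf_apply, cf_apply, h1, lslice_rTensor]

theorem Coefs_le_of_leftInverse {c : HopfRep.Comod k A U} {d : HopfRep.Comod k A V}
    {h : U →ₗ[k] V} (hh : IsHom c d h) (r : V →ₗ[k] U) (hr : r ∘ₗ h = LinearMap.id) :
    Coefs c ≤ Coefs d := by
  rw [Coefs_le_iff]
  intro f u
  have h1 := cf_of_isHom hh (f ∘ₗ r) u
  rw [LinearMap.comp_assoc, hr, LinearMap.comp_id] at h1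
  rw [← h1]
  exact cf_mem_Coefs _ _ _

theorem Coefs_le_prod_left (c : HopfRep.Comod k A U) (d : HopfRep.Comod k A V) :
    Coefs c ≤ Coefs (ComodTens.Comod.prod c d) :=
  Coefs_le_of_leftInverse (isHom_inl c d) (LinearMap.fst k U V) (LinearMap.fst_comp_inl k U V)

theorem Coefs_le_prod_right (c : HopfRep.Comod k A U) (d : HopfRep.Comod k A V) :
    Coefs d ≤ Coefs (ComodTens.Comod.prod c d) :=
  Coefs_le_of_leftInverse (isHom_inr c d) (LinearMap.snd k U V) (LinearMap.snd_comp_inr k U V)

end CfHom

section Gen2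

open CoordGrp

variable {k : Type u} [Field k] {n : ℕ} {A : Type u} [CommRing A] [HopfAlgebra k A]
  (π : GLn n k →ₐc[k] A)

theorem adjoin_Coefs_prod_eq_top (hπ : Function.Surjective π)
    (d : HopfRep.Comod k A (Module.Dual k (Fin n → k)))
    (hd : ComodTens.Comod.IsDual (stdA π) d) :
    Algebra.adjoin k (Coefs (ComodTens.Comod.prod (stdA π) d) : Set A) = ⊤ := by
  apply subalgebra_eq_top_of_GLn π hπ
  · intro i j
    apply Algebra.subset_adjoin
    apply Coefs_le_prod_left
    rw [← cf_stdA]
    exact cf_mem_Coefs _ _ _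
  · intro i j
    apply Algebra.subset_adjoin
    apply Coefs_le_prod_right
    rw [← cf_dual π d hd]
    exact cf_mem_Coefs _ _ _

end Gen2

section Pi

variable {k : Type u} [Field k] {A : Type v} [AddCommGroup A] [Module k A] [Coalgebra k A]
  {ι : Type w'} [Fintype ι] [DecidableEq ι] {X : ι → Type w} [∀ i, AddCommGroup (X i)]
  [∀ i, Module k (X i)]

theorem isHom_proj (c : ∀ i, HopfRep.Comod k A (X i)) (i : ι) :
    IsHom (ComodTens.Comod.pi c) (c i) (LinearMap.proj i) := by
  unfold IsHom
  apply LinearMap.ext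
  intro f
  simp only [LinearMap.comp_apply]
  rw [ComodTens.pi_coact, map_sum, Finset.sum_eq_single i]
  · rw [← LinearMap.rTensor_comp_apply, LinearMap.proj_comp_single_same,
      LinearMap.rTensor_id_apply]
    rfl
  · intro j _ hj
    rw [← LinearMap.rTensor_comp_apply, LinearMap.proj_comp_single_ne _ _ _ _ hj.symm,
      LinearMap.rTensor_zero, LinearMap.zero_apply]
  · intro h
    exact absurd (Finset.mem_univ i) h

theorem isHom_sum {U : Type*} [AddCommGroup U] [Module k U] {V : Type*} [AddCommGroup V]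
    [Module k V] (c : HopfRep.Comod k A U) (d : HopfRep.Comod k A V) {κ : Type*} (s : Finset κ)
    (f : κ → U →ₗ[k] V) (hf : ∀ i ∈ s, IsHom c d (f i)) : IsHom c d (∑ i ∈ s, f i) := by
  classical
  induction s using Finset.induction_on with
  | empty => simpa using isHom_zero c d
  | insert a s ha ih =>
    rw [Finset.sum_insert ha]
    exact (hf a (Finset.mem_insert_self a s)).add
      (ih fun i hi => hf i (Finset.mem_insert_of_mem hi))

end Pi

section Subquot

open Groth.Agent.Lib.Helper93.Comod

variable {k : Type u} [Field k] {A : Type u} [AddCommGroup A] [Module k A] [Coalgebra k A]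

/-- If the coefficient spaces of a family `X m` of comodules span the coalgebra, every
finite-dimensional comodule is a quotient of a subcomodule of a finite direct sum of `X m`'s. -/
theorem exists_subquot (X : ℕ → Type u) [∀ m, AddCommGroup (X m)] [∀ m, Module k (X m)]
    (cX : ∀ m, HopfRep.Comod k A (X m)) (hX : (⨆ m, Coefs (cX m)) = ⊤)
    (W : Type u) [AddCommGroup W] [Module k W] [Module.Finite k W] (σ : HopfRep.Comod k A W) :
    ∃ (b : ℕ) (m : Fin b → ℕ) (E' : Submodule k ((i : Fin b) → X (m i)))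
      (τ : E' →ₗ[k] E' ⊗[k] A) (q : E' →ₗ[k] W),
      Function.Surjective q ∧
      (E'.subtype.rTensor A) ∘ₗ τ =
        (ComodTens.Comod.pi fun i : Fin b => cX (m i)).coact ∘ₗ E'.subtype ∧
      (q.rTensor A) ∘ₗ τ = σ.coact ∘ₗ q := by
  classical
  let _ := σ
  -- the index type and the maps `g x : X m → Ind W`
  let I := W × (Σ m : ℕ, X m →ₗ[k] k)
  let g : (x : I) → X x.2.1 →ₗ[k] Hoch.Ind k A W := fun x =>
    indMk (k := k) (C := A) W x.1 ∘ₗ cf (cX x.2.1) x.2.2
  have hg : ∀ x : I, IsHom (cX x.2.1) (Hoch.Ind.comod k A W) (g x) := by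
    intro x
    exact IsHom.comp (d := HopfRep.Comod.regular k A) (isComodHom_indMk W x.1)
      (@isComodHom_coeffMap k _ A _ _ _ (X x.2.1) _ _ (cX x.2.1) x.2.2)
  let p : I → Submodule k (Hoch.Ind k A W) := fun x => LinearMap.range (g x)
  have hp : (⨆ x, p x) = ⊤ := by
    rw [eq_top_iff]
    rintro z -
    change W ⊗[k] A at z
    induction z using TensorProduct.induction_on with
    | zero => exact Submodule.zero_mem _
    | tmul w a =>
      have ha : a ∈ ⨆ m, Coefs (cX m) := by rw [hX]; exact Submodule.mem_top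
      induction ha using Submodule.iSup_induction' with
      | mem m a ha =>
        unfold Coefs at ha
        induction ha using Submodule.iSup_induction' with
        | mem f a ha =>
          obtain ⟨t, rfl⟩ := ha
          exact Submodule.mem_iSup_of_mem (⟨w, ⟨m, f⟩⟩ : I) ⟨t, rfl⟩
        | zero =>
          rw [TensorProduct.tmul_zero]
          exact Submodule.zero_mem _
        | add a b _ _ ha hb =>
          rw [TensorProduct.tmul_add]
          exact Submodule.add_mem _ ha hb
      | zero =>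
        rw [TensorProduct.tmul_zero]
        exact Submodule.zero_mem _
      | add a b _ _ ha hb =>
        rw [TensorProduct.tmul_add]
        exact Submodule.add_mem _ ha hb
    | add y z hy hz => exact Submodule.add_mem _ hy hz
  -- the image of `W` in `Ind W` is finitely generated, hence in a finite subsum
  let N : Submodule k (Hoch.Ind k A W) := LinearMap.range (Hoch.toInd k A W)
  have hNfg : N.FG := by
    have : N = Submodule.map (Hoch.toInd k A W) ⊤ := (Submodule.map_top _).symm
    rw [this]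
    exact Submodule.FG.map _ Module.Finite.fg_top
  obtain ⟨F, hF⟩ := CompleteLattice.IsCompactElement.exists_finset_of_le_iSup
    (Submodule k (Hoch.Ind k A W)) ((Submodule.fg_iff_compact N).1 hNfg) p
    (le_top.trans_eq hp.symm)
  -- reindex by `Fin b`
  let e : F ≃ Fin (Fintype.card F) := Fintype.equivFin F
  let data : Fin (Fintype.card F) → I := fun i => (e.symm i).1
  let m : Fin (Fintype.card F) → ℕ := fun i => (data i).2.1
  let cE : HopfRep.Comod k A ((i : Fin (Fintype.card F)) → X (m i)) :=
    ComodTens.Comod.pi fun i => cX (m i)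
  let Q : ((i : Fin (Fintype.card F)) → X (m i)) →ₗ[k] Hoch.Ind k A W :=
    ∑ i, g (data i) ∘ₗ LinearMap.proj i
  have hQ : IsHom cE (Hoch.Ind.comod k A W) Q := by
    apply isHom_sum
    intro i _
    exact IsHom.comp (hg (data i)) (isHom_proj (fun i => cX (m i)) i)
  have hQsingle : ∀ (i : Fin (Fintype.card F)) (t : X (m i)), Q (Pi.single i t) = g (data i) t := by
    intro i t
    change (∑ j, g (data j) ∘ₗ LinearMap.proj j) (Pi.single i t) = _
    rw [LinearMap.sum_apply, Finset.sum_eq_single i]
    · simp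
    · intro j _ hj
      simp [Pi.single_eq_of_ne hj]
    · intro h
      exact absurd (Finset.mem_univ i) h
  have hNQ : N ≤ LinearMap.range Q := by
    refine hF.trans (iSup₂_le ?_)
    intro x hx
    have hx' : data (e ⟨x, hx⟩) = x := by simp [data]
    rw [← hx']
    rintro _ ⟨t, rfl⟩
    exact ⟨Pi.single (e ⟨x, hx⟩) t, hQsingle _ t⟩
  -- the subcomodule and the quotient map
  let E' : Submodule k ((i : Fin (Fintype.card F)) → X (m i)) := N.comap Q
  have hE' : @HopfRep.IsSubcomod k A _ _ _ _ _ _ _ cE E' :=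
    @isSubcomod_comap k _ A _ _ _ _ _ _ (Hoch.Ind.comod k A W) _ _ _ cE Q hQ N
      (isSubcomod_range (Hoch.toInd k A W) isComodHom_toInd)
  let ε := LinearEquiv.ofInjective (Hoch.toInd k A W) toInd_injective
  let q : E' →ₗ[k] W := ε.symm.toLinearMap ∘ₗ (Q.domRestrict E').codRestrict N (fun x => x.2)
  have hq : Hoch.toInd k A W ∘ₗ q = Q ∘ₗ E'.subtype := by
    apply LinearMap.ext
    intro x
    have h1 : ((ε (q x) : N) : Hoch.Ind k A W) = Q x.1 := by
      change ((ε (ε.symm _) : N) : Hoch.Ind k A W) = _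
      rw [LinearEquiv.apply_symm_apply]
      rfl
    exact h1
  refine ⟨Fintype.card F, m, E', ComodSub.restrCoact cE E' hE', q, ?_, ?_, ?_⟩
  · intro w
    obtain ⟨x, hx⟩ := hNQ (⟨w, rfl⟩ : Hoch.toInd k A W w ∈ N)
    have hxE : x ∈ E' := by
      change Q x ∈ N
      rw [hx]
      exact ⟨w, rfl⟩
    refine ⟨⟨x, hxE⟩, ?_⟩
    apply toInd_injective (k := k) (C := A)
    have := LinearMap.congr_fun hq ⟨x, hxE⟩
    simp only [LinearMap.comp_apply, Submodule.subtype_apply] at this
    rw [this, hx]
  · exact ComodSub.rTensor_subtype_comp_restrCoact cE E' hE'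
  · have hinj : Function.Injective ((Hoch.toInd k A W).rTensor A) :=
      Module.Flat.rTensor_preserves_injective_linearMap _ toInd_injective
    rw [← LinearMap.cancel_left hinj]
    have h1 : HopfRep.Comod.coact (k := k) (A := A) ∘ₗ Hoch.toInd k A W =
        (Hoch.toInd k A W).rTensor A ∘ₗ σ.coact := isComodHom_toInd
    have h2 : HopfRep.Comod.coact (k := k) (A := A) ∘ₗ Q = Q.rTensor A ∘ₗ cE.coact := hQ
    rw [← LinearMap.comp_assoc, ← LinearMap.rTensor_comp, hq, LinearMap.rTensor_comp,
      LinearMap.comp_assoc, ComodSub.rTensor_subtype_comp_restrCoact cE E' hE',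
      ← LinearMap.comp_assoc, ← h2, LinearMap.comp_assoc, ← hq, ← LinearMap.comp_assoc, h1,
      LinearMap.comp_assoc]

end Subquot

section Final

open CoordGrp

/-- Every finite-dimensional representation of a closed subgroup of `GL_n` is a subquotient of a
finite direct sum of tensor powers of `V ⊕ V^*`. -/
theorem exists_subquot_tensorPower (k A : Type u) [Field k] [CommRing A] [HopfAlgebra k A] (n : ℕ)
    (π : GLn n k →ₐc[k] A) (hπ : Function.Surjective π)
    (d : HopfRep.Comod k A (Module.Dual k (Fin n → k)))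
    (hd : ComodTens.Comod.IsDual (stdA π) d)
    (W : Type u) [AddCommGroup W] [Module k W] [Module.Finite k W] (σ : HopfRep.Comod k A W) :
    ∃ (b : ℕ) (m : Fin b → ℕ)
      (E' : Submodule k ((i : Fin b) → TensorPower k (m i) ((Fin n → k) × Module.Dual k (Fin n → k))))
      (τ : E' →ₗ[k] E' ⊗[k] A) (q : E' →ₗ[k] W),
      Function.Surjective q ∧
      (E'.subtype.rTensor A) ∘ₗ τ =
        (ComodTens.Comod.pi fun i : Fin b =>
            ComodTens.Comod.tpow (ComodTens.Comod.prod (stdA π) d) (m i)).coact ∘ₗ E'.subtype ∧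
      (q.rTensor A) ∘ₗ τ = σ.coact ∘ₗ q :=
  exists_subquot (fun m => TensorPower k m ((Fin n → k) × Module.Dual k (Fin n → k)))
    (fun m => ComodTens.Comod.tpow (ComodTens.Comod.prod (stdA π) d) m)
    (CoefsAll_eq_top _ (adjoin_Coefs_prod_eq_top π hπ d hd)) W σ

end Final

end Groth.Agent.H40
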