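import Groth.Agent.H40.TPowSS
import Groth.Agent.H40.TensorGen
import Groth.Prelude.Def_GLin5

/-! Helper lemmas (helper40): the general linear group is linearly reductive in characteristic
zero (Schur–Weyl argument). -/

set_option autoImplicit false
universe u

open TensorProduct CoordGrp

namespace Groth.Agent.H40

section GLnRed

variable (n : ℕ) (k : Type u) [Field k]

/-- The coordinate ring of the matrix monoid embeds in that of the general linear group. -/
theorem toGLn_injective : Function.Injective (Mat.toGLn n k) := by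
  classical
  let F := FractionRing (Mat n k)
  have hdet : (algebraMap (Mat n k) F) (Mat.det n k) ≠ 0 := by
    intro h
    have h0 : Mat.det n k = 0 := (IsFractionRing.injective (Mat n k) F) (h.trans (map_zero _).symm)
    apply Matrix.det_mvPolynomialX_ne_zero (Fin n) k
    rw [← Mat.genMat_eq_mvPolynomialX]
    exact h0
  let M : Matrix (Fin n) (Fin n) F := (algebraMap (Mat n k) F).mapMatrix (Mat.genMat n k)
  have hMdet : M.det = algebraMap (Mat n k) F (Mat.det n k) := (RingHom.map_det _ _).symm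
  have hM : M.det * ((algebraMap (Mat n k) F) (Mat.det n k))⁻¹ = 1 := by
    rw [hMdet, mul_inv_cancel₀ hdet]
  let ev : GLn n k →ₐ[k] F := GLn.pt n k M _ hM
  have hcomp : ev.comp (Mat.toGLn n k : Mat n k →ₐ[k] GLn n k) =
      IsScalarTower.toAlgHom k (Mat n k) F := by
    apply Mat.algHom_ext
    intro i j
    change ev (Mat.toGLn n k (Mat.X i j)) = algebraMap (Mat n k) F (Mat.X i j)
    rw [Mat.toGLn_X, GLn.pt_X]
    rfl
  intro p q hpq
  apply IsFractionRing.injective (Mat n k) F
  have h1 := congrArg ev hpq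
  have h2 : ∀ y : Mat n k, ev (Mat.toGLn n k y) = algebraMap (Mat n k) F y :=
    fun y => AlgHom.congr_fun hcomp y
  rw [h2, h2] at h1
  exact h1

/-- The standard comodule of `GL_n`. -/
@[reducible] noncomputable def stdG : HopfRep.Comod k (GLn n k) (Fin n → k) :=
  GLin.comodAlong (Mat.toGLn n k) (ComodTens.stdVec n k)

theorem stdG_coact (j : Fin n) :
    (stdG n k).coact (Pi.basisFun k (Fin n) j) =
      ∑ i, Pi.basisFun k (Fin n) i ⊗ₜ[k] (GLn.X i j : GLn n k) := by
  unfold stdG
  rw [GLin.comodAlong_coact, ComodTens.stdVec_coact_basisFun, map_sum]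
  refine Finset.sum_congr rfl fun i _ => ?_
  rw [TensorProduct.map_tmul, LinearMap.id_apply]
  congr 1
  exact Mat.toGLn_X i j

theorem xxPow_GLn_eq (a : ℕ) (I J : Fin a → Fin n) :
    xxPow (fun i j => (GLn.X i j : GLn n k)) a I J =
      Mat.toGLn n k (xxPow (fun i j => (Mat.X i j : Mat n k)) a I J) := by
  unfold xxPow
  rw [map_prod]
  refine Finset.prod_congr rfl fun t _ => ?_
  exact (Mat.toGLn_X (I t) (J t)).symm

/-- A functional on the matrix coordinate ring with prescribed values on the monomials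
`∏ X (I t, J t)`, for data invariant under simultaneous permutation. -/
theorem exists_functional_Mat (a : ℕ) (E : (Fin a → Fin n) → (Fin a → Fin n) → k)
    (hE : ∀ σ I J, E (permAct a (Fin n) σ I) (permAct a (Fin n) σ J) = E I J) :
    ∃ φ₀ : Mat n k →ₗ[k] k, ∀ I J, φ₀ (xxPow (fun i j => (Mat.X i j : Mat n k)) a I J) = E I J := by
  classical
  let F : ((Fin n × Fin n) →₀ ℕ) → k := fun d =>
    if h : ∃ IJ : (Fin a → Fin n) × (Fin a → Fin n), mon IJ.1 IJ.2 = d then
      E (Classical.choose h).1 (Classical.choose h).2 else 0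
  let φ₁ : MvPolynomial (Fin n × Fin n) k →ₗ[k] k :=
    (MvPolynomial.basisMonomials (Fin n × Fin n) k).constr k F
  refine ⟨φ₁ ∘ₗ (Mat.toPoly n k).toLinearMap, fun I J => ?_⟩
  have h1 : (Mat.toPoly n k) (xxPow (fun i j => (Mat.X i j : Mat n k)) a I J) =
      MvPolynomial.monomial (mon I J) 1 := by
    rw [← prod_X_eq_monomial]
    rfl
  rw [LinearMap.comp_apply, AlgEquiv.toLinearMap_apply, h1]
  have h2 : φ₁ (MvPolynomial.monomial (mon I J) 1) = F (mon I J) := by
    have := (MvPolynomial.basisMonomials (Fin n × Fin n) k).constr_basis k F (mon I J)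
    rwa [MvPolynomial.coe_basisMonomials] at this
  rw [h2]
  have hex : ∃ IJ : (Fin a → Fin n) × (Fin a → Fin n), mon IJ.1 IJ.2 = mon I J := ⟨(I, J), rfl⟩
  change (if h : ∃ IJ : (Fin a → Fin n) × (Fin a → Fin n), mon IJ.1 IJ.2 = mon I J then
      E (Classical.choose h).1 (Classical.choose h).2 else 0) = E I J
  rw [dif_pos hex]
  obtain ⟨σ, hσ1, hσ2⟩ := exists_perm_of_mon_eq _ _ I J (Classical.choose_spec hex)
  have := hE σ⁻¹ (Classical.choose hex).1 (Classical.choose hex).2
  rw [permAct_apply, permAct_apply] at this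
  have hs : (σ⁻¹ : Equiv.Perm (Fin a)).symm = σ := rfl
  rw [hs, ← hσ1, ← hσ2] at this
  exact this.symm

/-- Separation of invariant matrices by functionals on the coordinate ring of `GL_n`. -/
theorem hsep_GLn (a m : ℕ) (E : (Fin a → Fin n) → (Fin a → Fin n) → k)
    (hE : ∀ σ I J, E (permAct a (Fin n) σ I) (permAct a (Fin n) σ J) = E I J) :
    ∃ φ : GLn n k →ₗ[k] k, ∀ I J,
      φ (xxPow (fun i j => (GLn.X i j : GLn n k)) a I J * (GLn.Dinv : GLn n k) ^ m) = E I J := by
  obtain ⟨φ₀, hφ₀⟩ := exists_functional_Mat n k a E hE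
  obtain ⟨r, hr⟩ := LinearMap.exists_leftInverse_of_injective
    ((Mat.toGLn n k : Mat n k →ₐ[k] GLn n k).toLinearMap)
    (LinearMap.ker_eq_bot.2 (toGLn_injective n k))
  refine ⟨φ₀ ∘ₗ r ∘ₗ LinearMap.mulRight k ((GLn.det : GLn n k) ^ m), fun I J => ?_⟩
  simp only [LinearMap.comp_apply, LinearMap.mulRight_apply]
  have h1 : xxPow (fun i j => (GLn.X i j : GLn n k)) a I J * (GLn.Dinv : GLn n k) ^ m *
      (GLn.det : GLn n k) ^ m = xxPow (fun i j => (GLn.X i j : GLn n k)) a I J := by
    rw [mul_assoc, ← mul_pow, GLn.Dinv_mul_det, one_pow, mul_one]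
  rw [h1, xxPow_GLn_eq]
  have h2 := LinearMap.congr_fun hr (xxPow (fun i j => (Mat.X i j : Mat n k)) a I J)
  simp only [LinearMap.comp_apply, AlgHom.toLinearMap_apply, LinearMap.id_apply] at h2
  have h3 : r ((Mat.toGLn n k) (xxPow (fun i j => (Mat.X i j : Mat n k)) a I J)) =
      xxPow (fun i j => (Mat.X i j : Mat n k)) a I J := h2
  rw [h3, hφ₀]

/-- The regular comodule of `GL_n` in characteristic zero is a sum of simple subcomodules. -/
theorem iSup_simpleSub_GLn [CharZero k] :
    (⨆ S : {S : Submodule k (GLn n k) // IsSimpleSub (C := GLn n k) (V := GLn n k) S}, S.1) = ⊤ := by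
  refine iSup_simpleSub_eq_top_of_tpow (stdG n k) (fun i j => (GLn.X i j : GLn n k))
    (stdG_coact n k) (GLn.Dinv : GLn n k) ⟨GLn.counit_Dinv, GLn.comul_Dinv⟩ ?_ (hsep_GLn n k)
  intro B hX hD
  exact GLn_subalgebra_eq_top B hX hD

/-- `GL_n` is linearly reductive in characteristic zero. -/
theorem isLinearlyReductive_GLn [CharZero k] : HopfRep.IsLinearlyReductive k (GLn n k) := by
  intro V _ _ _ _
  exact isSemisimpleComod_of_regular (iSup_simpleSub_GLn n k)

end GLnRed

end Groth.Agent.H40
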