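import Mathlib
import Groth.Agent.H40.MultSub

/-!
# Galois-fixed elements of a base change (helper40)

For a Galois extension `K/k` (possibly infinite), an element of `K ⊗[k] A` fixed by all
`σ ⊗ id` lies in `1 ⊗ A`.
-/

set_option autoImplicit false
open TensorProduct Coalgebra
universe u v w

namespace Groth.Agent.H40.GalFix

open Groth.Agent.H40

section Fix

variable {k : Type u} [Field k] {K : Type v} [Field K] [Algebra k K]
  {A : Type w} [CommRing A] [Bialgebra k A]

/-- coordinates of `σ ⊗ id` applied to `y`. -/
lemma repr_bcMap {ι : Type*} (b : Module.Basis ι k A) (σ : K →ₐ[k] K) (y : K ⊗[k] A) (i : ι) :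
    (Algebra.TensorProduct.basis K b).repr (bcMap σ A y) i =
      σ ((Algebra.TensorProduct.basis K b).repr y i) := by
  induction y using TensorProduct.induction_on with
  | zero => simp
  | tmul c a =>
    rw [bcMap_tmul, Algebra.TensorProduct.basis_repr_tmul, Algebra.TensorProduct.basis_repr_tmul]
    simp only [Finsupp.smul_apply, Finsupp.mapRange_apply, smul_eq_mul, map_mul, AlgHom.commutes]
  | add p q hp hq => simp only [map_add, Finsupp.add_apply, hp, hq]

/-- an element of `K ⊗ A` fixed by all `σ ⊗ id`, where the fixed field of `K` is `k`, comes from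
`A`. -/
theorem exists_eq_one_tmul_of_fixed
    (hK : ∀ c : K, (∀ σ : K ≃ₐ[k] K, σ c = c) → c ∈ Set.range (algebraMap k K))
    (y : K ⊗[k] A) (hy : ∀ σ : K ≃ₐ[k] K, bcMap (σ : K →ₐ[k] K) A y = y) :
    ∃ a : A, y = (1 : K) ⊗ₜ[k] a := by
  classical
  let b := Module.Free.chooseBasis k A
  let B := Algebra.TensorProduct.basis K b
  have hc : ∀ i, ∃ c : k, algebraMap k K c = B.repr y i := by
    intro i
    apply hK
    intro σ
    have h1 := repr_bcMap b (σ : K →ₐ[k] K) y i
    rw [hy σ] at h1
    exact h1.symm
  choose c hc using hc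
  refine ⟨∑ i ∈ (B.repr y).support, c i • b i, ?_⟩
  conv_lhs => rw [← B.linearCombination_repr y]
  rw [Finsupp.linearCombination_apply, Finsupp.sum, TensorProduct.tmul_sum]
  refine Finset.sum_congr rfl fun i _ => ?_
  rw [Algebra.TensorProduct.basis_apply, ← hc i, TensorProduct.tmul_smul,
    TensorProduct.smul_tmul', TensorProduct.smul_tmul', Algebra.smul_def, mul_one,
    Algebra.algebraMap_self, RingHom.id_apply, Algebra.algebraMap_eq_smul_one]

end Fix

/-- the algebraic closure of a perfect field is Galois. -/
theorem isGalois_algebraicClosure (k : Type u) [Field k] [PerfectField k] :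
    IsGalois k (AlgebraicClosure k) where

theorem fixed_algebraicClosure (k : Type u) [Field k] [PerfectField k]
    (c : AlgebraicClosure k) (hc : ∀ σ : AlgebraicClosure k ≃ₐ[k] AlgebraicClosure k, σ c = c) :
    c ∈ Set.range (algebraMap k (AlgebraicClosure k)) := by
  have := isGalois_algebraicClosure k
  exact (InfiniteGalois.mem_range_algebraMap_iff_fixed c).2 hc

end Groth.Agent.H40.GalFix
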