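import Mathlib
import Groth.Agent.H40.FreeMonoid

/-! # Strict divisibility in a fine sharp monoid is well-founded (helper40) -/

set_option autoImplicit false

namespace Groth.Agent.H40.SharpWF

open Groth.Agent.H40.FreeMonoid

variable {N : Type*} [AddCommMonoid N]

/-- `a` strictly divides `b`: `b = a + y` with `y ≠ 0`. -/
def sdvd (a b : N) : Prop := ∃ y : N, y ≠ 0 ∧ a + y = b

theorem wellFounded_sdvd [AddMonoid.FG N] [IsCancelAdd N]
    (hsharp : ∀ n : N, IsAddUnit n → n = 0) : WellFounded (sdvd (N := N)) := by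
  classical
  have hnoeth : IsNoetherianRing (AddMonoidAlgebra ℤ N) :=
    Algebra.FiniteType.isNoetherianRing ℤ _
  let J : N → Ideal (AddMonoidAlgebra ℤ N) := fun n => Ideal.span {AddMonoidAlgebra.single n (1 : ℤ)}
  have hwf : WellFounded (fun a b : N => J a > J b) :=
    InvImage.wf J (wellFounded_gt (α := Ideal (AddMonoidAlgebra ℤ N)))
  refine Subrelation.wf ?_ hwf
  rintro a b ⟨y, hy, rfl⟩
  show J (a + y) < J a
  refine lt_of_le_of_ne ?_ ?_
  · rw [Ideal.span_singleton_le_span_singleton]
    refine ⟨AddMonoidAlgebra.single y 1, ?_⟩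
    rw [AddMonoidAlgebra.single_mul_single, mul_one]
  · intro heq
    have hmem : AddMonoidAlgebra.single a (1 : ℤ) ∈ J (a + y) := by
      rw [heq]; exact Ideal.subset_span rfl
    obtain ⟨f, hf⟩ := Ideal.mem_span_singleton'.mp hmem
    have hcoef := congrArg (fun g => g.coeff a) hf
    by_cases hex : ∃ d, d + (a + y) = a
    · obtain ⟨d, hd⟩ := hex
      have h1 : a + (d + y) = a + 0 := by
        calc a + (d + y) = d + (a + y) := by abel
          _ = a := hd
          _ = a + 0 := (add_zero a).symm
      have h2 : d + y = 0 := add_left_cancel h1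
      exact hy (eq_zero_of_add_eq_zero' hsharp h2)
    · push Not at hex
      rw [AddMonoidAlgebra.coeff_mul_single_of_forall_add_ne _ _ hex] at hcoef
      simp at hcoef

end Groth.Agent.H40.SharpWF
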