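import Mathlib

/-! # The augmentation ideal of the symmetric algebra of a projective module (helper40)

`⋂ Jⁱ = 0` for `J = (ι P)` in `Sym(P)`, `P` projective: `Sym(P)` is a retract of a polynomial ring. -/

set_option autoImplicit false

namespace Groth.Agent.H40.SymAug

variable (A₀ : Type*) [CommRing A₀] (P : Type*) [AddCommGroup P] [Module A₀ P]

/-- The augmentation ideal of the symmetric algebra. -/
def augIdeal : Ideal (SymmetricAlgebra A₀ P) := Ideal.span (Set.range (SymmetricAlgebra.ι A₀ P))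

variable {A₀ P}

theorem ι_mem_augIdeal (p : P) : SymmetricAlgebra.ι A₀ P p ∈ augIdeal A₀ P :=
  Ideal.subset_span ⟨p, rfl⟩

open MvPolynomial in
theorem eq_zero_of_forall_mem_pow [Module.Projective A₀ P] (x : SymmetricAlgebra A₀ P)
    (hx : ∀ i : ℕ, x ∈ (augIdeal A₀ P) ^ i) : x = 0 := by
  classical
  obtain ⟨s, hs⟩ := Module.projective_def'.mp ‹Module.Projective A₀ P›
  let emb : (P →₀ A₀) →ₗ[A₀] MvPolynomial P A₀ :=
    Finsupp.linearCombination A₀ (fun p : P => (X p : MvPolynomial P A₀))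
  let φ : SymmetricAlgebra A₀ P →ₐ[A₀] MvPolynomial P A₀ := SymmetricAlgebra.lift (emb ∘ₗ s)
  let ψ : MvPolynomial P A₀ →ₐ[A₀] SymmetricAlgebra A₀ P :=
    MvPolynomial.aeval (fun p : P => SymmetricAlgebra.ι A₀ P p)
  have h1 : ψ.toLinearMap ∘ₗ emb = SymmetricAlgebra.ι A₀ P ∘ₗ Finsupp.linearCombination A₀ id := by
    apply Finsupp.lhom_ext'
    intro p
    apply LinearMap.ext_ring
    simp [emb, ψ]
  have h2 : ψ.comp φ = AlgHom.id A₀ _ := by
    apply SymmetricAlgebra.algHom_ext
    ext p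
    have := LinearMap.congr_fun h1 (s p)
    have h3 := LinearMap.congr_fun hs p
    simp only [LinearMap.comp_apply, AlgHom.toLinearMap_apply, LinearMap.id_apply] at this h3
    show ψ (φ (SymmetricAlgebra.ι A₀ P p)) = SymmetricAlgebra.ι A₀ P p
    rw [show φ (SymmetricAlgebra.ι A₀ P p) = emb (s p) from SymmetricAlgebra.lift_ι_apply _ _,
      this, h3]
  have hemb : ∀ f : P →₀ A₀, emb f ∈ idealOfVars P A₀ := by
    intro f
    show Finsupp.linearCombination A₀ (fun p : P => (X p : MvPolynomial P A₀)) f ∈ _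
    rw [Finsupp.linearCombination_apply]
    refine Submodule.sum_mem _ fun p _ => ?_
    exact Submodule.smul_of_tower_mem _ _ (Ideal.subset_span ⟨p, rfl⟩)
  have hle : augIdeal A₀ P ≤ (idealOfVars P A₀).comap φ.toRingHom := by
    rw [augIdeal, Ideal.span_le]
    rintro _ ⟨p, rfl⟩
    apply Ideal.mem_comap.mpr
    show φ (SymmetricAlgebra.ι A₀ P p) ∈ _
    rw [show φ (SymmetricAlgebra.ι A₀ P p) = emb (s p) from SymmetricAlgebra.lift_ι_apply _ _]
    exact hemb _
  have h3 : φ x = 0 := by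
    ext m
    have hm : φ x ∈ idealOfVars P A₀ ^ (m.degree + 1) := by
      have := (Ideal.pow_right_mono hle (m.degree + 1)).trans (Ideal.le_comap_pow _ _) (hx _)
      exact this
    rw [coeff_zero]
    exact (mem_pow_idealOfVars_iff' _ _).mp hm m (Nat.lt_succ_self _)
  have := AlgHom.congr_fun h2 x
  rw [AlgHom.comp_apply, h3, map_zero] at this
  exact this.symm

end Groth.Agent.H40.SymAug
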