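import Mathlib
import Groth.Agent.H40.SymAug

/-! # Injectivity of `Sym(P) → A` from formal smoothness (helper40)

Let `A` be an `A₀`-algebra with an `A₀`-retraction `ε : A → A₀`, formally smooth over `R`, and
`d : A → P` an `ε`-derivation to a projective `A₀`-module. If `σ : P → ker ε` is a section of `d`
then `Sym(σ) : Sym(P) → A` is injective. -/

set_option autoImplicit false

namespace Groth.Agent.H40.SymInj

open Groth.Agent.H40.SymAug

variable {R A₀ A : Type*} [CommRing R] [CommRing A₀] [CommRing A]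
  [Algebra R A₀] [Algebra R A] [Algebra A₀ A] [IsScalarTower R A₀ A]
  {P : Type*} [AddCommGroup P] [Module A₀ P] [Module R P] [IsScalarTower R A₀ P]
  (ε : A →ₐ[A₀] A₀) (d : A →ₗ[A₀] P)
  (hd : ∀ a b : A, d (a * b) = ε a • d b + ε b • d a)

include hd in
theorem d_one : d 1 = 0 := by
  have h := hd 1 1
  rw [mul_one, map_one ε, one_smul] at h
  have : d 1 + 0 = d 1 + d 1 := by rw [add_zero]; exact h
  exact (add_left_cancel this).symm

include hd in
theorem d_algebraMap (a₀ : A₀) : d (algebraMap A₀ A a₀) = 0 := by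
  rw [Algebra.algebraMap_eq_smul_one, map_smul, d_one ε d hd, smul_zero]

/-- The first-order lift `A → C`, `a ↦ ε a + ι (d a)`, for an algebra `C` over `Sym(P)` in which
products of two elements of `P` vanish. -/
noncomputable def beta (C : Type*) [CommRing C] [Algebra (SymmetricAlgebra A₀ P) C] [Algebra R C]
    [IsScalarTower R (SymmetricAlgebra A₀ P) C]
    (hC : ∀ p p' : P, algebraMap (SymmetricAlgebra A₀ P) C
      (SymmetricAlgebra.ι A₀ P p * SymmetricAlgebra.ι A₀ P p') = 0) : A →ₐ[R] C where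
  toFun a := algebraMap (SymmetricAlgebra A₀ P) C
    (algebraMap A₀ (SymmetricAlgebra A₀ P) (ε a) + SymmetricAlgebra.ι A₀ P (d a))
  map_one' := by
    rw [map_one, map_one, d_one ε d hd, map_zero, add_zero, map_one]
  map_zero' := by
    rw [map_zero, map_zero, map_zero, map_zero, add_zero, map_zero]
  map_add' a b := by
    simp only [map_add]
    ring
  map_mul' a b := by
    have key : algebraMap A₀ (SymmetricAlgebra A₀ P) (ε (a * b)) +
        SymmetricAlgebra.ι A₀ P (d (a * b)) +
        SymmetricAlgebra.ι A₀ P (d a) * SymmetricAlgebra.ι A₀ P (d b) =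
        (algebraMap A₀ (SymmetricAlgebra A₀ P) (ε a) + SymmetricAlgebra.ι A₀ P (d a)) *
        (algebraMap A₀ (SymmetricAlgebra A₀ P) (ε b) + SymmetricAlgebra.ι A₀ P (d b)) := by
      rw [map_mul ε, map_mul (algebraMap A₀ (SymmetricAlgebra A₀ P)), hd, map_add, map_smul,
        map_smul, Algebra.smul_def, Algebra.smul_def]
      ring
    rw [← map_mul, ← key, map_add _ _ (SymmetricAlgebra.ι A₀ P (d a) * SymmetricAlgebra.ι A₀ P (d b)),
      hC, add_zero]
  commutes' r := by
    have h1 : ε (algebraMap R A r) = algebraMap R A₀ r := by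
      rw [IsScalarTower.algebraMap_apply R A₀ A, AlgHom.commutes]
      rfl
    have h2 : d (algebraMap R A r) = 0 := by
      rw [IsScalarTower.algebraMap_apply R A₀ A, d_algebraMap ε d hd]
    show algebraMap (SymmetricAlgebra A₀ P) C
      (algebraMap A₀ (SymmetricAlgebra A₀ P) (ε (algebraMap R A r)) +
        SymmetricAlgebra.ι A₀ P (d (algebraMap R A r))) = _
    rw [h1, h2, map_zero, add_zero, ← IsScalarTower.algebraMap_apply R A₀,
      ← IsScalarTower.algebraMap_apply R (SymmetricAlgebra A₀ P) C]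

theorem beta_apply (C : Type*) [CommRing C] [Algebra (SymmetricAlgebra A₀ P) C] [Algebra R C]
    [IsScalarTower R (SymmetricAlgebra A₀ P) C]
    (hC : ∀ p p' : P, algebraMap (SymmetricAlgebra A₀ P) C
      (SymmetricAlgebra.ι A₀ P p * SymmetricAlgebra.ι A₀ P p') = 0) (a : A) :
    beta (R := R) ε d hd C hC a = algebraMap (SymmetricAlgebra A₀ P) C
      (algebraMap A₀ (SymmetricAlgebra A₀ P) (ε a) + SymmetricAlgebra.ι A₀ P (d a)) := rfl

include hd in
/-- **Injectivity.** -/
theorem lift_injective [Algebra.FormallySmooth R A] [Module.Projective A₀ P]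
    (σ : P →ₗ[A₀] A) (hσε : ∀ p, ε (σ p) = 0) (hσd : ∀ p, d (σ p) = p) :
    Function.Injective (SymmetricAlgebra.lift σ) := by
  set α : SymmetricAlgebra A₀ P →ₐ[A₀] A := SymmetricAlgebra.lift σ with hα
  set J : Ideal (SymmetricAlgebra A₀ P) := augIdeal A₀ P with hJ
  rw [injective_iff_map_eq_zero]
  intro x hx
  apply eq_zero_of_forall_mem_pow
  intro i
  induction i with
  | zero => simp
  | succ i ih =>
    -- work modulo `J ^ (i + 1)`
    set j := i + 1 with hj
    clear_value j
    set 𝔟 : Ideal (SymmetricAlgebra A₀ P ⧸ J ^ j) := J.map (Ideal.Quotient.mk (J ^ j)) with h𝔟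
    have h𝔟j : 𝔟 ^ j = ⊥ := by rw [h𝔟, ← Ideal.map_pow, Ideal.map_quotient_self]
    have hInil : IsNilpotent (𝔟 ^ 2) := by
      refine ⟨j, ?_⟩
      rw [Ideal.zero_eq_bot, eq_bot_iff, ← pow_mul, ← h𝔟j]
      exact Ideal.pow_le_pow_right (by omega)
    have hC : ∀ p p' : P, algebraMap (SymmetricAlgebra A₀ P)
        ((SymmetricAlgebra A₀ P ⧸ J ^ j) ⧸ 𝔟 ^ 2)
        (SymmetricAlgebra.ι A₀ P p * SymmetricAlgebra.ι A₀ P p') = 0 := by
      intro p p'
      show Ideal.Quotient.mk (𝔟 ^ 2) (Ideal.Quotient.mk (J ^ j)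
        (SymmetricAlgebra.ι A₀ P p * SymmetricAlgebra.ι A₀ P p')) = 0
      rw [Ideal.Quotient.eq_zero_iff_mem, map_mul, pow_two]
      exact Ideal.mul_mem_mul (Ideal.mem_map_of_mem _ (ι_mem_augIdeal p))
        (Ideal.mem_map_of_mem _ (ι_mem_augIdeal p'))
    obtain ⟨φ, hφ⟩ := Algebra.FormallySmooth.exists_lift (R := R) (𝔟 ^ 2) hInil
      (beta (R := R) ε d hd _ hC)
    -- `γ = φ ∘ α` agrees with the quotient map modulo `𝔟²`
    have hβα : ∀ y : SymmetricAlgebra A₀ P,
        beta (R := R) ε d hd ((SymmetricAlgebra A₀ P ⧸ J ^ j) ⧸ 𝔟 ^ 2) hC (α y) =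
          algebraMap (SymmetricAlgebra A₀ P) _ y := by
      intro y
      induction y using SymmetricAlgebra.induction with
      | algebraMap r =>
        rw [AlgHom.commutes, beta_apply, AlgHom.commutes, d_algebraMap ε d hd, map_zero, add_zero]
        rfl
      | ι p =>
        rw [hα, SymmetricAlgebra.lift_ι_apply, beta_apply, hσε, hσd, map_zero, zero_add]
      | mul a b ha hb => rw [map_mul, map_mul, ha, hb, map_mul]
      | add a b ha hb => rw [map_add, map_add, ha, hb, map_add]
    have hγ : ∀ y : SymmetricAlgebra A₀ P, φ (α y) - Ideal.Quotient.mk (J ^ j) y ∈ 𝔟 ^ 2 := by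
      intro y
      rw [← Ideal.Quotient.eq]
      have h1 := AlgHom.congr_fun hφ (α y)
      rw [hβα] at h1
      exact h1
    have hmk : ∀ (l : ℕ) (y : SymmetricAlgebra A₀ P), y ∈ J ^ l →
        Ideal.Quotient.mk (J ^ j) y ∈ 𝔟 ^ l := by
      intro l y hy
      rw [h𝔟, ← Ideal.map_pow]
      exact Ideal.mem_map_of_mem _ hy
    have hU : ∀ (l : ℕ) (y : SymmetricAlgebra A₀ P), y ∈ J ^ l →
        φ (α y) - Ideal.Quotient.mk (J ^ j) y ∈ 𝔟 ^ (l + 1) := by
      intro l
      induction l with
      | zero =>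
        intro y _
        exact Ideal.pow_le_pow_right (by omega) (hγ y)
      | succ l ihl =>
        intro y hy
        rw [pow_succ'] at hy
        refine Submodule.mul_induction_on hy ?_ ?_
        · intro u hu v hv
          have h1 : φ (α (u * v)) - Ideal.Quotient.mk (J ^ j) (u * v) =
              φ (α u) * (φ (α v) - Ideal.Quotient.mk (J ^ j) v) +
              (φ (α u) - Ideal.Quotient.mk (J ^ j) u) * Ideal.Quotient.mk (J ^ j) v := by
            rw [map_mul, map_mul, map_mul]; ring
          rw [h1]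
          have hu1 : Ideal.Quotient.mk (J ^ j) u ∈ 𝔟 := Ideal.mem_map_of_mem _ hu
          have hu2 : φ (α u) ∈ 𝔟 := by
            have h2 : φ (α u) - Ideal.Quotient.mk (J ^ j) u ∈ 𝔟 :=
              Ideal.pow_le_self (by norm_num) (hγ u)
            have := Ideal.add_mem _ h2 hu1
            rwa [sub_add_cancel] at this
          refine Ideal.add_mem _ ?_ ?_
          · rw [pow_succ' 𝔟 (l + 1)]
            exact Ideal.mul_mem_mul hu2 (ihl v hv)
          · have e : l + 1 + 1 = 2 + l := by ring
            rw [e, pow_add 𝔟 2 l]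
            exact Ideal.mul_mem_mul (hγ u) (hmk l v hv)
        · intro u v hu hv
          have h1 : φ (α (u + v)) - Ideal.Quotient.mk (J ^ j) (u + v) =
              (φ (α u) - Ideal.Quotient.mk (J ^ j) u) +
              (φ (α v) - Ideal.Quotient.mk (J ^ j) v) := by
            rw [map_add, map_add, map_add]; ring
          rw [h1]
          exact Ideal.add_mem _ hu hv
    have h1 := hU i x ih
    rw [← hj, hx, map_zero, zero_sub, h𝔟j, Submodule.mem_bot, neg_eq_zero,
      Ideal.Quotient.eq_zero_iff_mem] at h1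
    exact h1

end Groth.Agent.H40.SymInj
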