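import Mathlib
import Groth.Agent.H40.FreeMonoid
import Groth.Agent.H40.SharpWF
import Groth.Agent.H40.SymInj

/-! # Smooth algebras graded by a fine sharp monoid are symmetric algebras over degree zero
(helper40) -/

set_option autoImplicit false
universe u

namespace Groth.Agent.H40.GradedSym

open DirectSum Groth.Agent.H40.FreeMonoid

section Eps

variable {R : Type*} [CommRing R] {A : Type*} [CommRing A] [Algebra R A]
  {N : Type*} [AddCommMonoid N] [DecidableEq N] (𝒜 : N → Submodule R A) [GradedAlgebra 𝒜]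
  (hsharp : ∀ n : N, IsAddUnit n → n = 0)

include hsharp in
theorem coe_decompose_mul_zero (a b : A) :
    ((decompose 𝒜 (a * b) 0 : 𝒜 0) : A) = (decompose 𝒜 a 0 : A) * (decompose 𝒜 b 0 : A) := by
  revert b
  refine DirectSum.Decomposition.inductionOn 𝒜 (fun b => ?_) ?_ ?_ a
  · simp only [zero_mul, decompose_zero, DirectSum.zero_apply, ZeroMemClass.coe_zero]
  · rintro i ⟨c, hc⟩
    refine DirectSum.Decomposition.inductionOn 𝒜 ?_ ?_ ?_
    · simp only [mul_zero, decompose_zero, DirectSum.zero_apply, ZeroMemClass.coe_zero]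
    · rintro j ⟨c', hc'⟩
      simp only
      by_cases h : i + j = 0
      · have hi : i = 0 := eq_zero_of_add_eq_zero hsharp h
        have hj : j = 0 := eq_zero_of_add_eq_zero' hsharp h
        rw [decompose_of_mem_same 𝒜
            (show c * c' ∈ 𝒜 0 from h ▸ SetLike.GradedMul.mul_mem hc hc'),
          decompose_of_mem_same 𝒜 (show c ∈ 𝒜 0 from hi ▸ hc),
          decompose_of_mem_same 𝒜 (show c' ∈ 𝒜 0 from hj ▸ hc')]
      · rw [decompose_of_mem_ne 𝒜 (SetLike.GradedMul.mul_mem hc hc') h]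
        have h' : i ≠ 0 ∨ j ≠ 0 := by
          by_contra hcon
          push Not at hcon
          exact h (by rw [hcon.1, hcon.2, add_zero])
        rcases h' with h' | h'
        · simp only [decompose_of_mem_ne 𝒜 hc h', zero_mul]
        · simp only [decompose_of_mem_ne 𝒜 hc' h', mul_zero]
    · intro _ _ hd he
      simp only [mul_add, decompose_add, DirectSum.add_apply, AddMemClass.coe_add, hd, he]
  · rintro _ _ ha hb _
    simp only [add_mul, decompose_add, DirectSum.add_apply, AddMemClass.coe_add, ha, hb]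

/-- The degree-zero projection as an algebra retraction `A → A₀`. -/
noncomputable def eps : A →ₐ[𝒜 0] 𝒜 0 where
  toFun a := decompose 𝒜 a 0
  map_one' := Subtype.ext (decompose_of_mem_same 𝒜 SetLike.GradedOne.one_mem)
  map_zero' := by rw [decompose_zero, DirectSum.zero_apply]
  map_add' a b := by rw [decompose_add, DirectSum.add_apply]
  map_mul' a b := Subtype.ext (coe_decompose_mul_zero 𝒜 hsharp a b)
  commutes' a₀ := by
    apply Subtype.ext
    show ((decompose 𝒜 (a₀ : A) 0 : 𝒜 0) : A) = a₀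
    rw [decompose_coe, of_eq_same]

theorem eps_apply (a : A) : eps 𝒜 hsharp a = decompose 𝒜 a 0 := rfl

theorem coe_eps_of_mem {n : N} (hn : n ≠ 0) {a : A} (ha : a ∈ 𝒜 n) : eps 𝒜 hsharp a = 0 := by
  apply Subtype.ext
  rw [eps_apply, decompose_of_mem_ne 𝒜 ha hn]
  rfl

end Eps

section Conormal

variable {R : Type u} [CommRing R] {A : Type u} [CommRing A] [Algebra R A]
  {N : Type} [AddCommMonoid N] [DecidableEq N] (𝒜 : N → Submodule R A) [GradedAlgebra 𝒜]
  (hsharp : ∀ n : N, IsAddUnit n → n = 0)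

/-- `R → A₀ → A` is a tower. -/
theorem isScalarTower_zero : IsScalarTower R (𝒜 0) A :=
  IsScalarTower.of_algebraMap_eq (fun _ => rfl)

attribute [local instance] isScalarTower_zero

/-- The irrelevant ideal: the kernel of the degree-zero projection. -/
noncomputable abbrev irr : Ideal A := RingHom.ker (eps 𝒜 hsharp).toRingHom

theorem mem_irr (a : A) : a ∈ irr 𝒜 hsharp ↔ eps 𝒜 hsharp a = 0 := Iff.rfl

include hsharp in
/-- `A₀` is formally smooth over `R`, as a retract of `A`. -/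
theorem formallySmooth_zero [Algebra.FormallySmooth R A] : Algebra.FormallySmooth R (𝒜 0) := by
  let f : A →ₐ[R] 𝒜 0 := (eps 𝒜 hsharp).restrictScalars R
  let g : 𝒜 0 →ₐ[R] A ⧸ RingHom.ker f.toRingHom ^ 2 :=
    (Ideal.Quotient.mkₐ R _).comp (IsScalarTower.toAlgHom R (𝒜 0) A)
  refine Algebra.FormallySmooth.of_split f g ?_
  ext a₀
  show ((f.kerSquareLift (Ideal.Quotient.mk _ (algebraMap (𝒜 0) A a₀)) : 𝒜 0) : A) = a₀
  rw [AlgHom.kerSquareLift_mk]
  show ((eps 𝒜 hsharp (algebraMap (𝒜 0) A a₀) : 𝒜 0) : A) = a₀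
  rw [AlgHom.commutes]
  rfl

open TensorProduct KaehlerDifferential in
include hsharp in
/-- The conormal module `I/I²` of the zero section is finitely generated projective over `A₀`. -/
theorem projective_finite_cotangent [Algebra.FormallySmooth R A] [Algebra.FiniteType R A] :
    Module.Projective (𝒜 0) (irr 𝒜 hsharp).Cotangent ∧
      Module.Finite (𝒜 0) (irr 𝒜 hsharp).Cotangent := by
  let algA : Algebra A (𝒜 0) := (eps 𝒜 hsharp).toRingHom.toAlgebra
  have tower : IsScalarTower R A (𝒜 0) := IsScalarTower.of_algebraMap_eq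
    (fun r => (((eps 𝒜 hsharp).restrictScalars R).commutes r).symm)
  have hsurj : Function.Surjective (algebraMap A (𝒜 0)) :=
    fun a₀ => ⟨algebraMap (𝒜 0) A a₀, (eps 𝒜 hsharp).commutes a₀⟩
  have := formallySmooth_zero 𝒜 hsharp
  obtain ⟨l, hl⟩ := (Algebra.FormallySmooth.iff_split_injection (R := R) (P := A) (A := 𝒜 0)
    hsurj).mp inferInstance
  have hcomm : ∀ a₀ : 𝒜 0, algebraMap A (𝒜 0) (algebraMap (𝒜 0) A a₀) = a₀ :=
    fun a₀ => (eps 𝒜 hsharp).commutes a₀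
  let i' : (irr 𝒜 hsharp).Cotangent →ₗ[𝒜 0] (𝒜 0) ⊗[A] Ω[A⁄R] :=
    { toFun := fun p => kerCotangentToTensor R A (𝒜 0) p
      map_add' := fun p p' => map_add _ p p'
      map_smul' := fun a₀ p => by
        rw [← algebraMap_smul A a₀ p, map_smul, RingHom.id_apply,
          ← algebraMap_smul (𝒜 0) (algebraMap (𝒜 0) A a₀), hcomm] }
  let l' : (𝒜 0) ⊗[A] Ω[A⁄R] →ₗ[𝒜 0] (irr 𝒜 hsharp).Cotangent :=
    { toFun := fun m => l m
      map_add' := fun m m' => map_add l m m'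
      map_smul' := fun a₀ m => by
        rw [RingHom.id_apply, ← algebraMap_smul A a₀ (l m), ← map_smul,
          ← algebraMap_smul (𝒜 0) (algebraMap (𝒜 0) A a₀) m, hcomm] }
  have hli : l' ∘ₗ i' = LinearMap.id := by
    ext p
    exact LinearMap.congr_fun hl p
  refine ⟨Module.Projective.of_split i' l' hli, Module.Finite.of_surjective l' ?_⟩
  intro p
  exact ⟨i' p, LinearMap.congr_fun hli p⟩

end Conormal

section Graded

variable {R : Type u} [CommRing R] {A : Type u} [CommRing A] [Algebra R A]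
  {N : Type} [AddCommMonoid N] [DecidableEq N] (𝒜 : N → Submodule R A) [GradedAlgebra 𝒜]
  (hsharp : ∀ n : N, IsAddUnit n → n = 0)

attribute [local instance] isScalarTower_zero

/-- The homogeneous component of degree `n` as an `A₀`-linear map. -/
noncomputable def pjL (n : N) : A →ₗ[𝒜 0] A where
  toFun a := (decompose 𝒜 a n : A)
  map_add' a b := by rw [decompose_add, DirectSum.add_apply, Submodule.coe_add]
  map_smul' a₀ a := by
    rw [RingHom.id_apply, Algebra.smul_def, Algebra.smul_def, SetLike.GradeZero.algebraMap_apply,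
      coe_decompose_mul_of_left_mem_zero 𝒜 a₀.2]

theorem pjL_apply (n : N) (a : A) : pjL 𝒜 n a = (decompose 𝒜 a n : A) := rfl

theorem pjL_mem (n : N) (a : A) : pjL 𝒜 n a ∈ 𝒜 n := (decompose 𝒜 a n).2

theorem pjL_of_mem {n : N} {a : A} (ha : a ∈ 𝒜 n) : pjL 𝒜 n a = a :=
  decompose_of_mem_same 𝒜 ha

theorem pjL_of_mem_ne {n m : N} {a : A} (ha : a ∈ 𝒜 n) (h : n ≠ m) : pjL 𝒜 m a = 0 :=
  decompose_of_mem_ne 𝒜 ha h

theorem pjL_pjL_same (n : N) (a : A) : pjL 𝒜 n (pjL 𝒜 n a) = pjL 𝒜 n a :=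
  pjL_of_mem 𝒜 (pjL_mem 𝒜 n a)

theorem pjL_pjL_ne {n m : N} (h : n ≠ m) (a : A) : pjL 𝒜 m (pjL 𝒜 n a) = 0 :=
  pjL_of_mem_ne 𝒜 (pjL_mem 𝒜 n a) h

theorem coe_eps (a : A) : ((eps 𝒜 hsharp a : 𝒜 0) : A) = pjL 𝒜 0 a := rfl

open Classical in
theorem sum_pjL (a : A) (T : Finset N) (hT : (decompose 𝒜 a).support ⊆ T) :
    ∑ n ∈ T, pjL 𝒜 n a = a := by
  conv_rhs => rw [← DirectSum.sum_support_decompose 𝒜 a]
  symm
  apply Finset.sum_subset hT
  intro n _ hn
  rw [DFinsupp.notMem_support_iff] at hn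
  rw [hn]
  rfl

/-- The irrelevant ideal is homogeneous. -/
theorem irr_isHomogeneous : (irr 𝒜 hsharp).IsHomogeneous 𝒜 := by
  intro n a ha
  rw [mem_irr] at ha ⊢
  apply Subtype.ext
  rw [coe_eps]
  show pjL 𝒜 0 (pjL 𝒜 n a) = 0
  by_cases h : n = 0
  · subst h
    rw [pjL_pjL_same, ← coe_eps 𝒜 hsharp, ha]
    rfl
  · exact pjL_pjL_ne 𝒜 h a

theorem irr_sq_isHomogeneous : ((irr 𝒜 hsharp) ^ 2).IsHomogeneous 𝒜 := by
  rw [pow_two]
  exact (irr_isHomogeneous 𝒜 hsharp).mul (irr_isHomogeneous 𝒜 hsharp)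

theorem mem_irr_of_mem {n : N} (hn : n ≠ 0) {a : A} (ha : a ∈ 𝒜 n) : a ∈ irr 𝒜 hsharp :=
  (mem_irr 𝒜 hsharp a).mpr (coe_eps_of_mem 𝒜 hsharp hn ha)

theorem sub_eps_mem_irr (a : A) :
    a - algebraMap (𝒜 0) A (eps 𝒜 hsharp a) ∈ irr 𝒜 hsharp := by
  rw [mem_irr, map_sub, AlgHom.commutes]
  simp

/-- The `ε`-derivation `A → I/I²`, `a ↦ [a - ε a]`. -/
noncomputable def dmap : A →ₗ[𝒜 0] (irr 𝒜 hsharp).Cotangent where
  toFun a := (irr 𝒜 hsharp).toCotangent ⟨a - algebraMap (𝒜 0) A (eps 𝒜 hsharp a),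
    sub_eps_mem_irr 𝒜 hsharp a⟩
  map_add' a b := by
    rw [← map_add]
    congr 1
    apply Subtype.ext
    simp only [map_add, Submodule.coe_add]
    ring
  map_smul' a₀ a := by
    rw [RingHom.id_apply, ← LinearMap.map_smul_of_tower]
    congr 1
    apply Subtype.ext
    rw [Submodule.coe_smul_of_tower]
    show a₀ • a - algebraMap (𝒜 0) A (eps 𝒜 hsharp (a₀ • a)) =
      a₀ • (a - algebraMap (𝒜 0) A (eps 𝒜 hsharp a))
    rw [map_smul]
    simp only [smul_eq_mul, Algebra.smul_def, map_mul]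
    ring

theorem dmap_apply (a : A) : dmap 𝒜 hsharp a =
    (irr 𝒜 hsharp).toCotangent ⟨a - algebraMap (𝒜 0) A (eps 𝒜 hsharp a),
      sub_eps_mem_irr 𝒜 hsharp a⟩ := rfl

theorem dmap_of_mem (x : irr 𝒜 hsharp) : dmap 𝒜 hsharp x = (irr 𝒜 hsharp).toCotangent x := by
  rw [dmap_apply]
  congr 1
  apply Subtype.ext
  have : eps 𝒜 hsharp (x : A) = 0 := x.2
  simp only [this, map_zero, sub_zero]

theorem dmap_mul (a b : A) : dmap 𝒜 hsharp (a * b) =
    eps 𝒜 hsharp a • dmap 𝒜 hsharp b + eps 𝒜 hsharp b • dmap 𝒜 hsharp a := by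
  rw [dmap_apply, dmap_apply, dmap_apply, ← LinearMap.map_smul_of_tower,
    ← LinearMap.map_smul_of_tower, ← map_add, Ideal.toCotangent_eq, pow_two]
  have h1 : a - algebraMap (𝒜 0) A (eps 𝒜 hsharp a) ∈ irr 𝒜 hsharp := sub_eps_mem_irr 𝒜 hsharp a
  have h2 : b - algebraMap (𝒜 0) A (eps 𝒜 hsharp b) ∈ irr 𝒜 hsharp := sub_eps_mem_irr 𝒜 hsharp b
  have h3 := Ideal.mul_mem_mul h1 h2
  convert h3 using 1
  simp only [Submodule.coe_add, Submodule.coe_smul_of_tower, Algebra.smul_def, map_mul]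
  ring

theorem sum_pjL' (a : A) (T : Finset N) (hT : ∀ n, n ∉ T → pjL 𝒜 n a = 0) :
    ∑ n ∈ T, pjL 𝒜 n a = a := by
  classical
  apply sum_pjL
  intro n hn
  by_contra h
  rw [DFinsupp.mem_support_iff] at hn
  exact hn (Subtype.ext (hT n h))

theorem pjL_mem_irr (n : N) {a : A} (ha : a ∈ irr 𝒜 hsharp) : pjL 𝒜 n a ∈ irr 𝒜 hsharp :=
  irr_isHomogeneous 𝒜 hsharp n ha

theorem dmap_eq_zero_of_mem_sq {a : A} (ha : a ∈ irr 𝒜 hsharp ^ 2) : dmap 𝒜 hsharp a = 0 := by
  have ha' : a ∈ irr 𝒜 hsharp := Ideal.pow_le_self (by norm_num) ha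
  rw [dmap_of_mem 𝒜 hsharp ⟨a, ha'⟩, Ideal.toCotangent_eq_zero]
  exact ha

theorem mem_sq_of_dmap_eq_zero {a : A} (ha : a ∈ irr 𝒜 hsharp) (h : dmap 𝒜 hsharp a = 0) :
    a ∈ irr 𝒜 hsharp ^ 2 := by
  rw [dmap_of_mem 𝒜 hsharp ⟨a, ha⟩, Ideal.toCotangent_eq_zero] at h
  exact h

include hsharp in
/-- A graded `A₀`-linear section of `I → I/I²`. -/
theorem exists_graded_section [Algebra.FormallySmooth R A] [Algebra.FiniteType R A] :
    ∃ σ : (irr 𝒜 hsharp).Cotangent →ₗ[𝒜 0] A, (∀ p, σ p ∈ irr 𝒜 hsharp) ∧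
      (∀ p, dmap 𝒜 hsharp (σ p) = p) ∧
      ∀ (n : N) (a : A), a ∈ 𝒜 n → a ∈ irr 𝒜 hsharp → σ (dmap 𝒜 hsharp a) ∈ 𝒜 n := by
  classical
  obtain ⟨hproj, hfin⟩ := projective_finite_cotangent 𝒜 hsharp
  -- an arbitrary section
  let q₀ : irr 𝒜 hsharp →ₗ[𝒜 0] (irr 𝒜 hsharp).Cotangent :=
    (irr 𝒜 hsharp).toCotangent.restrictScalars (𝒜 0)
  have hq₀ : Function.Surjective q₀ := (irr 𝒜 hsharp).toCotangent_surjective
  obtain ⟨s, hs⟩ := Module.projective_lifting_property q₀ LinearMap.id hq₀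
  let σ₀ : (irr 𝒜 hsharp).Cotangent →ₗ[𝒜 0] A :=
    ((irr 𝒜 hsharp).subtype.restrictScalars (𝒜 0)) ∘ₗ s
  have hσ₀mem : ∀ p, σ₀ p ∈ irr 𝒜 hsharp := fun p => (s p).2
  have hσ₀d : ∀ p, dmap 𝒜 hsharp (σ₀ p) = p := by
    intro p
    have h1 : dmap 𝒜 hsharp (σ₀ p) = (irr 𝒜 hsharp).toCotangent (s p) :=
      dmap_of_mem 𝒜 hsharp (s p)
    rw [h1]
    exact LinearMap.congr_fun hs p
  -- Fact F
  have hF : ∀ (n : N) (y : A), y ∈ irr 𝒜 hsharp →
      dmap 𝒜 hsharp (pjL 𝒜 n (σ₀ (dmap 𝒜 hsharp y))) = dmap 𝒜 hsharp (pjL 𝒜 n y) := by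
    intro n y hy
    have h1 : y - σ₀ (dmap 𝒜 hsharp y) ∈ irr 𝒜 hsharp ^ 2 := by
      apply mem_sq_of_dmap_eq_zero 𝒜 hsharp (Ideal.sub_mem _ hy (hσ₀mem _))
      rw [map_sub, hσ₀d, sub_self]
    have h2 : pjL 𝒜 n (y - σ₀ (dmap 𝒜 hsharp y)) ∈ irr 𝒜 hsharp ^ 2 :=
      irr_sq_isHomogeneous 𝒜 hsharp n h1
    have h3 := dmap_eq_zero_of_mem_sq 𝒜 hsharp h2
    rw [map_sub, map_sub, sub_eq_zero] at h3
    exact h3.symm
  -- the finite set of degrees
  obtain ⟨G, hG⟩ := hfin.fg_top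
  let T : Finset N := G.biUnion (fun p => (decompose 𝒜 (σ₀ p)).support)
  have hT : ∀ p, ∀ n, n ∉ T → pjL 𝒜 n (σ₀ p) = 0 := by
    intro p n hn
    have hp : p ∈ Submodule.span (𝒜 0) (G : Set (irr 𝒜 hsharp).Cotangent) := by
      rw [hG]; exact Submodule.mem_top
    induction hp using Submodule.span_induction with
    | mem p hp =>
      have : n ∉ (decompose 𝒜 (σ₀ p)).support := by
        intro h
        exact hn (Finset.mem_biUnion.mpr ⟨p, hp, h⟩)
      rw [DFinsupp.notMem_support_iff] at this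
      rw [pjL_apply, this]
      rfl
    | zero => rw [map_zero, map_zero]
    | add x y _ _ hx hy => rw [map_add, map_add, hx, hy, add_zero]
    | smul c x _ hx => rw [map_smul, map_smul, hx, smul_zero]
  -- the graded section
  let σ : (irr 𝒜 hsharp).Cotangent →ₗ[𝒜 0] A :=
    ∑ n ∈ T, (pjL 𝒜 n) ∘ₗ σ₀ ∘ₗ (dmap 𝒜 hsharp) ∘ₗ (pjL 𝒜 n) ∘ₗ σ₀
  have hσ : ∀ p, σ p = ∑ n ∈ T, pjL 𝒜 n (σ₀ (dmap 𝒜 hsharp (pjL 𝒜 n (σ₀ p)))) := by
    intro p
    simp only [σ, LinearMap.sum_apply, LinearMap.comp_apply]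
  refine ⟨σ, fun p => ?_, fun p => ?_, fun n a han hai => ?_⟩
  · rw [hσ]
    exact Ideal.sum_mem _ fun n _ => pjL_mem_irr 𝒜 hsharp n (hσ₀mem _)
  · rw [hσ, map_sum]
    have : ∀ n ∈ T, dmap 𝒜 hsharp (pjL 𝒜 n (σ₀ (dmap 𝒜 hsharp (pjL 𝒜 n (σ₀ p))))) =
        dmap 𝒜 hsharp (pjL 𝒜 n (σ₀ p)) := by
      intro n _
      rw [hF n _ (pjL_mem_irr 𝒜 hsharp n (hσ₀mem p)), pjL_pjL_same]
    rw [Finset.sum_congr rfl this, ← map_sum, sum_pjL' 𝒜 (σ₀ p) T (hT p), hσ₀d]
  · rw [hσ]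
    refine Submodule.sum_mem _ fun m _ => ?_
    rw [hF m a hai]
    by_cases hmn : n = m
    · subst hmn
      exact pjL_mem 𝒜 n _
    · rw [pjL_of_mem_ne 𝒜 han hmn, map_zero, map_zero, map_zero]
      exact Submodule.zero_mem _

end Graded

section Main

variable {R : Type u} [CommRing R] {A : Type u} [CommRing A] [Algebra R A]
  {N : Type} [AddCommMonoid N] [DecidableEq N] (𝒜 : N → Submodule R A) [GradedAlgebra 𝒜]
  (hsharp : ∀ n : N, IsAddUnit n → n = 0)

attribute [local instance] isScalarTower_zero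

open Groth.Agent.H40.SharpWF in
/-- A graded `A₀`-subalgebra containing graded lifts of `I/I²` is everything. -/
theorem mem_of_graded_section [AddMonoid.FG N] [IsCancelAdd N]
    (A' : Subalgebra (𝒜 0) A)
    (σ : (irr 𝒜 hsharp).Cotangent →ₗ[𝒜 0] A) (hσA' : ∀ p, σ p ∈ A')
    (hσd : ∀ p, dmap 𝒜 hsharp (σ p) = p) (hσmem : ∀ p, σ p ∈ irr 𝒜 hsharp)
    (hσgr : ∀ (n : N) (a : A), a ∈ 𝒜 n → a ∈ irr 𝒜 hsharp → σ (dmap 𝒜 hsharp a) ∈ 𝒜 n)
    (a : A) : a ∈ A' := by
  classical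
  have hhom : ∀ (n : N) (a : A), a ∈ 𝒜 n → a ∈ A' := by
    intro n
    induction n using (wellFounded_sdvd (N := N) hsharp).induction with
    | _ n ih =>
      intro a ha
      by_cases hn : n = 0
      · subst hn
        exact A'.algebraMap_mem ⟨a, ha⟩
      · have hai : a ∈ irr 𝒜 hsharp := mem_irr_of_mem 𝒜 hsharp hn ha
        set y := σ (dmap 𝒜 hsharp a) with hy
        have hyn : y ∈ 𝒜 n := hσgr n a ha hai
        have hrn : a - y ∈ 𝒜 n := Submodule.sub_mem _ ha hyn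
        have hri : a - y ∈ irr 𝒜 hsharp := Ideal.sub_mem _ hai (hσmem _)
        have hr2 : a - y ∈ irr 𝒜 hsharp * irr 𝒜 hsharp := by
          rw [← pow_two]
          apply mem_sq_of_dmap_eq_zero 𝒜 hsharp hri
          rw [map_sub, hy, hσd, sub_self]
        -- degree `n` components of elements of `I²` lie in `A'`
        have key : ∀ x ∈ irr 𝒜 hsharp * irr 𝒜 hsharp, pjL 𝒜 n x ∈ A' := by
          intro x hx
          refine Submodule.mul_induction_on hx ?_ ?_
          · intro u hu v hv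
            rw [pjL_apply, decompose_mul, DirectSum.coe_mul_apply]
            refine Subalgebra.sum_mem _ fun ij hij => ?_
            rw [Finset.mem_filter] at hij
            obtain ⟨-, hsum⟩ := hij
            by_cases hi : ij.1 = 0
            · have : ((decompose 𝒜 u ij.1 : 𝒜 ij.1) : A) = 0 := by
                rw [hi]
                have := (mem_irr 𝒜 hsharp u).mp hu
                rw [← pjL_apply, ← coe_eps 𝒜 hsharp, this]
                rfl
              rw [this, zero_mul]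
              exact Subalgebra.zero_mem _
            by_cases hj : ij.2 = 0
            · have : ((decompose 𝒜 v ij.2 : 𝒜 ij.2) : A) = 0 := by
                rw [hj]
                have := (mem_irr 𝒜 hsharp v).mp hv
                rw [← pjL_apply, ← coe_eps 𝒜 hsharp, this]
                rfl
              rw [this, mul_zero]
              exact Subalgebra.zero_mem _
            · have h1 : sdvd ij.1 n := ⟨ij.2, hj, hsum⟩
              have h2 : sdvd ij.2 n := ⟨ij.1, hi, by rw [add_comm]; exact hsum⟩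
              exact Subalgebra.mul_mem _ (ih _ h1 _ (decompose 𝒜 u ij.1).2)
                (ih _ h2 _ (decompose 𝒜 v ij.2).2)
          · intro u v hu hv
            rw [map_add]
            exact Subalgebra.add_mem _ hu hv
        have h3 := key _ hr2
        rw [pjL_of_mem 𝒜 hrn] at h3
        have : a = (a - y) + y := by ring
        rw [this]
        exact Subalgebra.add_mem _ h3 (hσA' _)
  rw [← DirectSum.sum_support_decompose 𝒜 a]
  exact Subalgebra.sum_mem _ fun n _ => hhom n _ (decompose 𝒜 a n).2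

include hsharp in
/-- **Main theorem**: a smooth algebra graded by a fine sharp monoid is a symmetric algebra over its
degree-zero part. -/
theorem exists_algEquiv_symmetricAlgebra [AddMonoid.FG N] [IsCancelAdd N] [Algebra.Smooth R A] :
    ∃ (P : Type u) (_ : AddCommGroup P) (_ : Module (𝒜 0) P), Module.Finite (𝒜 0) P ∧
      Module.Projective (𝒜 0) P ∧ Nonempty (A ≃ₐ[𝒜 0] SymmetricAlgebra (𝒜 0) P) := by
  have hft : Algebra.FiniteType R A := inferInstance
  obtain ⟨hproj, hfin⟩ := projective_finite_cotangent 𝒜 hsharp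
  obtain ⟨σ, hσmem, hσd, hσgr⟩ := exists_graded_section 𝒜 hsharp
  refine ⟨(irr 𝒜 hsharp).Cotangent, inferInstance, inferInstance, hfin, hproj, ?_⟩
  let α : SymmetricAlgebra (𝒜 0) (irr 𝒜 hsharp).Cotangent →ₐ[𝒜 0] A := SymmetricAlgebra.lift σ
  have hinj : Function.Injective α :=
    Groth.Agent.H40.SymInj.lift_injective (R := R) (eps 𝒜 hsharp) (dmap 𝒜 hsharp)
      (dmap_mul 𝒜 hsharp) σ (fun p => (mem_irr 𝒜 hsharp _).mp (hσmem p)) hσd
  have hsurj : Function.Surjective α := by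
    intro a
    have : a ∈ α.range := by
      apply mem_of_graded_section 𝒜 hsharp α.range σ ?_ hσd hσmem hσgr
      intro p
      exact ⟨SymmetricAlgebra.ι _ _ p, SymmetricAlgebra.lift_ι_apply _ _⟩
    exact this
  exact ⟨(AlgEquiv.ofBijective α ⟨hinj, hsurj⟩).symm⟩

end Main

end Groth.Agent.H40.GradedSym
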