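import Groth.Agent.H40.Coeff
import Groth.Prelude.Def_ComodTens

/-! Helper lemmas (helper40): the stabilizer of `W ⊗ W'` in a tensor product of comodules. -/

set_option autoImplicit false
universe u v v'

open TensorProduct

namespace Groth.Agent.H40

section StabTensor

variable {k A : Type u} [Field k] [CommRing A] [HopfAlgebra k A]
  {R : Type u} [CommRing R] [Algebra k R] (g : A →ₐ[k] R)

section One

variable {V : Type v} [AddCommGroup V] [Module k V] (c : HopfRep.Comod k A V)

/-- `v ⊗ r ↦ g(S(ℓ-coefficient of v)) r`: the functional `ℓ ∘ g⁻¹` on `V ⊗ R`. -/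
noncomputable def invFun (ℓ : V →ₗ[k] k) : V ⊗[k] R →ₗ[k] R :=
  LinearMap.mul' k R ∘ₗ TensorProduct.map
    (g.toLinearMap ∘ₗ (HopfAlgebra.antipode k (A := A)) ∘ₗ @coeffMap k _ A _ _ _ V _ _ c ℓ)
    LinearMap.id

theorem invFun_tmul (ℓ : V →ₗ[k] k) (v : V) (r : R) :
    invFun g c ℓ (v ⊗ₜ[k] r) =
      g (HopfAlgebra.antipode k (@coeffMap k _ A _ _ _ V _ _ c ℓ v)) * r := rfl

theorem counit_coeffMap (ℓ : V →ₗ[k] k) (v : V) :
    Coalgebra.counit (R := k) (A := A) (@coeffMap k _ A _ _ _ V _ _ c ℓ v) = ℓ v := by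
  let _ := c
  have h := CoactBr.comod_counit_apply (k := k) (A := A) v
  rw [coeffMap_apply]
  generalize HopfRep.Comod.coact (k := k) (A := A) v = t at h
  have h2 : ∀ t : V ⊗[k] A, Coalgebra.counit (R := k) (A := A) (lslice ℓ t) =
      TensorProduct.lid k k ((ℓ.rTensor k) ((Coalgebra.counit (R := k) (A := A)).lTensor V t)) := by
    intro t
    induction t using TensorProduct.induction_on with
    | zero => simp
    | tmul x a => simp [lslice_tmul]
    | add p q hp hq => simp only [map_add, hp, hq]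
  rw [h2, h]
  simp

theorem invFun_gact (ℓ : V →ₗ[k] k) (v : V) :
    invFun g c ℓ (LinearMap.lTensor V g.toLinearMap (c.coact v)) = algebraMap k R (ℓ v) := by
  let _ := c
  have h1 : ∀ t : V ⊗[k] A, invFun g c ℓ (LinearMap.lTensor V g.toLinearMap t) =
      g (LinearMap.mul' k A ((HopfAlgebra.antipode k (A := A)).rTensor A
        ((coeffMap (C := A) ℓ).rTensor A t))) := by
    intro t
    induction t using TensorProduct.induction_on with
    | zero => simp
    | tmul x a => simp [invFun_tmul]
    | add p q hp hq => simp only [map_add, hp, hq]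
  rw [h1]
  have h2 := LinearMap.congr_fun (isComodHom_coeffMap (C := A) ℓ) v
  simp only [LinearMap.comp_apply] at h2
  change Coalgebra.comul (R := k) (coeffMap (C := A) ℓ v) = _ at h2
  rw [← h2, HopfAlgebra.mul_antipode_rTensor_comul_apply, counit_coeffMap]
  simp

end One

section Two

variable {V : Type v} [AddCommGroup V] [Module k V] (c : HopfRep.Comod k A V)
  {V' : Type v'} [AddCommGroup V'] [Module k V'] (c' : HopfRep.Comod k A V')

/-- `(v ⊗ r) ⊗ (v' ⊗ r') ↦ (v ⊗ v') ⊗ r r'`. -/
noncomputable def prodR : (V ⊗[k] R) ⊗[k] (V' ⊗[k] R) →ₗ[k] (V ⊗[k] V') ⊗[k] R :=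
  TensorProduct.map LinearMap.id (LinearMap.mul' k R) ∘ₗ
    (AlgebraTensorModule.tensorTensorTensorComm k k k k V R V' R).toLinearMap

theorem prodR_tmul (v : V) (r : R) (v' : V') (r' : R) :
    prodR (k := k) ((v ⊗ₜ[k] r) ⊗ₜ[k] (v' ⊗ₜ[k] r')) = (v ⊗ₜ[k] v') ⊗ₜ[k] (r * r') := by
  simp [prodR]

theorem gact_tensor (v : V) (v' : V') :
    LinearMap.lTensor (V ⊗[k] V') g.toLinearMap ((ComodTens.Comod.tensor c c').coact (v ⊗ₜ[k] v')) =
      prodR (LinearMap.lTensor V g.toLinearMap (c.coact v) ⊗ₜ[k]
        LinearMap.lTensor V' g.toLinearMap (c'.coact v')) := by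
  rw [ComodTens.tensor_coact_tmul]
  generalize c.coact v = s
  generalize c'.coact v' = t
  induction s using TensorProduct.induction_on with
  | zero => simp
  | tmul x a =>
    induction t using TensorProduct.induction_on with
    | zero => simp
    | tmul y b => simp [prodR_tmul]
    | add p q hp hq => simp only [TensorProduct.tmul_add, map_add, hp, hq]
  | add p q hp hq => simp only [TensorProduct.add_tmul, map_add, hp, hq]

/-- `Ψ : (V ⊗ V') ⊗ R → V ⊗ R`, applying `invFun` to the last two factors. -/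
noncomputable def psiL (ℓ : V' →ₗ[k] k) : (V ⊗[k] V') ⊗[k] R →ₗ[k] V ⊗[k] R :=
  LinearMap.lTensor V (invFun g c' ℓ) ∘ₗ (TensorProduct.assoc k V V' R).toLinearMap

/-- `Ψ' : (V ⊗ V') ⊗ R → V' ⊗ R`, applying `invFun` to the first and last factors. -/
noncomputable def psiR (ℓ : V →ₗ[k] k) : (V ⊗[k] V') ⊗[k] R →ₗ[k] V' ⊗[k] R :=
  LinearMap.lTensor V' (invFun g c ℓ) ∘ₗ (TensorProduct.assoc k V' V R).toLinearMap ∘ₗ
    LinearMap.rTensor R (TensorProduct.comm k V V').toLinearMap

theorem psiL_prodR (ℓ : V' →ₗ[k] k) (x : V ⊗[k] R) (s' : V' ⊗[k] R) :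
    psiL g c' ℓ (prodR (x ⊗ₜ[k] s')) =
      LinearMap.lTensor V (LinearMap.mulRight k (invFun g c' ℓ s')) x := by
  induction x using TensorProduct.induction_on with
  | zero => simp
  | tmul v r =>
    induction s' using TensorProduct.induction_on with
    | zero => simp
    | tmul v' r' =>
      simp only [prodR_tmul, psiL, LinearMap.comp_apply, LinearEquiv.coe_coe,
        TensorProduct.assoc_tmul, LinearMap.lTensor_tmul, invFun_tmul, LinearMap.mulRight_apply]
      congr 1
      ring
    | add p q hp hq =>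
      simp only [TensorProduct.tmul_add, map_add, hp, hq, LinearMap.lTensor_tmul,
        LinearMap.mulRight_apply, mul_add]
  | add p q hp hq => simp only [TensorProduct.add_tmul, map_add, hp, hq]

theorem psiR_prodR (ℓ : V →ₗ[k] k) (x : V ⊗[k] R) (s' : V' ⊗[k] R) :
    psiR g c ℓ (prodR (x ⊗ₜ[k] s')) =
      LinearMap.lTensor V' (LinearMap.mulRight k (invFun g c ℓ x)) s' := by
  induction s' using TensorProduct.induction_on with
  | zero => simp
  | tmul v' r' =>
    induction x using TensorProduct.induction_on with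
    | zero => simp
    | tmul v r =>
      simp only [prodR_tmul, psiR, LinearMap.comp_apply, LinearEquiv.coe_coe,
        LinearMap.rTensor_tmul, TensorProduct.comm_tmul,
        TensorProduct.assoc_tmul, LinearMap.lTensor_tmul, invFun_tmul, LinearMap.mulRight_apply]
      congr 1
      ring
    | add p q hp hq =>
      simp only [TensorProduct.add_tmul, map_add, hp, hq, LinearMap.lTensor_tmul,
        LinearMap.mulRight_apply, mul_add, TensorProduct.tmul_add]
  | add p q hp hq => simp only [TensorProduct.tmul_add, map_add, hp, hq]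

end Two

section Main

variable {V : Type v} [AddCommGroup V] [Module k V] (c : HopfRep.Comod k A V)
  {V' : Type v'} [AddCommGroup V'] [Module k V'] (c' : HopfRep.Comod k A V')
  (W : Submodule k V) (W' : Submodule k V')

omit [CommRing A] [HopfAlgebra k A] in
theorem tmul_mem_range_rTensor_subtype {M : Type*} [AddCommGroup M] [Module k M]
    (S : Submodule k M) {m : M} (hm : m ∈ S) (r : R) :
    m ⊗ₜ[k] r ∈ LinearMap.range (S.subtype.rTensor R) :=
  ⟨(⟨m, hm⟩ : S) ⊗ₜ[k] r, by simp⟩

omit [CommRing A] [HopfAlgebra k A] in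
theorem tmul_mem_range_mapIncl {w : V} (hw : w ∈ W) {w' : V'} (hw' : w' ∈ W') :
    w ⊗ₜ[k] w' ∈ LinearMap.range (TensorProduct.mapIncl W W') :=
  ⟨(⟨w, hw⟩ : W) ⊗ₜ[k] (⟨w', hw'⟩ : W'), by simp [TensorProduct.mapIncl]⟩

theorem psiL_mem (ℓ : V' →ₗ[k] k) (z : (V ⊗[k] V') ⊗[k] R)
    (hz : z ∈ LinearMap.range ((LinearMap.range (TensorProduct.mapIncl W W')).subtype.rTensor R)) :
    psiL g c' ℓ z ∈ LinearMap.range (W.subtype.rTensor R) := by
  obtain ⟨y, rfl⟩ := hz
  induction y using TensorProduct.induction_on with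
  | zero => simp
  | tmul t r =>
    obtain ⟨t, u, rfl⟩ := t
    change psiL g c' ℓ ((TensorProduct.mapIncl W W' u) ⊗ₜ[k] r) ∈ _
    induction u using TensorProduct.induction_on with
    | zero => simp
    | tmul w w' =>
      simp only [TensorProduct.mapIncl, TensorProduct.map_tmul, Submodule.subtype_apply, psiL,
        LinearMap.comp_apply, LinearEquiv.coe_coe, TensorProduct.assoc_tmul,
        LinearMap.lTensor_tmul]
      exact tmul_mem_range_rTensor_subtype W w.2 _
    | add p q hp hq =>
      rw [map_add, TensorProduct.add_tmul, map_add]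
      exact Submodule.add_mem _ hp hq
  | add p q hp hq =>
    rw [map_add, map_add]
    exact Submodule.add_mem _ hp hq

theorem psiR_mem (ℓ : V →ₗ[k] k) (z : (V ⊗[k] V') ⊗[k] R)
    (hz : z ∈ LinearMap.range ((LinearMap.range (TensorProduct.mapIncl W W')).subtype.rTensor R)) :
    psiR g c ℓ z ∈ LinearMap.range (W'.subtype.rTensor R) := by
  obtain ⟨y, rfl⟩ := hz
  induction y using TensorProduct.induction_on with
  | zero => simp
  | tmul t r =>
    obtain ⟨t, u, rfl⟩ := t
    change psiR g c ℓ ((TensorProduct.mapIncl W W' u) ⊗ₜ[k] r) ∈ _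
    induction u using TensorProduct.induction_on with
    | zero => simp
    | tmul w w' =>
      simp only [TensorProduct.mapIncl, TensorProduct.map_tmul, Submodule.subtype_apply, psiR,
        LinearMap.comp_apply, LinearEquiv.coe_coe, LinearMap.rTensor_tmul,
        TensorProduct.comm_tmul, TensorProduct.assoc_tmul, LinearMap.lTensor_tmul]
      exact tmul_mem_range_rTensor_subtype W' w'.2 _
    | add p q hp hq =>
      rw [map_add, TensorProduct.add_tmul, map_add]
      exact Submodule.add_mem _ hp hq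
  | add p q hp hq =>
    rw [map_add, map_add]
    exact Submodule.add_mem _ hp hq

omit [HopfAlgebra k A] [CommRing A] in
theorem prodR_mem (y : W ⊗[k] R) (y' : W' ⊗[k] R) :
    prodR (W.subtype.rTensor R y ⊗ₜ[k] W'.subtype.rTensor R y') ∈
      LinearMap.range ((LinearMap.range (TensorProduct.mapIncl W W')).subtype.rTensor R) := by
  induction y using TensorProduct.induction_on with
  | zero => simp
  | tmul w r =>
    induction y' using TensorProduct.induction_on with
    | zero => simp
    | tmul w' r' =>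
      rw [LinearMap.rTensor_tmul, LinearMap.rTensor_tmul, prodR_tmul]
      exact tmul_mem_range_rTensor_subtype _ (tmul_mem_range_mapIncl W W' w.2 w'.2) _
    | add p q hp hq =>
      rw [map_add, TensorProduct.tmul_add, map_add]
      exact Submodule.add_mem _ hp hq
  | add p q hp hq =>
    rw [map_add, TensorProduct.add_tmul, map_add]
    exact Submodule.add_mem _ hp hq

omit [HopfAlgebra k A] [CommRing A] in
theorem exists_dual_eq_one {M : Type*} [AddCommGroup M] [Module k M] {m : M} (hm : m ≠ 0) :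
    ∃ ℓ : M →ₗ[k] k, ℓ m = 1 := by
  obtain ⟨f, hf⟩ : ∃ f : Module.Dual k M, f m ≠ 0 := by
    by_contra hcon
    push Not at hcon
    exact hm ((Module.forall_dual_apply_eq_zero_iff k m).1 hcon)
  exact ⟨(f m)⁻¹ • f, by simp [hf]⟩

theorem stab_tensor_iff (hW : W ≠ ⊥) (hW' : W' ≠ ⊥) :
    (∀ x ∈ LinearMap.range (TensorProduct.mapIncl W W'),
      LinearMap.lTensor (V ⊗[k] V') g.toLinearMap ((ComodTens.Comod.tensor c c').coact x) ∈
        LinearMap.range ((LinearMap.range (TensorProduct.mapIncl W W')).subtype.rTensor R)) ↔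
      (∀ x ∈ W, LinearMap.lTensor V g.toLinearMap (c.coact x) ∈
        LinearMap.range (W.subtype.rTensor R)) ∧
      (∀ x ∈ W', LinearMap.lTensor V' g.toLinearMap (c'.coact x) ∈
        LinearMap.range (W'.subtype.rTensor R)) := by
  constructor
  · intro hT
    obtain ⟨w₀, hw₀, hw₀0⟩ := Submodule.exists_mem_ne_zero_of_ne_bot hW
    obtain ⟨w₀', hw₀', hw₀'0⟩ := Submodule.exists_mem_ne_zero_of_ne_bot hW'
    obtain ⟨ℓ, hℓ⟩ := exists_dual_eq_one (k := k) hw₀0
    obtain ⟨ℓ', hℓ'⟩ := exists_dual_eq_one (k := k) hw₀'0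
    constructor
    · intro w hw
      have h := psiL_mem g c' W W' ℓ' _ (hT _ (tmul_mem_range_mapIncl W W' hw hw₀'))
      rw [gact_tensor, psiL_prodR, invFun_gact, hℓ', map_one, LinearMap.mulRight_one,
        LinearMap.lTensor_id, LinearMap.id_apply] at h
      exact h
    · intro w' hw'
      have h := psiR_mem g c W W' ℓ _ (hT _ (tmul_mem_range_mapIncl W W' hw₀ hw'))
      rw [gact_tensor, psiR_prodR, invFun_gact, hℓ, map_one, LinearMap.mulRight_one,
        LinearMap.lTensor_id, LinearMap.id_apply] at h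
      exact h
  · rintro ⟨h1, h2⟩ x ⟨u, rfl⟩
    induction u using TensorProduct.induction_on with
    | zero => simp
    | tmul w w' =>
      obtain ⟨y, hy⟩ := h1 w.1 w.2
      obtain ⟨y', hy'⟩ := h2 w'.1 w'.2
      simp only [TensorProduct.mapIncl, TensorProduct.map_tmul, Submodule.subtype_apply]
      rw [gact_tensor, ← hy, ← hy']
      exact prodR_mem W W' y y'
    | add p q hp hq =>
      rw [map_add, map_add, map_add]
      exact Submodule.add_mem _ hp hq

end Main

end StabTensor

end Groth.Agent.H40
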