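import Groth.Agent.H40.DegreeGL
import Groth.Agent.H40.ComodSplit
import Groth.Agent.H40.StabTensor

/-! Helper lemmas (helper40): a homogeneous representation of `GL_n` in characteristic zero is a
direct summand of a sum of copies of a tensor power of the standard representation twisted by a
negative power of the determinant. -/

set_option autoImplicit false
universe u

open TensorProduct CoordGrp LaurentPolynomial

namespace Groth.Agent.H40

section Homog

variable (n : ℕ) (k : Type u) [Field k]

theorem isGroupLike_Dinv : IsGroupLikeElem k (GLn.Dinv : GLn n k) :=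
  ⟨GLn.counit_Dinv, GLn.comul_Dinv⟩

theorem isGroupLike_det : IsGroupLikeElem k (GLn.det : GLn n k) :=
  ⟨GLn.counit_det, GLn.comul_det⟩

/-- The tensor power comodule of the standard representation. -/
@[reducible] noncomputable def cT (a : ℕ) :
    HopfRep.Comod k (GLn n k) (TensorPower k a (Fin n → k)) :=
  ComodTens.Comod.tpow (stdG n k) a

theorem cT_coact (a : ℕ) (J : Fin a → Fin n) :
    (cT n k a).coact (tpBasis n k a J) =
      ∑ I, tpBasis n k a I ⊗ₜ[k] xxPow (fun i j => (GLn.X i j : GLn n k)) a I J :=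
  tpow_coact_tpBasis (stdG n k) _ (stdG_coact n k) a J

/-- The sum of the coefficient maps of the tensor power, a morphism from a direct sum of copies
of the tensor power to the regular comodule. -/
noncomputable def qT (a : ℕ) :
    ((Fin a → Fin n) → TensorPower k a (Fin n → k)) →ₗ[k] GLn n k :=
  ∑ I : Fin a → Fin n,
    (@coeffMap k _ (GLn n k) _ _ _ _ _ _ (cT n k a) ((tpBasis n k a).coord I)) ∘ₗ LinearMap.proj I

theorem isHom_qT (a : ℕ) :
    IsHom (ComodTens.Comod.pi fun _ : Fin a → Fin n => cT n k a) (HopfRep.Comod.regular k (GLn n k))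
      (qT n k a) := by
  unfold qT
  apply isHom_sum
  intro I _
  exact IsHom.comp (@isComodHom_coeffMap k _ (GLn n k) _ _ _ _ _ _ (cT n k a) _)
    (isHom_proj (fun _ : Fin a → Fin n => cT n k a) I)

theorem qT_single (a : ℕ) (I J : Fin a → Fin n) :
    qT n k a (Pi.single I (tpBasis n k a J)) = xxPow (fun i j => (GLn.X i j : GLn n k)) a I J := by
  classical
  unfold qT
  rw [LinearMap.sum_apply, Finset.sum_eq_single I]
  · rw [LinearMap.comp_apply, LinearMap.proj_apply, Pi.single_eq_same]
    exact @coeffMap_coord_basis k _ (GLn n k) _ _ _ _ _ _ (cT n k a) _ _ _ (tpBasis n k a)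
      (fun I J => xxPow (fun i j => (GLn.X i j : GLn n k)) a I J) (cT_coact n k a) I J
  · intro I' _ hI'
    rw [LinearMap.comp_apply, LinearMap.proj_apply, Pi.single_eq_of_ne hI', map_zero]
  · intro h
    exact (h (Finset.mem_univ I)).elim

variable {n k}
variable [CharZero k] {V : Type u} [AddCommGroup V] [Module k V] [Module.Finite k V]

theorem exists_summand_of_homogeneous (ρ : HopfRep.Comod k (GLn n k) V) (h : ℤ)
    (hh : @HopfRep.eigenspace k k[T;T⁻¹] _ _ _ V _ _
      (GLin.comodAlong (GLn.diag n k (fun _ => 1)) ρ) (T h) = ⊤) :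
    ∃ (a b c : ℕ), 0 < c ∧
      ∃ (i : V →ₗ[k] (Fin b → TensorPower k a (Fin n → k)))
        (p : (Fin b → TensorPower k a (Fin n → k)) →ₗ[k] V),
        p ∘ₗ i = LinearMap.id ∧
        IsHom ρ (ComodTens.Comod.twist (ComodTens.Comod.pi fun _ : Fin b => cT n k a)
          ((GLn.Dinv : GLn n k) ^ c) (isGroupLike_Dinv n k).pow) i ∧
        IsHom (ComodTens.Comod.twist (ComodTens.Comod.pi fun _ : Fin b => cT n k a)
          ((GLn.Dinv : GLn n k) ^ c) (isGroupLike_Dinv n k).pow) ρ p := by
  classical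
  let d := Module.finrank k V
  let bV : Module.Basis (Fin d) k V := Module.finBasis k V
  -- coefficients of `ρ` have degree `h`
  have hdeg : ∀ (f : V →ₗ[k] k) (v : V),
      gam n k (@coeffMap k _ (GLn n k) _ _ _ V _ _ ρ f v) =
        (@coeffMap k _ (GLn n k) _ _ _ V _ _ ρ f v) ⊗ₜ[k] T h := by
    intro f v
    have h1 := LinearMap.congr_fun (@isComodHom_coeffMap k _ (GLn n k) _ _ _ V _ _ ρ f) v
    simp only [LinearMap.comp_apply] at h1
    change CoalgebraStruct.comul (R := k) (@coeffMap k _ (GLn n k) _ _ _ V _ _ ρ f v) = _ at h1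
    have hv : v ∈ @HopfRep.eigenspace k k[T;T⁻¹] _ _ _ V _ _
        (GLin.comodAlong (GLn.diag n k (fun _ => 1)) ρ) (T h) := by
      rw [hh]; exact Submodule.mem_top
    have h2 : TensorProduct.map LinearMap.id
        ((GLn.diag n k (fun _ => 1) : GLn n k →ₐc[k] k[T;T⁻¹]) : GLn n k →ₗ[k] k[T;T⁻¹])
        (ρ.coact v) = v ⊗ₜ[k] T h := hv
    rw [gam_apply, h1]
    have h3 : ∀ t : V ⊗[k] GLn n k,
        TensorProduct.map LinearMap.id ((sc n k : GLn n k →ₐ[k] k[T;T⁻¹]).toLinearMap)
          ((@coeffMap k _ (GLn n k) _ _ _ V _ _ ρ f).rTensor (GLn n k) t) =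
        (@coeffMap k _ (GLn n k) _ _ _ V _ _ ρ f).rTensor k[T;T⁻¹]
          (TensorProduct.map LinearMap.id
            ((GLn.diag n k (fun _ => 1) : GLn n k →ₐc[k] k[T;T⁻¹]) : GLn n k →ₗ[k] k[T;T⁻¹]) t) := by
      intro t
      induction t using TensorProduct.induction_on with
      | zero => simp
      | tmul x y => rfl
      | add x y hx hy => simp only [map_add, hx, hy]
    rw [h3, h2, LinearMap.rTensor_tmul]
  -- the space of coefficients
  let N : Submodule k (GLn n k) :=
    ⨆ j : Fin d, LinearMap.range (@coeffMap k _ (GLn n k) _ _ _ V _ _ ρ (bV.coord j))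
  have hNfg : N.FG := by
    apply Submodule.fg_iSup
    intro j
    rw [LinearMap.range_eq_map]
    exact Submodule.FG.map _ Module.Finite.fg_top
  have hNdeg : ∀ g ∈ N, gam n k g = g ⊗ₜ[k] T h := by
    let D : Submodule k (GLn n k) :=
      LinearMap.ker ((gam n k).toLinearMap - (TensorProduct.mk k (GLn n k) k[T;T⁻¹]).flip (T h))
    have hND : N ≤ D := by
      apply iSup_le
      intro j
      rintro _ ⟨v, rfl⟩
      change ((gam n k).toLinearMap - (TensorProduct.mk k (GLn n k) k[T;T⁻¹]).flip (T h)) _ = 0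
      rw [LinearMap.sub_apply, AlgHom.toLinearMap_apply, hdeg]
      simp
    intro g hg
    have := hND hg
    change ((gam n k).toLinearMap - (TensorProduct.mk k (GLn n k) k[T;T⁻¹]).flip (T h)) g = 0 at this
    rw [LinearMap.sub_apply, sub_eq_zero] at this
    exact this
  obtain ⟨c, hc0, hNc⟩ := exists_le_Rdeg n k h N hNfg hNdeg
  let a : ℕ := (h + n * c).toNat
  refine ⟨a, Fintype.card (Fin d × (Fin a → Fin n)), c, hc0, ?_⟩
  -- twisted structure on `V`
  have hgl : IsGroupLikeElem k ((GLn.det : GLn n k) ^ c) := (isGroupLike_det n k).pow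
  let ρ' : HopfRep.Comod k (GLn n k) V := ComodTens.Comod.twist ρ ((GLn.det : GLn n k) ^ c) hgl
  let Φ : Fin d → V →ₗ[k] GLn n k := fun j => @coeffMap k _ (GLn n k) _ _ _ V _ _ ρ' (bV.coord j)
  have hΦhom : ∀ j, IsHom ρ' (HopfRep.Comod.regular k (GLn n k)) (Φ j) := fun j =>
    @isComodHom_coeffMap k _ (GLn n k) _ _ _ V _ _ ρ' (bV.coord j)
  have hΦ : ∀ j v, Φ j v =
      @coeffMap k _ (GLn n k) _ _ _ V _ _ ρ (bV.coord j) v * (GLn.det : GLn n k) ^ c := by
    intro j v
    change lslice (bV.coord j) (ρ'.coact v) = lslice (bV.coord j) (ρ.coact v) * _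
    rw [ComodTens.twist_coact, lslice_lTensor, LinearMap.mulRight_apply]
  -- the range of `Φ j` lies in the range of `qT`
  have hRq : ∀ y ∈ Rdeg n k h c, y * (GLn.det : GLn n k) ^ c ∈ LinearMap.range (qT n k a) := by
    intro y hy
    induction hy using Submodule.span_induction with
    | mem y hy =>
      obtain ⟨a', I, J, ha', rfl⟩ := hy
      have haa : a' = a := by
        change a' = (h + n * c).toNat
        rw [← ha']
        simp
      subst haa
      refine ⟨Pi.single I (tpBasis n k _ J), ?_⟩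
      rw [qT_single]
      unfold ygen
      rw [mul_assoc, ← mul_pow, GLn.Dinv_mul_det, one_pow, mul_one]
    | zero => rw [zero_mul]; exact Submodule.zero_mem _
    | add y z _ _ hy hz => rw [add_mul]; exact Submodule.add_mem _ hy hz
    | smul r y _ hy => rw [smul_mul_assoc]; exact Submodule.smul_mem _ _ hy
  have hle : ∀ j, LinearMap.range (Φ j) ≤ LinearMap.range (qT n k a) := by
    rintro j _ ⟨v, rfl⟩
    rw [hΦ]
    apply hRq
    apply hNc
    exact Submodule.mem_iSup_of_mem j ⟨v, rfl⟩
  -- semisimplicity of the direct sums of tensor powers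
  have hfinT : Module.Finite k (TensorPower k a (Fin n → k)) := Module.Finite.of_basis (tpBasis n k a)
  have hssE : @HopfRep.IsSemisimpleComod k (GLn n k) _ _ _ _
      ((Fin a → Fin n) → TensorPower k a (Fin n → k)) _ _
      (ComodTens.Comod.pi fun _ : Fin a → Fin n => cT n k a) :=
    @isLinearlyReductive_GLn n k _ _ _ _ _ (ComodTens.Comod.pi fun _ : Fin a → Fin n => cT n k a)
      inferInstance
  -- lifts
  have hlift : ∀ j, ∃ Φ' : V →ₗ[k] ((Fin a → Fin n) → TensorPower k a (Fin n → k)),
      IsHom ρ' (ComodTens.Comod.pi fun _ : Fin a → Fin n => cT n k a) Φ' ∧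
        qT n k a ∘ₗ Φ' = Φ j := fun j =>
    exists_lift ρ' _ _ hssE (qT n k a) (isHom_qT n k a) (Φ j) (hΦhom j) (hle j)
  choose Φ' hΦ'hom hΦ'q using hlift
  -- the embedding
  let e : (Fin d × (Fin a → Fin n)) ≃ Fin (Fintype.card (Fin d × (Fin a → Fin n))) :=
    Fintype.equivFin _
  let i : V →ₗ[k] (Fin (Fintype.card (Fin d × (Fin a → Fin n))) → TensorPower k a (Fin n → k)) :=
    LinearMap.pi fun β => LinearMap.proj (e.symm β).2 ∘ₗ Φ' (e.symm β).1
  have hi : IsHom ρ' (ComodTens.Comod.pi fun _ : Fin (Fintype.card (Fin d × (Fin a → Fin n))) =>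
      cT n k a) i := by
    apply isHom_pi
    intro β
    have : LinearMap.proj β ∘ₗ i = LinearMap.proj (e.symm β).2 ∘ₗ Φ' (e.symm β).1 :=
      LinearMap.proj_pi _ β
    rw [this]
    exact IsHom.comp (isHom_proj (fun _ : Fin a → Fin n => cT n k a) _) (hΦ'hom _)
  have hinj : Function.Injective i := by
    rw [← LinearMap.ker_eq_bot, eq_bot_iff]
    intro v hv
    rw [LinearMap.mem_ker] at hv
    rw [Submodule.mem_bot]
    have h1 : ∀ j, Φ' j v = 0 := by
      intro j
      funext I
      have := congrFun hv (e (j, I))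
      simp only [i, LinearMap.pi_apply, LinearMap.comp_apply, LinearMap.proj_apply,
        Equiv.symm_apply_apply] at this
      exact this
    have h2 : ∀ j, bV.coord j v = 0 := by
      intro j
      have h3 : Φ j v = 0 := by
        rw [← hΦ'q j, LinearMap.comp_apply, h1, map_zero]
      have h4 := counit_coeffMap (A := GLn n k) ρ' (bV.coord j) v
      change CoalgebraStruct.counit (R := k) (Φ j v) = _ at h4
      rw [h3, map_zero] at h4
      exact h4.symm
    apply bV.ext_elem
    intro j
    rw [map_zero, Finsupp.zero_apply]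
    exact h2 j
  have hssB : @HopfRep.IsSemisimpleComod k (GLn n k) _ _ _ _
      (Fin (Fintype.card (Fin d × (Fin a → Fin n))) → TensorPower k a (Fin n → k)) _ _
      (ComodTens.Comod.pi fun _ : Fin (Fintype.card (Fin d × (Fin a → Fin n))) => cT n k a) :=
    @isLinearlyReductive_GLn n k _ _ _ _ _
      (ComodTens.Comod.pi fun _ : Fin (Fintype.card (Fin d × (Fin a → Fin n))) => cT n k a)
      inferInstance
  obtain ⟨p, hp, hpi⟩ := exists_retraction ρ' _ hssB i hi hinj
  have hgg : (GLn.det : GLn n k) ^ c * (GLn.Dinv : GLn n k) ^ c = 1 := by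
    rw [← mul_pow, GLn.det_mul_Dinv, one_pow]
  exact ⟨i, p, hpi,
    isHom_twist_right ρ _ _ _ (isGroupLike_Dinv n k).pow hgl hgg i hi,
    isHom_twist_left ρ _ _ _ (isGroupLike_Dinv n k).pow hgl hgg p hp⟩

end Homog

end Groth.Agent.H40
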