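import Groth.Agent.H40.NoethInv2

/-! Helper lemmas (helper40): invariants of a finite type equivariant algebra over a Noetherian
algebra with a linearly reductive coaction are finitely generated over the invariants of the
base (corollary of `main_inductionB`). -/

set_option autoImplicit false
universe u v w w₂
open TensorProduct Polynomial

namespace Groth.Agent.H40

section Hom

variable {k : Type u} [Field k] {H : Type v} [CommRing H] [Bialgebra k H]
variable {V : Type w} [AddCommGroup V] [Module k V] [HopfRep.Comod k H V]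
variable {W : Type w₂} [AddCommGroup W] [Module k W] [HopfRep.Comod k H W]

theorem coactSlice_comodHom (f : V →ₗ[k] W) (hf : Hoch.IsComodHom H f) (I : H →ₗ[k] k) (v : V) :
    coactSlice (C := H) I (f v) = f (coactSlice (C := H) I v) := by
  have h1 : HopfRep.Comod.coact (k := k) (A := H) (f v) =
      f.rTensor H (HopfRep.Comod.coact (k := k) (A := H) v) := LinearMap.congr_fun hf v
  show slice I (HopfRep.Comod.coact (k := k) (A := H) (f v)) = _
  rw [h1, slice_rTensor]
  rfl

theorem map_mem_fixedPts (f : V →ₗ[k] W) (hf : Hoch.IsComodHom H f) (v : V)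
    (hv : v ∈ HopfRep.fixedPts k H V) : f v ∈ HopfRep.fixedPts k H W := by
  have h1 : HopfRep.Comod.coact (k := k) (A := H) (f v) =
      f.rTensor H (HopfRep.Comod.coact (k := k) (A := H) v) := LinearMap.congr_fun hf v
  show HopfRep.Comod.coact (k := k) (A := H) (f v) = f v ⊗ₜ[k] (1 : H)
  have hv' : HopfRep.Comod.coact (k := k) (A := H) v = v ⊗ₜ[k] (1 : H) := hv
  rw [h1, hv', LinearMap.rTensor_tmul]

end Hom

section Main

variable {k : Type u} [Field k] {H : Type v} [CommRing H] [HopfAlgebra k H]
variable {A : Type w} [CommRing A] [Algebra k A] [HopfRep.Comod k H A] [GLin.IsCoactAlg k H A]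
variable {C : Type w₂} [CommRing C] [Algebra k C] [HopfRep.Comod k H C] [GLin.IsCoactAlg k H C]
variable [Algebra A C] [IsScalarTower k A C]

theorem invariants_eq_adjoin [IsNoetherianRing A] [Algebra.FiniteType A C]
    (hG : HopfRep.IsLinearlyReductive k H)
    (hAC : Hoch.IsComodHom H (IsScalarTower.toAlgHom k A C).toLinearMap) :
    ∃ s : Finset C, GLin.invariants k H C =
      Algebra.adjoin k (⇑(algebraMap A C) '' ↑(GLin.invariants k H A) ∪ ↑s) := by
  classical
  obtain ⟨I, hI1, hI⟩ := exists_integral hG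
  let φ : A →ₐ[k] C := IsScalarTower.toAlgHom k A C
  have hφ : ∀ a, φ a = algebraMap A C a := fun a => rfl
  obtain ⟨t, ht⟩ := (Algebra.FiniteType.out : (⊤ : Subalgebra A C).FG)
  choose W hWfin hWmem hWsub using fun g : C =>
    exists_finite_subcomod_mem (k := k) (C := H) (V := C) g
  let t' : Finset C := insert 1 t
  let W₀ : Submodule k C := ⨆ g : (t' : Set C), W g.1
  have hW₀sub : HopfRep.IsSubcomod (k := k) (A := H) W₀ :=
    Groth.Agent.Lib.Helper93.Comod.isSubcomod_iSup _ (fun g => hWsub g.1)
  have hW₀fin : Module.Finite k W₀ := by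
    have : ∀ g : (t' : Set C), Module.Finite k (W g.1) := fun g => hWfin g.1
    exact Submodule.finite_iSup _
  obtain ⟨s₀, hs₀⟩ := (Module.Finite.iff_fg.mp hW₀fin)
  have hmemW₀ : ∀ x ∈ t', x ∈ W₀ := fun x hx =>
    Submodule.mem_iSup_of_mem (⟨x, hx⟩ : (t' : Set C)) (hWmem x)
  let g : {x // x ∈ s₀} → C := fun x => (x : C)
  have hV : Submodule.span k (Set.range g) = W₀ := by
    rw [← hs₀]
    congr 1
    ext y
    simp [g]
  have hVsub : HopfRep.IsSubcomod (k := k) (A := H) (Submodule.span k (Set.range g)) := by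
    rw [hV]; exact hW₀sub
  have hB : HopfRep.IsSubcomod (k := k) (A := H) (Subalgebra.toSubmodule φ.range) := by
    have h1 : Subalgebra.toSubmodule φ.range = LinearMap.range φ.toLinearMap := by
      ext y
      simp only [Subalgebra.mem_toSubmodule, AlgHom.mem_range, LinearMap.mem_range,
        AlgHom.toLinearMap_apply]
    rw [h1]
    exact Groth.Agent.Lib.Helper93.Comod.isSubcomod_range _ hAC
  obtain ⟨S₀, hS₀fix, hS₀⟩ := main_inductionB φ g I hI1 hI hB hVsub
  have h1V : (1 : Submodule k C) ≤ Submodule.span k (Set.range g) := by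
    rw [Submodule.one_le, hV]
    exact hmemW₀ 1 (Finset.mem_insert_self _ _)
  have hfilmono : ∀ a b : ℕ, a ≤ b → filB φ g a ≤ filB φ g b := fun a b hab =>
    mul_le_mul' le_rfl (pow_le_pow_right₀ h1V hab)
  have hrr : Subalgebra.toSubmodule φ.range * Subalgebra.toSubmodule φ.range ≤
      Subalgebra.toSubmodule φ.range := by
    rw [Submodule.mul_le]
    intro x hx y hy
    exact Subalgebra.mul_mem _ hx hy
  have hfil : ∀ c : C, ∃ d : ℕ, c ∈ filB φ g d := by
    intro c
    have hc : c ∈ Algebra.adjoin A (t : Set C) := by rw [ht]; trivial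
    induction hc using Algebra.adjoin_induction with
    | mem x hx =>
      refine ⟨1, ?_⟩
      unfold filB
      rw [pow_one, hV]
      have : x = (1 : C) * x := (one_mul x).symm
      rw [this]
      exact Submodule.mul_mem_mul (Subalgebra.one_mem _) (hmemW₀ x (Finset.mem_insert_of_mem hx))
    | algebraMap a =>
      refine ⟨0, ?_⟩
      unfold filB
      rw [pow_zero, mul_one]
      exact ⟨a, rfl⟩
    | add x y _ _ hx hy =>
      obtain ⟨a, ha⟩ := hx
      obtain ⟨b, hb⟩ := hy
      exact ⟨max a b, Submodule.add_mem _ (hfilmono _ _ (le_max_left a b) ha)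
        (hfilmono _ _ (le_max_right a b) hb)⟩
    | mul x y _ _ hx hy =>
      obtain ⟨a, ha⟩ := hx
      obtain ⟨b, hb⟩ := hy
      refine ⟨a + b, ?_⟩
      have h2 : filB φ g a * filB φ g b ≤ filB φ g (a + b) := by
        unfold filB
        rw [mul_mul_mul_comm, ← pow_add]
        exact mul_le_mul' hrr le_rfl
      exact h2 (Submodule.mul_mem_mul ha hb)
  refine ⟨S₀, ?_⟩
  apply le_antisymm
  · intro c hc
    let Q : Subring C :=
      (Algebra.adjoin k (⇑(algebraMap A C) '' ↑(GLin.invariants k H A) ∪ ↑S₀)).toSubring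
    have hQB : ∀ a : A, φ a ∈ HopfRep.fixedPts k H C → φ a ∈ Q := by
      intro a ha
      have h1 : coactSlice (C := H) I (φ a) = φ a := coactSlice_of_fixed I hI1 _ ha
      have h2 : coactSlice (C := H) I (φ a) = φ (coactSlice (C := H) I a) :=
        coactSlice_comodHom φ.toLinearMap hAC I a
      have h3 : coactSlice (C := H) I a ∈ HopfRep.fixedPts k H A :=
        coact_coactSlice_integral I hI a
      rw [← h1, h2]
      exact Algebra.subset_adjoin (Or.inl ⟨_, h3, rfl⟩)
    have hQS : ∀ f ∈ S₀, f ∈ Q := fun f hf =>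
      Algebra.subset_adjoin (Or.inr (Finset.mem_coe.mpr hf))
    obtain ⟨d, hd⟩ := hfil c
    exact hS₀ Q hQB hQS d c hd hc
  · rw [Algebra.adjoin_le_iff]
    rintro x (⟨a, ha, rfl⟩ | hx)
    · exact map_mem_fixedPts φ.toLinearMap hAC a ha
    · exact hS₀fix x (Finset.mem_coe.mp hx)

end Main

end Groth.Agent.H40
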