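import Mathlib
import Groth.Prelude.Def_W4c1tameactTame
import Groth.Agent.H40.NoethInv3
import Groth.Agent.H40.ChevalleyMod

/-! # Invariants of a coherent `G`-module: `𝔪`-adic separatedness and completeness (helper40) -/

set_option autoImplicit false
set_option linter.unusedSectionVars false
universe u v w w'
open TensorProduct

namespace Groth.Agent.H40.LunaComplete

section Reynolds

variable {k : Type u} [Field k] {H : Type v} [CommRing H] [Bialgebra k H]
  {A : Type w} [CommRing A] [Algebra k A] [HopfRep.Comod k H A] [GLin.IsCoactAlg k H A]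
  {M : Type w'} [AddCommGroup M] [Module k M] [Module A M] [IsScalarTower k A M]
  [HopfRep.Comod k H M] [TameAct.IsHopfMod k H A M]

theorem slice_hmSMul_tmul_one (I : H →ₗ[k] k) (t : A ⊗[k] H) (m : M) :
    slice I (TameAct.hmSMul k H A M t (m ⊗ₜ[k] (1 : H))) = slice I t • m := by
  induction t using TensorProduct.induction_on with
  | zero => simp
  | tmul a h =>
    rw [TameAct.hmSMul_tmul, slice_tmul, slice_tmul, mul_one, smul_assoc]
  | add x y hx hy => simp only [map_add, LinearMap.add_apply, hx, hy, add_smul]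

theorem slice_hmSMul_one_tmul (I : H →ₗ[k] k) (b : A) (s : M ⊗[k] H) :
    slice I (TameAct.hmSMul k H A M (b ⊗ₜ[k] (1 : H)) s) = b • slice I s := by
  induction s using TensorProduct.induction_on with
  | zero => simp
  | tmul m h =>
    rw [TameAct.hmSMul_tmul, slice_tmul, slice_tmul, one_mul, smul_comm]
  | add x y hx hy => simp only [map_add, hx, hy, smul_add]

/-- `E (a • m) = E a • m` for invariant `m`. -/
theorem coactSlice_smul_fixed (I : H →ₗ[k] k) (a : A) (m : M)
    (hm : HopfRep.Comod.coact (k := k) (A := H) m = m ⊗ₜ[k] (1 : H)) :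
    coactSlice (C := H) I (a • m) = coactSlice (C := H) I a • m := by
  unfold coactSlice
  simp only [LinearMap.comp_apply]
  rw [TameAct.IsHopfMod.coact_smul, hm, slice_hmSMul_tmul_one]

/-- `E (b • m) = b • E m` for invariant `b`. -/
theorem coactSlice_fixed_smul (I : H →ₗ[k] k) (b : A) (m : M)
    (hb : HopfRep.Comod.coact (k := k) (A := H) b = b ⊗ₜ[k] (1 : H)) :
    coactSlice (C := H) I (b • m) = b • coactSlice (C := H) I m := by
  unfold coactSlice
  simp only [LinearMap.comp_apply]
  rw [TameAct.IsHopfMod.coact_smul, hb, slice_hmSMul_one_tmul]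

end Reynolds

section Main

variable {k : Type u} [Field k] {H : Type v} [CommRing H] [Bialgebra k H]
  {A : Type w} [CommRing A] [Algebra k A] [HopfRep.Comod k H A] [GLin.IsCoactAlg k H A]
  {M : Type w'} [AddCommGroup M] [Module k M] [Module A M] [IsScalarTower k A M]
  [HopfRep.Comod k H M] [TameAct.IsHopfMod k H A M]
  (I : H →ₗ[k] k) (hI1 : I 1 = 1)
  (hI : ∀ a : H, slice I (Coalgebra.comul (R := k) a) = I a • (1 : H))
  (m : Ideal A) (hmtop : m ≠ ⊤)
  (hm : HopfRep.IsSubcomod (k := k) (A := H) (m.restrictScalars k))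
  [IsLocalRing ↥(GLin.invariants k H A)]

include hI in
theorem E_mem_invariants (a : A) : coactSlice (C := H) I a ∈ GLin.invariants k H A :=
  coact_coactSlice_integral I hI a

include hm in
theorem E_mem_m {a : A} (ha : a ∈ m) : coactSlice (C := H) I a ∈ m :=
  coactSlice_mem_of_isSubcomod I (m.restrictScalars k) hm ha

include hmtop in
/-- An invariant lying in `𝔪` is not a unit of the ring of invariants. -/
theorem mem_maximalIdeal_of_mem (b : ↥(GLin.invariants k H A)) (hb : (b : A) ∈ m) :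
    b ∈ IsLocalRing.maximalIdeal ↥(GLin.invariants k H A) := by
  rw [IsLocalRing.mem_maximalIdeal, mem_nonunits_iff]
  intro hu
  have : IsUnit (b : A) := hu.map (GLin.invariants k H A).val
  exact hmtop (Ideal.eq_top_of_isUnit_mem _ hb this)

include hI1 hI hm hmtop in
/-- (i): an invariant in all `𝔪ⁿ M` vanishes. -/
theorem eq_zero_of_fixed_of_forall_mem [IsNoetherianRing A] [Module.Finite A M] (x : M)
    (hx : x ∈ HopfRep.fixedPts k H M) (h : ∀ n : ℕ, x ∈ (m ^ n • ⊤ : Submodule A M)) : x = 0 := by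
  have h1 : x ∈ (⨅ i : ℕ, m ^ i • ⊤ : Submodule A M) := (Submodule.mem_iInf _).mpr h
  obtain ⟨r, hr⟩ := (Ideal.mem_iInf_smul_pow_eq_bot_iff m x).mp h1
  have hx' : HopfRep.Comod.coact (k := k) (A := H) x = x ⊗ₜ[k] (1 : H) := hx
  have h2 := coactSlice_smul_fixed (M := M) I (r : A) x hx'
  rw [hr, coactSlice_of_fixed I hI1 x hx'] at h2
  set b : ↥(GLin.invariants k H A) := ⟨coactSlice (C := H) I (r : A), E_mem_invariants I hI _⟩
    with hbdef
  have hb : b ∈ IsLocalRing.maximalIdeal ↥(GLin.invariants k H A) :=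
    mem_maximalIdeal_of_mem m hmtop b (E_mem_m I m hm r.2)
  have hu : IsUnit (1 - b) := by
    have := IsLocalRing.isUnit_one_sub_self_of_mem_nonunits b hb
    exact this
  have hu' : IsUnit ((1 : A) - coactSlice (C := H) I (r : A)) := by
    have := hu.map (GLin.invariants k H A).val
    simpa [hbdef] using this
  have h3 : ((1 : A) - coactSlice (C := H) I (r : A)) • x = 0 := by
    rw [sub_smul, one_smul, ← h2, sub_self]
  exact (hu'.smul_left_cancel).mp (by rw [h3, smul_zero])

include hI1 hI hm in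
/-- The maximal ideal of the invariants lies in `𝔪`. -/
theorem mem_of_mem_maximalIdeal [hmax : m.IsMaximal] (b : ↥(GLin.invariants k H A))
    (hb : b ∈ IsLocalRing.maximalIdeal ↥(GLin.invariants k H A)) : (b : A) ∈ m := by
  by_contra hbm
  obtain ⟨a, μ, hμ, hab⟩ : ∃ a μ, μ ∈ m ∧ a * (b : A) + μ = 1 := by
    obtain ⟨a, μ, hμ, h⟩ := hmax.exists_inv hbm
    exact ⟨a, μ, hμ, h⟩
  have hb' : HopfRep.Comod.coact (k := k) (A := H) (b : A) = (b : A) ⊗ₜ[k] (1 : H) := b.2
  have h1 : coactSlice (C := H) I (a * (b : A) + μ) = coactSlice (C := H) I (1 : A) :=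
    congrArg _ hab
  have hone : coactSlice (C := H) I (1 : A) = 1 :=
    coactSlice_of_fixed I hI1 (1 : A) (GLin.IsCoactAlg.coact_one (k := k) (A := H) (R := A))
  rw [map_add, coactSlice_mul_fixed I a (b : A) hb', hone] at h1
  set a' : ↥(GLin.invariants k H A) := ⟨coactSlice (C := H) I a, E_mem_invariants I hI _⟩
  set μ' : ↥(GLin.invariants k H A) := ⟨coactSlice (C := H) I μ, E_mem_invariants I hI _⟩
  have hμ' : μ' ∈ IsLocalRing.maximalIdeal ↥(GLin.invariants k H A) :=
    mem_maximalIdeal_of_mem m hmax.ne_top μ' (E_mem_m I m hm hμ)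
  have h2 : a' * b = 1 - μ' := by
    apply Subtype.ext
    show coactSlice (C := H) I a * (b : A) = 1 - coactSlice (C := H) I μ
    rw [eq_sub_iff_add_eq]
    exact h1
  have hu : IsUnit (a' * b) := by
    rw [h2]
    exact IsLocalRing.isUnit_one_sub_self_of_mem_nonunits μ' hμ'
  have hub : IsUnit b := isUnit_of_mul_isUnit_right hu
  exact (IsLocalRing.mem_maximalIdeal b).mp hb hub

include hI1 hI in
/-- The invariants of `M` are finitely generated over the invariants of `A`. -/
theorem exists_fixed_generators [IsNoetherianRing A] [Module.Finite A M] :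
    ∃ T : Finset M, (∀ t ∈ T, t ∈ HopfRep.fixedPts k H M) ∧
      ∀ x ∈ HopfRep.fixedPts k H M, ∃ c : M → ↥(GLin.invariants k H A), x = ∑ t ∈ T, c t • t := by
  classical
  have hfg : (Submodule.span A ((HopfRep.fixedPts k H M : Submodule k M) : Set M)).FG :=
    IsNoetherian.noetherian _
  obtain ⟨T, hTsub, hT⟩ := (Submodule.fg_span_iff_fg_span_finset_subset _).mp hfg
  refine ⟨T, fun t ht => hTsub ht, fun x hx => ?_⟩
  have hxs : x ∈ Submodule.span A ((T : Finset M) : Set M) := by
    rw [← hT]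
    exact Submodule.subset_span hx
  obtain ⟨f, -, hf⟩ := Submodule.mem_span_finset.mp hxs
  refine ⟨fun t => ⟨coactSlice (C := H) I (f t), E_mem_invariants I hI _⟩, ?_⟩
  have hx' : HopfRep.Comod.coact (k := k) (A := H) x = x ⊗ₜ[k] (1 : H) := hx
  have h1 := coactSlice_of_fixed I hI1 x hx'
  rw [← hf, map_sum] at h1
  rw [← hf]
  conv_lhs => rw [← h1]
  apply Finset.sum_congr rfl
  intro t ht
  exact coactSlice_smul_fixed (M := M) I (f t) t (hTsub ht)

/-- An invariant multiple of an invariant element is invariant. -/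
theorem smul_mem_fixedPts (b : ↥(GLin.invariants k H A)) (x : M)
    (hx : x ∈ HopfRep.fixedPts k H M) : (b • x : M) ∈ HopfRep.fixedPts k H M := by
  have hb' : HopfRep.Comod.coact (k := k) (A := H) (b : A) = (b : A) ⊗ₜ[k] (1 : H) := b.2
  have hx' : HopfRep.Comod.coact (k := k) (A := H) x = x ⊗ₜ[k] (1 : H) := hx
  show HopfRep.Comod.coact (k := k) (A := H) ((b : A) • x) = ((b : A) • x) ⊗ₜ[k] (1 : H)
  rw [TameAct.IsHopfMod.coact_smul, hb', hx', TameAct.hmSMul_tmul, one_mul]

include hI1 hI hm in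
/-- Powers of the maximal ideal of the invariants lie in powers of `𝔪`. -/
theorem mem_pow_of_mem_maximalIdeal_pow [hmax : m.IsMaximal] (c : ℕ)
    (b : ↥(GLin.invariants k H A))
    (hb : b ∈ (IsLocalRing.maximalIdeal ↥(GLin.invariants k H A)) ^ c) : (b : A) ∈ m ^ c := by
  have h1 : Ideal.map (GLin.invariants k H A).val.toRingHom
      (IsLocalRing.maximalIdeal ↥(GLin.invariants k H A)) ≤ m := by
    rw [Ideal.map_le_iff_le_comap]
    intro b hb
    exact mem_of_mem_maximalIdeal I hI1 hI m hm b hb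
  have h2 := Ideal.mem_map_of_mem (GLin.invariants k H A).val.toRingHom hb
  rw [Ideal.map_pow] at h2
  exact Ideal.pow_right_mono h1 c h2

end Main

section Complete

variable {k : Type u} [Field k] {H : Type v} [CommRing H] [Bialgebra k H]
  {A : Type w} [CommRing A] [Algebra k A] [HopfRep.Comod k H A] [GLin.IsCoactAlg k H A]
  {M : Type w'} [AddCommGroup M] [Module k M] [Module A M] [IsScalarTower k A M]
  [HopfRep.Comod k H M] [TameAct.IsHopfMod k H A M]
  (I : H →ₗ[k] k) (hI1 : I 1 = 1)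
  (hI : ∀ a : H, slice I (Coalgebra.comul (R := k) a) = I a • (1 : H))
  (m : Ideal A) [hmax : m.IsMaximal]
  (hm : HopfRep.IsSubcomod (k := k) (A := H) (m.restrictScalars k))
  [IsLocalRing ↥(GLin.invariants k H A)] [IsNoetherianRing ↥(GLin.invariants k H A)]
  [IsAdicComplete (IsLocalRing.maximalIdeal ↥(GLin.invariants k H A)) ↥(GLin.invariants k H A)]
  [IsNoetherianRing A] [Module.Finite A M]

omit [HopfRep.Comod k H A] [GLin.IsCoactAlg k H A] [HopfRep.Comod k H M]
  [TameAct.IsHopfMod k H A M] [IsNoetherianRing A] [Module.Finite A M] hmax in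
/-- A Cauchy sequence for the `𝔪`-adic filtration: differences of later terms. -/
theorem sub_mem_of_le (x : ℕ → M)
    (hc : ∀ n, x (n + 1) - x n ∈ (m ^ n • ⊤ : Submodule A M)) (N a : ℕ) (ha : N ≤ a) :
    x a - x N ∈ (m ^ N • ⊤ : Submodule A M) := by
  induction a, ha using Nat.le_induction with
  | base => rw [sub_self]; exact Submodule.zero_mem _
  | succ a ha ih =>
    have h1 : (m ^ a • ⊤ : Submodule A M) ≤ m ^ N • ⊤ :=
      Submodule.smul_mono_left (Ideal.pow_le_pow_right ha)
    have : x (a + 1) - x N = (x (a + 1) - x a) + (x a - x N) := by abel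
    rw [this]
    exact Submodule.add_mem _ (h1 (hc a)) ih

include hI1 hI hm in
/-- (ii): completeness of the invariants for the `𝔪`-adic filtration. -/
theorem exists_fixed_limit (x : ℕ → M) (hx : ∀ n, x n ∈ HopfRep.fixedPts k H M)
    (hc : ∀ n, x (n + 1) - x n ∈ (m ^ n • ⊤ : Submodule A M)) :
    ∃ y ∈ HopfRep.fixedPts k H M, ∀ n, y - x n ∈ (m ^ n • ⊤ : Submodule A M) := by
  classical
  set B := ↥(GLin.invariants k H A) with hB
  set 𝔫 := IsLocalRing.maximalIdeal B with h𝔫
  obtain ⟨T, hTfix, hTgen⟩ := exists_fixed_generators (k := k) (H := H) (A := A) (M := M) I hI1 hI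
  -- the `B`-linear map `Bᵀ → M`
  let φ : (T → B) →ₗ[B] M := Fintype.linearCombination B (fun t : T => (t : M))
  let Q : Submodule B M := LinearMap.range φ
  have hQfin : Module.Finite B Q := Module.Finite.range φ
  have hQfix : ∀ q : Q, (q : M) ∈ HopfRep.fixedPts k H M := by
    rintro ⟨_, c, rfl⟩
    show φ c ∈ HopfRep.fixedPts k H M
    rw [Fintype.linearCombination_apply]
    refine Submodule.sum_mem _ fun t _ => ?_
    exact smul_mem_fixedPts (c t) (t : M) (hTfix t t.2)
  have hQmem : ∀ y ∈ HopfRep.fixedPts k H M, y ∈ Q := by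
    intro y hy
    obtain ⟨c, hc⟩ := hTgen y hy
    refine ⟨fun t => c t, ?_⟩
    rw [Fintype.linearCombination_apply, hc]
    exact (Finset.sum_coe_sort T (fun t => c t • t))
  have hQcompl : IsAdicComplete 𝔫 Q :=
    Groth.Agent.Lib.Helper75.CompletedModules.isAdicComplete_of_finite Q
  -- the induced filtration
  let F : ℕ → Submodule B Q := fun n =>
    Submodule.comap Q.subtype ((m ^ n • ⊤ : Submodule A M).restrictScalars B)
  have hFmem : ∀ n (q : Q), q ∈ F n ↔ (q : M) ∈ (m ^ n • ⊤ : Submodule A M) := fun n q => Iff.rfl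
  have hFanti : Antitone F := by
    intro a b hab q hq
    rw [hFmem] at hq ⊢
    exact Submodule.smul_mono_left (Ideal.pow_le_pow_right hab) hq
  have hFbot : ⨅ n, F n = ⊥ := by
    rw [eq_bot_iff]
    intro q hq
    rw [Submodule.mem_iInf] at hq
    have h0 : (q : M) = 0 :=
      eq_zero_of_fixed_of_forall_mem I hI1 hI m hmax.ne_top hm (q : M) (hQfix q)
        (fun n => (hFmem n q).mp (hq n))
    rw [Submodule.mem_bot]
    exact Subtype.ext h0
  -- Chevalley
  have hchev : ∀ c : ℕ, ∃ n, F n ≤ (𝔫 ^ c • ⊤ : Submodule B Q) := fun c =>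
    ChevalleyMod.chevalley F hFanti hFbot c
  choose ν hν using hchev
  have hpow : ∀ (c : ℕ) (q : Q), q ∈ (𝔫 ^ c • ⊤ : Submodule B Q) →
      (q : M) ∈ (m ^ c • ⊤ : Submodule A M) := by
    intro c q hq
    induction hq using Submodule.smul_induction_on' with
    | smul r hr q' _ =>
      show ((r : A) • (q' : M)) ∈ (m ^ c • ⊤ : Submodule A M)
      exact Submodule.smul_mem_smul (mem_pow_of_mem_maximalIdeal_pow I hI1 hI m hm c r hr)
        Submodule.mem_top
    | add q₁ _ q₂ _ h₁ h₂ =>
      show ((q₁ : M) + (q₂ : M)) ∈ (m ^ c • ⊤ : Submodule A M)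
      exact Submodule.add_mem _ h₁ h₂
  -- lifts of the sequence
  let q : ℕ → Q := fun n => ⟨x n, hQmem _ (hx n)⟩
  let ν' : ℕ → ℕ := fun c => c + ∑ j ∈ Finset.range (c + 1), ν j
  have hν'1 : ∀ c, c ≤ ν' c := fun c => Nat.le_add_right _ _
  have hν'2 : ∀ a c, a ≤ c → ν a ≤ ν' c := by
    intro a c hac
    have : ν a ≤ ∑ j ∈ Finset.range (c + 1), ν j :=
      Finset.single_le_sum (f := ν) (fun _ _ => Nat.zero_le _)
        (Finset.mem_range.mpr (Nat.lt_succ_of_le hac))
    exact this.trans (Nat.le_add_left _ _)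
  have hqF : ∀ N a b, N ≤ a → N ≤ b → q a - q b ∈ F N := by
    intro N a b ha hb
    rw [hFmem]
    show x a - x b ∈ (m ^ N • ⊤ : Submodule A M)
    have : x a - x b = (x a - x N) - (x b - x N) := by abel
    rw [this]
    exact Submodule.sub_mem _ (sub_mem_of_le m x hc N a ha) (sub_mem_of_le m x hc N b hb)
  let z : ℕ → Q := fun c => q (ν' c)
  have hz : ∀ {a b : ℕ}, a ≤ b → z a ≡ z b [SMOD (𝔫 ^ a • ⊤ : Submodule B Q)] := by
    intro a b hab
    rw [SModEq.sub_mem]
    exact hν a (hqF (ν a) (ν' a) (ν' b) (hν'2 a a le_rfl) (hν'2 a b hab))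
  obtain ⟨L, hL⟩ := IsPrecomplete.prec' (I := 𝔫) (M := Q) z hz
  refine ⟨(L : M), hQfix L, fun n => ?_⟩
  have h1 : ((L : M) - x (ν' n)) ∈ (m ^ n • ⊤ : Submodule A M) := by
    have := hL n
    rw [SModEq.sub_mem] at this
    have h2 : L - z n ∈ (𝔫 ^ n • ⊤ : Submodule B Q) := by
      have h3 := Submodule.neg_mem _ this
      rwa [neg_sub] at h3
    exact hpow n (L - z n) h2
  have h2 : x (ν' n) - x n ∈ (m ^ n • ⊤ : Submodule A M) := sub_mem_of_le m x hc n (ν' n) (hν'1 n)
  have : (L : M) - x n = ((L : M) - x (ν' n)) + (x (ν' n) - x n) := by abel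
  rw [this]
  exact Submodule.add_mem _ h1 h2

end Complete

end Groth.Agent.H40.LunaComplete
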