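import Mathlib

/-!
# Sections of bialgebra maps onto diagonalisable bialgebras (helper40)

Over a field `K`, let `π : H → P` be a bialgebra map onto a bialgebra `P` spanned by group-like
elements, such that every group-like element of `P` lifts uniquely to a group-like element of `H`.
Then `π` has a unique bialgebra section, compatible with every semilinear symmetry.
-/

set_option autoImplicit false
open TensorProduct Coalgebra
universe u v w

namespace Groth.Agent.H40.SplitSec

section Basis

variable {K : Type u} [Field K] {P : Type v} [AddCommGroup P] [Module K P] [Coalgebra K P]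

/-- the basis of group-like elements of a coalgebra spanned by them. -/
noncomputable def glB (hP : Submodule.span K {x : P | IsGroupLikeElem K x} = ⊤) :
    Module.Basis {x : P | IsGroupLikeElem K x} K P :=
  Module.Basis.mk (v := fun x : {x : P | IsGroupLikeElem K x} => (x : P))
    linearIndepOn_isGroupLikeElem (by rw [Subtype.range_coe]; exact hP.ge)

lemma glB_apply (hP : Submodule.span K {x : P | IsGroupLikeElem K x} = ⊤)
    (x : {x : P | IsGroupLikeElem K x}) : glB hP x = (x : P) := by
  unfold glB
  rw [Module.Basis.mk_apply]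

/-- a group-like element in the span of a set of group-like elements belongs to the set. -/
lemma mem_of_mem_span_groupLike (hP : Submodule.span K {x : P | IsGroupLikeElem K x} = ⊤)
    (S : Set P) (hS : ∀ x ∈ S, IsGroupLikeElem K x) {x : P} (hx : IsGroupLikeElem K x)
    (hxS : x ∈ Submodule.span K S) : x ∈ S := by
  classical
  let s : Set {x : P | IsGroupLikeElem K x} := {y | (y : P) ∈ S}
  have himg : (glB hP) '' s = S := by
    ext y
    constructor
    · rintro ⟨z, hz, rfl⟩
      rw [glB_apply]
      exact hz
    · intro hy
      exact ⟨⟨y, hS y hy⟩, hy, glB_apply hP _⟩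
  rw [← himg, Module.Basis.mem_span_image] at hxS
  have h1 : (glB hP).repr x = Finsupp.single (⟨x, hx⟩ : {x : P | IsGroupLikeElem K x}) 1 := by
    have h0 : (glB hP).repr (glB hP ⟨x, hx⟩) = Finsupp.single ⟨x, hx⟩ 1 :=
      Module.Basis.repr_self _ _
    rwa [glB_apply] at h0
  rw [h1, Finsupp.support_single _ one_ne_zero, Finset.coe_singleton,
    Set.singleton_subset_iff] at hxS
  exact hxS

end Basis

section Sec

variable {K : Type u} [Field K] {H : Type v} [CommRing H] [Bialgebra K H]
  {P : Type w} [CommRing P] [Bialgebra K P] (π : H →ₐc[K] P)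
  (hP : Submodule.span K {x : P | IsGroupLikeElem K x} = ⊤)
  (hex : ∀ x : P, IsGroupLikeElem K x → ∃ g : H, IsGroupLikeElem K g ∧ π g = x)
  (huniq : ∀ g g' : H, IsGroupLikeElem K g → IsGroupLikeElem K g' → π g = π g' → g = g')

/-- the chosen group-like lift. -/
noncomputable def liftGL (x : {x : P | IsGroupLikeElem K x}) : H :=
  Classical.choose (hex x x.2)

lemma liftGL_spec (x : {x : P | IsGroupLikeElem K x}) :
    IsGroupLikeElem K (liftGL π hex x) ∧ π (liftGL π hex x) = x :=
  Classical.choose_spec (hex x x.2)

/-- the linear section. -/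
noncomputable def secLin : P →ₗ[K] H := (glB hP).constr K (liftGL π hex)

lemma secLin_groupLike {x : P} (hx : IsGroupLikeElem K x) :
    secLin π hP hex x = liftGL π hex ⟨x, hx⟩ := by
  unfold secLin
  have h0 := Module.Basis.constr_basis (glB hP) K (liftGL π hex) ⟨x, hx⟩
  rwa [glB_apply] at h0

lemma isGroupLikeElem_secLin {x : P} (hx : IsGroupLikeElem K x) :
    IsGroupLikeElem K (secLin π hP hex x) := by
  rw [secLin_groupLike π hP hex hx]
  exact (liftGL_spec π hex ⟨x, hx⟩).1

lemma pi_secLin_groupLike {x : P} (hx : IsGroupLikeElem K x) :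
    π (secLin π hP hex x) = x := by
  rw [secLin_groupLike π hP hex hx]
  exact (liftGL_spec π hex ⟨x, hx⟩).2

include huniq in
lemma secLin_pi {g : H} (hg : IsGroupLikeElem K g) : secLin π hP hex (π g) = g :=
  huniq _ _ (isGroupLikeElem_secLin π hP hex (hg.map π)) hg
    (pi_secLin_groupLike π hP hex (hg.map π))

include huniq in
lemma secLin_one : secLin π hP hex 1 = 1 := by
  have h := secLin_pi π hP hex huniq (IsGroupLikeElem.one (R := K) (A := H))
  rwa [map_one] at h

include huniq in
lemma secLin_mul (p q : P) : secLin π hP hex (p * q) = secLin π hP hex p * secLin π hP hex q := by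
  have key : (LinearMap.mul K P).compr₂ (secLin π hP hex) =
      (LinearMap.mul K H).compl₁₂ (secLin π hP hex) (secLin π hP hex) := by
    refine (glB hP).ext fun x => (glB hP).ext fun y => ?_
    rw [LinearMap.compr₂_apply, LinearMap.compl₁₂_apply, LinearMap.mul_apply', LinearMap.mul_apply',
      glB_apply, glB_apply]
    have hx := x.2
    have hy := y.2
    rw [Set.mem_ofPred_eq] at hx hy
    apply huniq _ _ (isGroupLikeElem_secLin π hP hex (hx.mul hy))
      ((isGroupLikeElem_secLin π hP hex hx).mul (isGroupLikeElem_secLin π hP hex hy))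
    rw [map_mul π, pi_secLin_groupLike π hP hex (hx.mul hy), pi_secLin_groupLike π hP hex hx,
      pi_secLin_groupLike π hP hex hy]
  have := LinearMap.congr_fun (LinearMap.congr_fun key p) q
  rwa [LinearMap.compr₂_apply, LinearMap.compl₁₂_apply, LinearMap.mul_apply',
    LinearMap.mul_apply'] at this

/-- the section as an algebra map. -/
noncomputable def secAlg : P →ₐ[K] H :=
  AlgHom.ofLinearMap (secLin π hP hex) (secLin_one π hP hex huniq) (secLin_mul π hP hex huniq)

lemma secAlg_apply (p : P) : secAlg π hP hex huniq p = secLin π hP hex p := rfl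

/-- the section as a bialgebra map. -/
noncomputable def sec : P →ₐc[K] H :=
  BialgHom.ofAlgHom (secAlg π hP hex huniq)
    (by
      apply AlgHom.toLinearMap_injective
      refine (glB hP).ext fun x => ?_
      have hx := x.2
      rw [Set.mem_ofPred_eq] at hx
      rw [glB_apply]
      show counit (R := K) (secLin π hP hex (x : P)) = counit (R := K) (x : P)
      rw [(isGroupLikeElem_secLin π hP hex hx).counit_eq_one, hx.counit_eq_one])
    (by
      apply AlgHom.toLinearMap_injective
      refine (glB hP).ext fun x => ?_
      have hx := x.2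
      rw [Set.mem_ofPred_eq] at hx
      rw [glB_apply]
      show Algebra.TensorProduct.map (secAlg π hP hex huniq) (secAlg π hP hex huniq)
          (comul (R := K) (x : P)) = comul (R := K) (secLin π hP hex (x : P))
      rw [(isGroupLikeElem_secLin π hP hex hx).comul_eq_tmul_self, hx.comul_eq_tmul_self,
        Algebra.TensorProduct.map_tmul]
      rfl)

lemma sec_apply (p : P) : sec π hP hex huniq p = secLin π hP hex p := rfl

lemma pi_sec (p : P) : π (sec π hP hex huniq p) = p := by
  have key : (π : H →ₗ[K] P) ∘ₗ secLin π hP hex = LinearMap.id := by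
    refine (glB hP).ext fun x => ?_
    have hx := x.2
    rw [Set.mem_ofPred_eq] at hx
    rw [glB_apply, LinearMap.comp_apply, LinearMap.id_apply]
    exact pi_secLin_groupLike π hP hex hx
  exact LinearMap.congr_fun key p

lemma sec_pi_groupLike {g : H} (hg : IsGroupLikeElem K g) : sec π hP hex huniq (π g) = g :=
  secLin_pi π hP hex huniq hg

/-- the section commutes with semilinear symmetries preserving group-like elements. -/
theorem sec_equivariant (σ : K → K) (τH : H →+ H) (τP : P →+ P)
    (hτH : ∀ (c : K) (y : H), τH (c • y) = σ c • τH y)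
    (hτP : ∀ (c : K) (y : P), τP (c • y) = σ c • τP y)
    (hgH : ∀ g : H, IsGroupLikeElem K g → IsGroupLikeElem K (τH g))
    (hgP : ∀ x : P, IsGroupLikeElem K x → IsGroupLikeElem K (τP x))
    (hπ : ∀ y : H, π (τH y) = τP (π y)) (p : P) :
    sec π hP hex huniq (τP p) = τH (sec π hP hex huniq p) := by
  have hp : p ∈ Submodule.span K {x : P | IsGroupLikeElem K x} := hP ▸ Submodule.mem_top
  refine Submodule.span_induction
    (p := fun p _ => sec π hP hex huniq (τP p) = τH (sec π hP hex huniq p)) ?_ ?_ ?_ ?_ hp
  · intro x hx
    rw [Set.mem_ofPred_eq] at hx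
    apply huniq _ _ (isGroupLikeElem_secLin π hP hex (hgP x hx))
      (hgH _ (isGroupLikeElem_secLin π hP hex hx))
    rw [hπ]
    show π (sec π hP hex huniq (τP x)) = τP (π (sec π hP hex huniq x))
    rw [pi_sec, pi_sec]
  · rw [map_zero, map_zero, map_zero]
  · intro a b _ _ ha hb
    rw [map_add, map_add, map_add, map_add, ha, hb]
  · intro c a _ ha
    rw [hτP, map_smul, map_smul, hτH, ha]

end Sec

end Groth.Agent.H40.SplitSec
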