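import Mathlib
import Groth.Agent.H40.Conil5
import Groth.Agent.H40.UnipFin
import Groth.Agent.H40.SplitSec
import Groth.Agent.H40.GalFix
import Groth.Agent.Lib.Helper84.CoinvSub
import Groth.Agent.Lib.Helper84.BialgDescent

/-!
# The retraction of a commutative affine group onto its largest subgroup of multiplicative type
(helper40)

For a commutative and cocommutative Hopf algebra `A` over a perfect field `k`, the quotient map
`A → A ⧸ conilIdeal k A` onto the largest quotient of multiplicative type has a bialgebra section.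
-/

set_option autoImplicit false
set_option linter.unusedSectionVars false
open TensorProduct Coalgebra
universe u v w

namespace Groth.Agent.H40.MUSec

open Groth.Agent.H40 Groth.Agent.H40.Soc Groth.Agent.H40.Conil Groth.Agent.H40.UnipFin
  Groth.Agent.H40.SplitSec Groth.Agent.Lib.Helper86.HopfSub

section GrpLike

variable {K : Type u} [Field K] {H : Type v} [CommRing H] [Bialgebra K H]

lemma T_groupLike' {g : H} (hg : IsGroupLikeElem K g) (ψ : H →ₗ[K] K) : T ψ g = ψ g • g := by
  rw [T_apply, hg.comul_eq_tmul_self, slice_tmul]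

/-- a group-like element in the conilpotent part is trivial. -/
theorem groupLike_eq_one_of_mem_conilN {g : H} (hg : IsGroupLikeElem K g) :
    ∀ n : ℕ, g ∈ conilN K H n → g = 1 := by
  intro n
  induction n with
  | zero =>
    intro h
    rw [conilN_zero, Submodule.mem_bot] at h
    exact absurd h hg.ne_zero
  | succ n ih =>
    intro h
    by_cases hall : ∀ ψ : H →ₗ[K] K, ψ 1 = 0 → ψ g = 0
    · have hmem : g ∈ Submodule.span K ({1} : Set H) := by
        by_contra hnot
        obtain ⟨f, hf, hf'⟩ := Submodule.exists_dual_map_eq_bot_of_notMem hnot inferInstance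
        apply hf
        apply hall
        have : f 1 ∈ (Submodule.span K ({1} : Set H)).map f :=
          Submodule.mem_map_of_mem (Submodule.mem_span_singleton_self 1)
        rw [hf', Submodule.mem_bot] at this
        exact this
      obtain ⟨c, rfl⟩ := Submodule.mem_span_singleton.mp hmem
      have h1 := hg.counit_eq_one
      rw [map_smul, Bialgebra.counit_one, smul_eq_mul, mul_one] at h1
      rw [h1, one_smul]
    · push Not at hall
      obtain ⟨ψ, hψ1, hψg⟩ := hall
      have h2 := mem_conilN_succ.mp h ψ hψ1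
      rw [T_groupLike' hg] at h2
      apply ih
      have := Submodule.smul_mem _ (ψ g)⁻¹ h2
      rwa [smul_smul, inv_mul_cancel₀ hψg, one_smul] at this

end GrpLike


section Lifts

variable {k : Type u} [Field k] {A : Type u} [CommRing A] [HopfAlgebra k A]
  [Coalgebra.IsCocomm k A]
  {P : Type u} [CommRing P] [HopfAlgebra k P] (π : A →ₐc[k] P)
  (K : Type u) [Field K] [Algebra k K]

/-- the base change of `π`. -/
noncomputable abbrev piK : K ⊗[k] A →ₐc[K] K ⊗[k] P :=
  Bialgebra.TensorProduct.map (BialgHom.id K K) π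

lemma piK_tmul (e : K) (a : A) : piK π K (e ⊗ₜ[k] a) = e ⊗ₜ[k] π a := rfl

lemma piK_eq_map (y : K ⊗[k] A) :
    piK π K y = Algebra.TensorProduct.map (AlgHom.id k K) (π : A →ₐ[k] P) y := by
  induction y using TensorProduct.induction_on with
  | zero => simp
  | tmul e a => rfl
  | add x y hx hy => rw [map_add, map_add, hx, hy]

variable (hπc : ∀ b : A, (∃ n, b ∈ conilN k A n) → π b = algebraMap k P (counit (R := k) b))

include hπc in
/-- modulo the kernel of `π`, conilpotent elements of the base change are scalars. -/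
lemma piK_conil {n : ℕ} {b : K ⊗[k] A} (hb : b ∈ conilN K (K ⊗[k] A) n) :
    ∃ c : K, piK π K b = c • (1 : K ⊗[k] P) := by
  obtain ⟨s, hs⟩ := mem_range_lTensor_of_mem_conilN K hb
  rw [← hs]
  clear hs
  induction s using TensorProduct.induction_on with
  | zero => exact ⟨0, by simp⟩
  | tmul e b' =>
    refine ⟨counit (R := k) (b' : A) • e, ?_⟩
    rw [LinearMap.lTensor_tmul, Submodule.subtype_apply, piK_tmul, hπc _ ⟨n, b'.2⟩,
      Algebra.algebraMap_eq_smul_one, TensorProduct.tmul_smul,
      Algebra.TensorProduct.one_def, TensorProduct.smul_tmul', TensorProduct.smul_tmul',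
      smul_eq_mul, mul_one]
  | add s₁ s₂ h₁ h₂ =>
    obtain ⟨c₁, h₁⟩ := h₁
    obtain ⟨c₂, h₂⟩ := h₂
    exact ⟨c₁ + c₂, by rw [map_add, map_add, h₁, h₂, add_smul]⟩

variable [IsAlgClosed K]

include hπc in
/-- the image of `π_K` is spanned by the images of the group-like elements. -/
lemma piK_mem_span (y : K ⊗[k] A) :
    piK π K y ∈ Submodule.span K ((piK π K) '' {g : K ⊗[k] A | IsGroupLikeElem K g}) := by
  have hy := mem_span_groupLike_mul_conil (K := K) (H := K ⊗[k] A) y
  refine Submodule.span_induction (p := fun y _ => piK π K y ∈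
    Submodule.span K ((piK π K) '' {g : K ⊗[k] A | IsGroupLikeElem K g})) ?_ ?_ ?_ ?_ hy
  · rintro _ ⟨g, b, hg, ⟨n, hb⟩, rfl⟩
    obtain ⟨c, hc⟩ := piK_conil π K hπc hb
    rw [map_mul, hc, mul_smul_comm, mul_one]
    exact Submodule.smul_mem _ _ (Submodule.subset_span ⟨g, hg, rfl⟩)
  · simp
  · intro a b _ _ ha hb
    rw [map_add]; exact Submodule.add_mem _ ha hb
  · intro c a _ ha
    rw [map_smul]; exact Submodule.smul_mem _ _ ha

variable (hπ : Function.Surjective π)

include hπ in
lemma piK_surjective : Function.Surjective (piK π K) :=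
  bialgMap_surjective _ _ Function.surjective_id hπ

include hπc hπ in
theorem span_groupLike_P :
    Submodule.span K {x : K ⊗[k] P | IsGroupLikeElem K x} = ⊤ := by
  rw [eq_top_iff]
  rintro x -
  obtain ⟨y, rfl⟩ := piK_surjective π K hπ x
  refine Submodule.span_mono ?_ (piK_mem_span π K hπc y)
  rintro _ ⟨g, hg, rfl⟩
  exact hg.map (piK π K)

include hπc hπ in
/-- group-like elements lift. -/
theorem exists_lift (x : K ⊗[k] P) (hx : IsGroupLikeElem K x) :
    ∃ g : K ⊗[k] A, IsGroupLikeElem K g ∧ piK π K g = x := by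
  obtain ⟨y, rfl⟩ := piK_surjective π K hπ x
  have h := mem_of_mem_span_groupLike (span_groupLike_P π K hπc hπ)
    ((piK π K) '' {g : K ⊗[k] A | IsGroupLikeElem K g})
    (by rintro _ ⟨g, hg, rfl⟩; exact hg.map (piK π K)) hx (piK_mem_span π K hπc y)
  obtain ⟨g, hg, hgy⟩ := h
  exact ⟨g, hg, hgy⟩

end Lifts


section Uniq

open Groth.Agent.Lib.Helper84

variable {k : Type u} [Field k] {A : Type u} [CommRing A] [HopfAlgebra k A]
  [Coalgebra.IsCocomm k A]
  {P : Type u} [CommRing P] [HopfAlgebra k P] (π : A →ₐc[k] P)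
  (K : Type u) [Field K] [Algebra k K]
  (hπ : Function.Surjective π)
  (hker : ∀ a : A, π a = 0 → a ∈ SGA3.augIdealSpan k A (conil k A))

include hπ hker in
lemma mem_augK_of_piK_eq_zero (y : K ⊗[k] A) (hy : piK π K y = 0) :
    y ∈ SGA3.augIdealSpan K (K ⊗[k] A) (conil K (K ⊗[k] A)) := by
  have h1 : y ∈ RingHom.ker (Algebra.TensorProduct.map (AlgHom.id k K) (π : A →ₐ[k] P)) := by
    rw [RingHom.mem_ker, ← piK_eq_map]
    exact hy
  have hπ' : Function.Surjective (π : A →ₐ[k] P) := hπ
  rw [Algebra.TensorProduct.lTensor_ker _ hπ'] at h1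
  have hle : SGA3.augIdealSpan k A (conil k A) ≤
      Ideal.comap (Algebra.TensorProduct.includeRight : A →ₐ[k] K ⊗[k] A)
        (SGA3.augIdealSpan K (K ⊗[k] A) (conil K (K ⊗[k] A))) := by
    unfold SGA3.augIdealSpan
    rw [Ideal.span_le]
    rintro b ⟨hb, hε⟩
    rw [SetLike.mem_coe, Ideal.mem_comap]
    apply Ideal.subset_span
    refine ⟨?_, ?_⟩
    · obtain ⟨n, hn⟩ := hb
      exact ⟨n, one_tmul_mem_conilN_baseChange K hn⟩
    · show counit (R := K) ((1 : K) ⊗ₜ[k] b) = 0
      rw [BialgDescent.counit_one_tmul, hε, map_zero]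
  refine (Ideal.map_le_iff_le_comap.2 ?_) h1
  intro a ha
  exact hle (hker a ha)

variable [IsAlgClosed K]

include hπ hker in
lemma eq_one_of_piK_eq_one (γ : K ⊗[k] A) (hγ : IsGroupLikeElem K γ) (h1 : piK π K γ = 1) :
    γ = 1 := by
  have hmem : γ - 1 ∈ SGA3.augIdealSpan K (K ⊗[k] A) (conil K (K ⊗[k] A)) :=
    mem_augK_of_piK_eq_zero π K hπ hker _ (by rw [map_sub, h1, map_one, sub_self])
  have hco : γ ∈ Coinv.coinv (k := K) (SGA3.augIdealSpan K (K ⊗[k] A) (conil K (K ⊗[k] A))) := by
    rw [Coinv.mem_coinv]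
    unfold Coinv.IsCoinv
    rw [hγ.comul_eq_tmul_self, LinearMap.lTensor_tmul]
    congr 1
    show Ideal.Quotient.mk _ γ = 1
    rw [← map_one (Ideal.Quotient.mk _), Ideal.Quotient.eq]
    exact hmem
  rw [CoinvSub.coinv_augIdealSpan (conil K (K ⊗[k] A))
    ((HopfFFUnion.isHopfSub_iff _).2 isHopfSub_conil)] at hco
  obtain ⟨n, hn⟩ := hco
  exact groupLike_eq_one_of_mem_conilN hγ n hn

include hπ hker in
theorem lift_unique (g g' : K ⊗[k] A) (hg : IsGroupLikeElem K g) (hg' : IsGroupLikeElem K g')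
    (h : piK π K g = piK π K g') : g = g' := by
  have hγ : IsGroupLikeElem K (g * HopfAlgebra.antipode K g') := hg.mul hg'.antipode
  have h1 : piK π K (g * HopfAlgebra.antipode K g') = 1 := by
    rw [map_mul, h, ← map_mul, hg'.mul_antipode_cancel, map_one]
  have h2 := eq_one_of_piK_eq_one π K hπ hker _ hγ h1
  calc g = g * (HopfAlgebra.antipode K g' * g') := by rw [hg'.antipode_mul_cancel, mul_one]
    _ = (g * HopfAlgebra.antipode K g') * g' := by rw [mul_assoc]
    _ = g' := by rw [h2, one_mul]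

end Uniq


section Descent

open Groth.Agent.Lib.Helper84

variable {k : Type u} [Field k] {A : Type u} [CommRing A] [HopfAlgebra k A]
  [Coalgebra.IsCocomm k A]
  {P : Type u} [CommRing P] [HopfAlgebra k P] (π : A →ₐc[k] P)

lemma piK_bcMap (K : Type u) [Field K] [Algebra k K] (σ : K →ₐ[k] K) (y : K ⊗[k] A) :
    piK π K (bcMap σ A y) = bcMap σ P (piK π K y) := by
  induction y using TensorProduct.induction_on with
  | zero => simp
  | tmul c a => rw [bcMap_tmul, piK_tmul, piK_tmul, bcMap_tmul]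
  | add x y hx hy => rw [map_add, map_add, map_add, map_add, hx, hy]

/-- over a perfect field, a surjective bialgebra map killing exactly the augmentation ideal of the
conilpotent part has a bialgebra section. -/
theorem exists_section [PerfectField k] (hπ : Function.Surjective π)
    (hπc : ∀ b : A, (∃ n, b ∈ conilN k A n) → π b = algebraMap k P (counit (R := k) b))
    (hker : ∀ a : A, π a = 0 → a ∈ SGA3.augIdealSpan k A (conil k A)) :
    ∃ s : P →ₐc[k] A, ∀ p, π (s p) = p := by
  let K := AlgebraicClosure k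
  let sK : K ⊗[k] P →ₐc[K] K ⊗[k] A :=
    sec (piK π K) (span_groupLike_P π K hπc hπ) (exists_lift π K hπc hπ)
      (lift_unique π K hπ hker)
  have hfix : ∀ b : P, ∃ a : A, sK ((1 : K) ⊗ₜ[k] b) = (1 : K) ⊗ₜ[k] a := by
    intro b
    apply GalFix.exists_eq_one_tmul_of_fixed (GalFix.fixed_algebraicClosure k)
    intro σ
    have h := sec_equivariant (piK π K) (span_groupLike_P π K hπc hπ) (exists_lift π K hπc hπ)
      (lift_unique π K hπ hker) (fun c => σ c)
      (bcMap (σ : K →ₐ[k] K) A).toRingHom.toAddMonoidHom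
      (bcMap (σ : K →ₐ[k] K) P).toRingHom.toAddMonoidHom
      (fun c y => bcMap_smul (σ : K →ₐ[k] K) A c y)
      (fun c y => bcMap_smul (σ : K →ₐ[k] K) P c y)
      (fun g hg => isGroupLikeElem_bcMap (σ : K →ₐ[k] K) A hg)
      (fun g hg => isGroupLikeElem_bcMap (σ : K →ₐ[k] K) P hg)
      (fun y => piK_bcMap π K (σ : K →ₐ[k] K) y) ((1 : K) ⊗ₜ[k] b)
    have h' : sK (bcMap (σ : K →ₐ[k] K) P ((1 : K) ⊗ₜ[k] b)) =
        bcMap (σ : K →ₐ[k] K) A (sK ((1 : K) ⊗ₜ[k] b)) := h
    rw [bcMap_tmul, map_one] at h'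
    exact h'.symm
  obtain ⟨f, hf, -⟩ := BialgDescent.exists_unique_descent sK hfix
  refine ⟨f, fun p => ?_⟩
  apply BialgDescent.one_tmul_injective (k := k) (k' := K) (A := P)
  show (1 : K) ⊗ₜ[k] π (f p) = (1 : K) ⊗ₜ[k] p
  rw [← piK_tmul, ← hf]
  exact pi_sec (piK π K) _ _ _ _

end Descent

end Groth.Agent.H40.MUSec
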