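import Mathlib
import Groth.Agent.Lib.Helper84.Points

/-!
# Splitting an affine group along a retraction onto a subgroup (helper40)

Let `π : A → P` be a bialgebra map with a bialgebra section `s : P → A` (a retraction
`r : G → M` of group schemes which is the identity on `M`).  Let `q : A → Q` be a surjective
bialgebra map whose kernel is generated by `s(P⁺)` (the kernel `U` of `r`).  Then the multiplication
map `M × U → G` is an isomorphism: `A → P ⊗ Q`, `a ↦ π a₁ ⊗ q a₂` is bijective.
-/

set_option autoImplicit false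
open TensorProduct WithConv Coalgebra
universe u

namespace Groth.Agent.H40.SplitPt

open Groth.Agent.Lib.Helper84.Points

variable {k : Type u} [Field k] {A : Type u} [CommRing A] [HopfAlgebra k A]
  {P : Type u} [CommRing P] [HopfAlgebra k P]
  (π : A →ₐc[k] P) (s : P →ₐc[k] A)

/-- `ρ = s ∘ π` as an `A`-point. -/
noncomputable def rho : Pt k A A := toConv ((s : P →ₐ[k] A).comp (π : A →ₐ[k] P))

/-- the comorphism of `g ↦ r(g)⁻¹ g`. -/
noncomputable def E : A →ₐ[k] A := ((rho π s)⁻¹ * toConv (AlgHom.id k A)).ofConv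

lemma rho_mul_E : rho π s * toConv (E π s) = toConv (AlgHom.id k A) := by
  unfold E
  rw [toConv_ofConv, mul_inv_cancel_left]

variable {π s} (hπs : ∀ p, π (s p) = p)

include hπs in
/-- `E ∘ s` is trivial. -/
lemma E_s (p : P) : E π s (s p) = algebraMap k A (counit (R := k) p) := by
  have h1 : pullPt s (rho π s) = toConv (s : P →ₐ[k] A) := by
    apply WithConv.ofConv_injective
    ext x
    show s (π (s x)) = s x
    rw [hπs]
  have h2 : pullPt s (toConv (AlgHom.id k A) : Pt k A A) = toConv (s : P →ₐ[k] A) := by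
    apply WithConv.ofConv_injective
    ext x
    rfl
  have h3 : pullPt s (toConv (E π s) : Pt k A A) = 1 := by
    unfold E
    rw [toConv_ofConv, map_mul, map_inv, h1, h2, inv_mul_cancel]
  have h4 := congrArg (fun g : Pt k P A => g.ofConv p) h3
  exact h4

/-- the ideal generated by `s(P⁺)`. -/
noncomputable def secIdeal (s : P →ₐc[k] A) : Ideal A :=
  Ideal.map (s : P →+* A) (RingHom.ker (Bialgebra.counitAlgHom k P))

lemma sub_counit_mem_secIdeal (p : P) :
    s p - algebraMap k A (counit (R := k) p) ∈ secIdeal s := by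
  have h1 : p - algebraMap k P (counit (R := k) p) ∈ RingHom.ker (Bialgebra.counitAlgHom k P) := by
    rw [RingHom.mem_ker, map_sub, AlgHom.commutes]
    simp
  have h2 := Ideal.mem_map_of_mem (s : P →+* A) h1
  rw [map_sub] at h2
  have h3 : (s : P →+* A) (algebraMap k P (counit (R := k) p)) =
      algebraMap k A (counit (R := k) p) := AlgHomClass.commutes s _
  rw [h3] at h2
  exact h2

include hπs in
lemma E_mem_secIdeal (a : A) (ha : a ∈ secIdeal s) : E π s a = 0 := by
  have hle : secIdeal s ≤ RingHom.ker (E π s : A →+* A) := by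
    unfold secIdeal
    rw [Ideal.map_le_iff_le_comap]
    intro p hp
    rw [Ideal.mem_comap, RingHom.mem_ker]
    show E π s (s p) = 0
    rw [E_s hπs]
    have : counit (R := k) p = 0 := hp
    rw [this, map_zero]
  exact hle ha

section Main

variable {Q : Type u} [CommRing Q] [HopfAlgebra k Q] (q : A →ₐc[k] Q)
  (hqs : ∀ p : P, q (s p) = algebraMap k Q (counit (R := k) p))

include hqs in
/-- `q ∘ E = q`. -/
lemma q_E (a : A) : q (E π s a) = q a := by
  have h1 : mapPt (q : A →ₐ[k] Q) (rho π s) = 1 := by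
    apply WithConv.ofConv_injective
    ext x
    show q (s (π x)) = algebraMap k Q (counit (R := k) x)
    rw [hqs]
    congr 1
    exact CoalgHomClass.counit_comp_apply π x
  have h3 : mapPt (q : A →ₐ[k] Q) (toConv (E π s) : Pt k A A) =
      mapPt (q : A →ₐ[k] Q) (toConv (AlgHom.id k A) : Pt k A A) := by
    unfold E
    rw [toConv_ofConv, map_mul, map_inv, h1, inv_one, one_mul]
  have h4 := congrArg (fun g : Pt k A Q => g.ofConv a) h3
  exact h4

variable (π) in
/-- the comorphism of multiplication `M × U → G`. -/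
noncomputable def Phi : A →ₐ[k] P ⊗[k] Q :=
  (Algebra.TensorProduct.map (π : A →ₐ[k] P) (q : A →ₐ[k] Q)).comp (Bialgebra.comulAlgHom k A)

variable (π) in
lemma lift_map {R : Type u} [CommRing R] [Algebra k R] (m : P →ₐ[k] R) (v : Q →ₐ[k] R)
    (t : A ⊗[k] A) :
    Algebra.TensorProduct.lift m v (fun _ _ => Commute.all _ _)
      (Algebra.TensorProduct.map (π : A →ₐ[k] P) (q : A →ₐ[k] Q) t) =
    Algebra.TensorProduct.lift (m.comp (π : A →ₐ[k] P)) (v.comp (q : A →ₐ[k] Q))
      (fun _ _ => Commute.all _ _) t := by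
  induction t using TensorProduct.induction_on with
  | zero => simp
  | tmul a b => simp
  | add a b ha hb => rw [map_add, map_add, map_add, ha, hb]

variable (π) in
/-- a map out of `P ⊗ Q` composed with `Phi`, as a product of points. -/
lemma comp_Phi {R : Type u} [CommRing R] [Algebra k R] (F : P ⊗[k] Q →ₐ[k] R) :
    (toConv (F.comp (Phi π q)) : Pt k A R) =
      pullPt π (toConv (F.comp Algebra.TensorProduct.includeLeft)) *
        pullPt q (toConv ((F.restrictScalars k).comp Algebra.TensorProduct.includeRight)) := by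
  apply WithConv.ofConv_injective
  ext a
  rw [mul_apply]
  show F (Algebra.TensorProduct.map (π : A →ₐ[k] P) (q : A →ₐ[k] Q) (comul (R := k) a)) = _
  have hF : ∀ t : P ⊗[k] Q, F t =
      Algebra.TensorProduct.lift (F.comp Algebra.TensorProduct.includeLeft)
        ((F.restrictScalars k).comp Algebra.TensorProduct.includeRight)
        (fun _ _ => Commute.all _ _) t := by
    intro t
    induction t using TensorProduct.induction_on with
    | zero => simp
    | tmul x y =>
      rw [Algebra.TensorProduct.lift_tmul]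
      show F (x ⊗ₜ[k] y) = F (x ⊗ₜ[k] 1) * F (1 ⊗ₜ[k] y)
      rw [← map_mul, Algebra.TensorProduct.tmul_mul_tmul, mul_one, one_mul]
    | add x y hx hy => rw [map_add, map_add, hx, hy]
  rw [hF, lift_map]
  rfl

include hπs in
lemma pull_s_pull_pi {R : Type u} [CommRing R] [Algebra k R] (m : Pt k P R) :
    pullPt s (pullPt π m) = m := by
  apply WithConv.ofConv_injective
  apply AlgHom.ext
  intro x
  show m.ofConv (π (s x)) = m.ofConv x
  rw [hπs]

include hqs in
lemma pull_s_pull_q {R : Type u} [CommRing R] [Algebra k R] (v : Pt k Q R) :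
    pullPt s (pullPt q v) = 1 := by
  apply WithConv.ofConv_injective
  apply AlgHom.ext
  intro x
  show v.ofConv (q (s x)) = algebraMap k R (counit (R := k) x)
  rw [hqs, AlgHom.commutes]

include hπs hqs in
/-- `F ↦ F ∘ Phi` is injective. -/
lemma comp_Phi_injective (hq : Function.Surjective q) {R : Type u} [CommRing R] [Algebra k R]
    (F F' : P ⊗[k] Q →ₐ[k] R) (h : F.comp (Phi π q) = F'.comp (Phi π q)) :
    F = F' := by
  have e1 := comp_Phi π q F
  have e2 := comp_Phi π q F'
  generalize hm : (toConv (F.comp Algebra.TensorProduct.includeLeft) : Pt k P R) = m at e1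
  generalize hu : (toConv ((F.restrictScalars k).comp Algebra.TensorProduct.includeRight) :
    Pt k Q R) = u at e1
  generalize hm' : (toConv (F'.comp Algebra.TensorProduct.includeLeft) : Pt k P R) = m' at e2
  generalize hu' : (toConv ((F'.restrictScalars k).comp Algebra.TensorProduct.includeRight) :
    Pt k Q R) = u' at e2
  have h0 : pullPt π m * pullPt q u = pullPt π m' * pullPt q u' := by
    rw [← e1, ← e2, h]
  have h1 : m = m' := by
    have h1 := congrArg (pullPt (R := R) s) h0
    rw [map_mul, map_mul, pull_s_pull_pi hπs, pull_s_pull_pi hπs, pull_s_pull_q q hqs,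
      pull_s_pull_q q hqs, mul_one, mul_one] at h1
    exact h1
  have h2 : u = u' := by
    rw [h1] at h0
    exact pullPt_injective (R := R) q hq (mul_left_cancel h0)
  exact Algebra.TensorProduct.ext (WithConv.toConv_injective (hm.trans (h1.trans hm'.symm)))
    (WithConv.toConv_injective (hu.trans (h2.trans hu'.symm)))

/-- the inverse of `Phi`. -/
noncomputable def Psi (s : P →ₐc[k] A) (Ebar : Q →ₐ[k] A) : P ⊗[k] Q →ₐ[k] A :=
  Algebra.TensorProduct.lift (s : P →ₐ[k] A) Ebar (fun _ _ => Commute.all _ _)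

lemma Psi_comp_Phi (Ebar : Q →ₐ[k] A) (hE : ∀ a, Ebar (q a) = E π s a) :
    (Psi s Ebar).comp (Phi π q) = AlgHom.id k A := by
  apply AlgHom.ext
  intro a
  show Psi s Ebar (Algebra.TensorProduct.map (π : A →ₐ[k] P) (q : A →ₐ[k] Q)
    (comul (R := k) a)) = a
  unfold Psi
  rw [lift_map]
  have h1 : (s : P →ₐ[k] A).comp (π : A →ₐ[k] P) = (rho π s).ofConv := rfl
  have h2 : Ebar.comp (q : A →ₐ[k] Q) = (toConv (E π s) : Pt k A A).ofConv := by
    apply AlgHom.ext
    intro x
    exact hE x
  have h3 := mul_apply (rho π s) (toConv (E π s) : Pt k A A) a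
  rw [rho_mul_E] at h3
  simp only [h1, h2]
  exact h3.symm

include hπs hqs in
lemma Phi_comp_Psi (hq : Function.Surjective q) (Ebar : Q →ₐ[k] A)
    (hE : ∀ a, Ebar (q a) = E π s a) : (Phi π q).comp (Psi s Ebar) = AlgHom.id k _ := by
  apply comp_Phi_injective hπs q hqs hq
  rw [AlgHom.comp_assoc, Psi_comp_Phi q Ebar hE, AlgHom.comp_id, AlgHom.id_comp]

include hπs hqs in
/-- `Phi (E a) = 1 ⊗ q a`. -/
lemma Phi_E (hq : Function.Surjective q) (Ebar : Q →ₐ[k] A)
    (hE : ∀ a, Ebar (q a) = E π s a) (a : A) :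
    Phi π q (E π s a) = (1 : P) ⊗ₜ[k] q a := by
  have h1 := AlgHom.congr_fun (Phi_comp_Psi hπs q hqs hq Ebar hE) ((1 : P) ⊗ₜ[k] q a)
  have h2 : Psi s Ebar ((1 : P) ⊗ₜ[k] q a) = E π s a := by
    unfold Psi
    rw [Algebra.TensorProduct.lift_tmul, map_one, one_mul, hE]
  rw [AlgHom.comp_apply, h2] at h1
  exact h1

include hπs hqs in
/-- **the multiplication `M × U → G` is an isomorphism.** -/
theorem bijective_Phi (hq : Function.Surjective q) (Ebar : Q →ₐ[k] A)
    (hE : ∀ a, Ebar (q a) = E π s a) : Function.Bijective (Phi π q) := by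
  refine Function.bijective_iff_has_inverse.mpr ⟨Psi s Ebar, ?_, ?_⟩
  · intro a
    exact AlgHom.congr_fun (Psi_comp_Phi q Ebar hE) a
  · intro t
    exact AlgHom.congr_fun (Phi_comp_Psi hπs q hqs hq Ebar hE) t

variable (π) in
lemma Phi_factor {Q' : Type u} [CommRing Q'] [HopfAlgebra k Q'] (q' : A →ₐc[k] Q')
    (q'' : Q →ₐ[k] Q') (hq'' : ∀ a, q'' (q a) = q' a) (b : A) :
    Phi π q' b = Algebra.TensorProduct.map (AlgHom.id k P) q'' (Phi π q b) := by
  show Algebra.TensorProduct.map (π : A →ₐ[k] P) (q' : A →ₐ[k] Q') (comul (R := k) b) =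
    Algebra.TensorProduct.map (AlgHom.id k P) q''
      (Algebra.TensorProduct.map (π : A →ₐ[k] P) (q : A →ₐ[k] Q) (comul (R := k) b))
  generalize comul (R := k) b = t
  induction t using TensorProduct.induction_on with
  | zero => simp
  | tmul x y =>
    rw [Algebra.TensorProduct.map_tmul, Algebra.TensorProduct.map_tmul,
      Algebra.TensorProduct.map_tmul]
    show _ = π x ⊗ₜ[k] q'' (q y)
    rw [hq'']
    rfl
  | add x y hx hy => rw [map_add, map_add, map_add, hx, hy]

include hπs hqs in
/-- the kernel of the retraction is the largest subgroup `U'` such that `M × U' → G` is injective. -/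
theorem ker_le_of_injective (hq : Function.Surjective q) (Ebar : Q →ₐ[k] A)
    (hE : ∀ a, Ebar (q a) = E π s a)
    {Q' : Type u} [CommRing Q'] [HopfAlgebra k Q'] (q' : A →ₐc[k] Q')
    (q'' : Q →ₐ[k] Q') (hq'' : ∀ a, q'' (q a) = q' a)
    (hinj : Function.Injective (Phi π q')) (a : A) (ha : q' a = 0) : q a = 0 := by
  have h1 : Phi π q' (E π s a) = 0 := by
    rw [Phi_factor π q q' q'' hq'', Phi_E hπs q hqs hq Ebar hE, Algebra.TensorProduct.map_tmul,
      hq'', ha, TensorProduct.tmul_zero]
  have h2 : E π s a = 0 := hinj (by rw [h1, map_zero])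
  rw [← q_E q hqs, h2, map_zero]

end Main

end Groth.Agent.H40.SplitPt
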