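import Mathlib
import Groth.Agent.H40.SplitPt

/-!
# The projection onto the kernel of a retraction is invariant under the subgroup (helper40)
-/

set_option autoImplicit false
set_option linter.unusedSectionVars false
open TensorProduct WithConv Coalgebra
universe u

namespace Groth.Agent.H40.SplitPt

open Groth.Agent.Lib.Helper84.Points

variable {k : Type u} [Field k] {A : Type u} [CommRing A] [HopfAlgebra k A]
  {P : Type u} [CommRing P] [HopfAlgebra k P]
  {π : A →ₐc[k] P} {s : P →ₐc[k] A}

lemma apply_E {R : Type u} [CommRing R] [Algebra k R] (f : Pt k A R) (a : A) :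
    f.ofConv (E π s a) = ((pullPt (s.comp π) f)⁻¹ * f).ofConv a := by
  have h1 : mapPt f.ofConv (rho π s) = pullPt (s.comp π) f := by
    apply WithConv.ofConv_injective
    apply AlgHom.ext
    intro x
    rfl
  have h2 : mapPt f.ofConv (toConv (AlgHom.id k A) : Pt k A A) = f := by
    apply WithConv.ofConv_injective
    apply AlgHom.ext
    intro x
    rfl
  have h : mapPt f.ofConv (toConv (E π s) : Pt k A A) = (pullPt (s.comp π) f)⁻¹ * f := by
    unfold E
    rw [toConv_ofConv, map_mul, map_inv, h1, h2]
  have h4 := congrArg (fun g : Pt k A R => g.ofConv a) h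
  exact h4

variable (hπs : ∀ p, π (s p) = p)

include hπs in
lemma pull_rho_of_kills {R : Type u} [CommRing R] [Algebra k R] (n : Pt k A R)
    (hn : ∀ a, π a = 0 → n.ofConv a = 0) : pullPt (s.comp π) n = n := by
  apply WithConv.ofConv_injective
  apply AlgHom.ext
  intro a
  show n.ofConv (s (π a)) = n.ofConv a
  rw [← sub_eq_zero, ← map_sub]
  apply hn
  rw [map_sub, hπs, sub_self]

lemma comm_aux [Coalgebra.IsCocomm k A] {R : Type u} [CommRing R] [Algebra k R]
    (x y : Pt k A R) : x * y = y * x := mul_comm x y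

lemma group_aux [Coalgebra.IsCocomm k A] {R : Type u} [CommRing R] [Algebra k R]
    (x g n : Pt k A R) : (x * n)⁻¹ * (g * n) = x⁻¹ * g := by
  calc (x * n)⁻¹ * (g * n) = n⁻¹ * x⁻¹ * (g * n) := by rw [mul_inv_rev]
    _ = n⁻¹ * ((x⁻¹ * g) * n) := by simp only [mul_assoc]
    _ = n⁻¹ * (n * (x⁻¹ * g)) := by rw [comm_aux (x⁻¹ * g) n]
    _ = x⁻¹ * g := inv_mul_cancel_left _ _

include hπs in
/-- `E a` is invariant under translation by points of the subgroup `M`. -/
lemma E_coinv_points [Coalgebra.IsCocomm k A] {R : Type u} [CommRing R] [Algebra k R]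
    (g n : Pt k A R) (hn : ∀ a, π a = 0 → n.ofConv a = 0) (a : A) :
    (g * n).ofConv (E π s a) = g.ofConv (E π s a) := by
  rw [apply_E, apply_E, map_mul, pull_rho_of_kills hπs n hn, group_aux]

end Groth.Agent.H40.SplitPt
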