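import Mathlib
import Groth.Agent.H40.MUSec
import Groth.Agent.H40.SplitPt3
import Groth.Agent.Lib.Helper84.MultUnipHom

/-!
# The decomposition `G = M × U` of a commutative affine group over a perfect field (helper40)
-/

set_option autoImplicit false
set_option linter.unusedSectionVars false
open TensorProduct Coalgebra
universe u v w

namespace Groth.Agent.H40.MUFinal

open Groth.Agent.H40 Groth.Agent.H40.Soc Groth.Agent.H40.Conil Groth.Agent.H40.UnipFin
  Groth.Agent.H40.SplitPt Groth.Agent.H40.MUSec Groth.Agent.Lib.Helper84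
  Groth.Agent.Lib.Helper84.Points

section Push

variable {k : Type u} [Field k] {A : Type v} [CommRing A] [Bialgebra k A]
  {B : Type w} [CommRing B] [Bialgebra k B]

/-- bialgebra maps preserve the conilpotent filtration. -/
lemma map_mem_conilN (f : A →ₐc[k] B) {n : ℕ} {c : A} (hc : c ∈ conilN k A n) :
    f c ∈ conilN k B n := by
  induction n generalizing c with
  | zero =>
    rw [conilN_zero, Submodule.mem_bot] at hc ⊢
    rw [hc, map_zero]
  | succ n ih =>
    rw [mem_conilN_succ] at hc ⊢
    intro ψ hψ
    rw [T_bialgHom]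
    apply ih
    apply hc
    rw [LinearMap.comp_apply]
    have : (f : A →ₗ[k] B) 1 = 1 := map_one f
    rw [this, hψ]

end Push

section Sec

variable {k : Type u} [Field k] {A : Type u} [CommRing A] [HopfAlgebra k A]
  {P : Type u} [CommRing P] [HopfAlgebra k P]

theorem isHopfIdeal_secIdeal (s : P →ₐc[k] A) : (secIdeal s).IsHopfIdeal k := by
  let _ : Algebra P A := (s : P →+* A).toAlgebra
  have : IsScalarTower k P A :=
    IsScalarTower.of_algebraMap_eq (fun r => (AlgHomClass.commutes s r).symm)
  exact HopfFFInf.isHopfIdeal_augMap s (fun _ => rfl)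

end Sec

section Main

variable (k : Type u) [Field k] (A : Type u) [CommRing A] [HopfAlgebra k A]
  [Coalgebra.IsCocomm k A]

lemma conilIdeal_le_augIdealSpan : conilIdeal k A ≤ SGA3.augIdealSpan k A (conil k A) := by
  unfold conilIdeal
  rw [Ideal.map_le_iff_le_comap]
  intro b hb
  rw [Ideal.mem_comap]
  apply Ideal.subset_span
  exact ⟨b.2, hb⟩


/-- **the decomposition `G = M × U`** (SGA 3 XVII 7.2.1, Milne 16.13): over a perfect field, a
commutative affine group is uniquely the product of its largest subgroup of multiplicative type and a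
unipotent subgroup. -/
theorem exists_unique_unipotent_complement [PerfectField k]
    [hJ : (conilIdeal k A).IsHopfIdeal k] :
    ∃! I : Ideal A, ∃ (_ : I.IsHopfIdeal k), HopfRep.IsUnipotent k (A ⧸ I) ∧
      Function.Bijective ((Algebra.TensorProduct.map (Ideal.Quotient.mkₐ k (conilIdeal k A))
        (Ideal.Quotient.mkₐ k I)).comp (Bialgebra.comulAlgHom k A)) := by
  let π : A →ₐc[k] A ⧸ conilIdeal k A := qmap (conilIdeal k A)
  have hπ : Function.Surjective π := qmap_surjective _
  have hπc : ∀ b : A, (∃ n, b ∈ conilN k A n) →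
      π b = algebraMap k (A ⧸ conilIdeal k A) (counit (R := k) b) := fun b hb => mk_conil k A hb
  have hker : ∀ a : A, π a = 0 → a ∈ SGA3.augIdealSpan k A (conil k A) := fun a ha =>
    conilIdeal_le_augIdealSpan k A (Ideal.Quotient.eq_zero_iff_mem.1 ha)
  obtain ⟨s, hπs⟩ := exists_section π hπ hπc hker
  have hI : (secIdeal s).IsHopfIdeal k := isHopfIdeal_secIdeal s
  let q : A →ₐc[k] A ⧸ secIdeal s := qmap (secIdeal s)
  have hqs : ∀ p : A ⧸ conilIdeal k A, q (s p) =
      algebraMap k (A ⧸ secIdeal s) (counit (R := k) p) := by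
    intro p
    have h := sub_counit_mem_secIdeal (s := s) p
    rw [← Ideal.Quotient.eq] at h
    show Ideal.Quotient.mk (secIdeal s) (s p) = _
    rw [h]
    rfl
  let Ebar : A ⧸ secIdeal s →ₐ[k] A :=
    Ideal.Quotient.liftₐ (secIdeal s) (E π s) (fun a ha => E_mem_secIdeal hπs a ha)
  have hE : ∀ a, Ebar (q a) = E π s a := fun a => rfl
  have hbij := bijective_Phi hπs q hqs (qmap_surjective _) Ebar hE
  have hunip : HopfRep.IsUnipotent k (A ⧸ secIdeal s) := by
    apply isUnipotent_of_conil
    intro x
    obtain ⟨a, rfl⟩ := qmap_surjective (k := k) (secIdeal s) x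
    have hco : E π s a ∈ Coinv.coinv (k := k) (conilIdeal k A) := by
      rw [Coinv.mem_coinv_iff_points]
      intro R _ _ g n hn
      exact E_coinv_points hπs g n
        (fun a ha => hn a (Ideal.Quotient.eq_zero_iff_mem.1 ha)) a
    have hco2 : E π s a ∈ conil k A := by
      have h := Coinv.coinv_mono (conilIdeal_le_augIdealSpan k A) hco
      rwa [CoinvSub.coinv_augIdealSpan (conil k A)
        ((HopfFFUnion.isHopfSub_iff _).2 isHopfSub_conil)] at h
    obtain ⟨n, hn⟩ := hco2
    refine ⟨n, ?_⟩
    rw [← q_E q hqs a]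
    exact map_mem_conilN q hn
  refine ⟨secIdeal s, ⟨hI, hunip, hbij⟩, ?_⟩
  rintro I' ⟨hI', hU', hb'⟩
  have hq's : ∀ p : A ⧸ conilIdeal k A, qmap (k := k) I' (s p) =
      algebraMap k (A ⧸ I') (counit (R := k) p) := fun p =>
    MultUnipHom.trivial_of_mult_to_unipotent (K := AlgebraicClosure k)
      (span_groupLike_P π (AlgebraicClosure k) hπc hπ)
      (isUnipotent_baseChange (AlgebraicClosure k) hU') ((qmap (k := k) I').comp s) p
  have hle : secIdeal s ≤ I' := by
    unfold secIdeal
    rw [Ideal.map_le_iff_le_comap]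
    intro p hp
    rw [Ideal.mem_comap]
    have h := hq's p
    have hp' : counit (R := k) p = 0 := hp
    rw [hp', map_zero] at h
    exact Ideal.Quotient.eq_zero_iff_mem.1 h
  apply le_antisymm _ hle
  intro a ha
  have h := ker_le_of_injective hπs q hqs (qmap_surjective _) Ebar hE (qmap (k := k) I')
    (Ideal.Quotient.factorₐ k hle) (fun a => rfl) hb'.injective a
    (Ideal.Quotient.eq_zero_iff_mem.2 ha)
  exact Ideal.Quotient.eq_zero_iff_mem.1 h

end Main

end Groth.Agent.H40.MUFinal
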