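import Mathlib

/-!
# A cancellation lemma for modules over finite-dimensional algebras

`R` a finite-dimensional algebra over a field `k`, `M` an `R`-module, finite-dimensional over `k`, with
`M^n ≅ R^n` as `R`-modules for some `n > 0`.  Then `M` is cyclic (`exists_generator`).

The proof counts dimensions of `Hom_R(-, S)` for simple `S` and works in the semisimple tops
`M / rad M`, `R / rad R`.
-/

set_option autoImplicit false

namespace Groth.Agent.H40.ModCancel

open Module

universe u v w w'

section Hom

variable {k : Type u} {R : Type v} [Field k] [Ring R] [Algebra k R]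
variable {M : Type w} [AddCommGroup M] [Module k M] [Module R M] [IsScalarTower k R M]
variable {S : Type w'} [AddCommGroup S] [Module k S] [Module R S] [IsScalarTower k R S]

instance finite_hom [FiniteDimensional k M] [FiniteDimensional k S] :
    Module.Finite k (M →ₗ[R] S) :=
  Module.Finite.of_injective (LinearMap.restrictScalarsₗ k R M S k)
    (LinearMap.restrictScalars_injective k)

variable (k S) in
/-- `dim_k Hom_R(M, S)` is additive over complementary submodules. -/
theorem finrank_hom_of_isCompl [FiniteDimensional k M] [FiniteDimensional k S]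
    {p q : Submodule R M} (h : IsCompl p q) :
    finrank k (M →ₗ[R] S) = finrank k (p →ₗ[R] S) + finrank k (q →ₗ[R] S) := by
  have e1 : (M →ₗ[R] S) ≃ₗ[k] ((p × q) →ₗ[R] S) :=
    (LinearEquiv.congrLeft S k (Submodule.prodEquivOfIsCompl p q h)).symm
  have e2 : ((p →ₗ[R] S) × (q →ₗ[R] S)) ≃ₗ[k] ((p × q) →ₗ[R] S) := LinearMap.coprodEquiv k
  have : FiniteDimensional k p :=
    Module.Finite.of_injective (p.subtype.restrictScalars k) p.subtype_injective
  have : FiniteDimensional k q :=
    Module.Finite.of_injective (q.subtype.restrictScalars k) q.subtype_injective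
  rw [e1.finrank_eq, ← e2.finrank_eq, Module.finrank_prod]

theorem finite_submodule [FiniteDimensional k M] (p : Submodule R M) : FiniteDimensional k p :=
  Module.Finite.of_injective (p.subtype.restrictScalars k) p.subtype_injective

end Hom

section SS

variable {k : Type u} {R : Type v} [Field k] [Ring R] [Algebra k R]

/-- Between semisimple modules: if `dim Hom(X, S) ≤ dim Hom(P, S)` for all simple `S`, then `X` is a
quotient of `P`. -/
theorem exists_surjective_aux : ∀ (n : ℕ) (X : Type w) [AddCommGroup X] [Module k X] [Module R X]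
    [IsScalarTower k R X] [IsSemisimpleModule R X] [FiniteDimensional k X]
    (P : Type w') [AddCommGroup P] [Module k P] [Module R P] [IsScalarTower k R P]
    [IsSemisimpleModule R P] [FiniteDimensional k P],
    finrank k X = n →
    (∀ (S : Type w) [AddCommGroup S] [Module k S] [Module R S] [IsScalarTower k R S]
      [IsSimpleModule R S] [FiniteDimensional k S],
      finrank k (X →ₗ[R] S) ≤ finrank k (P →ₗ[R] S)) →
    ∃ g : P →ₗ[R] X, Function.Surjective g := by
  intro n
  induction n using Nat.strong_induction_on with
  | _ n ih =>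
    intro X _ _ _ _ _ _ P _ _ _ _ _ _ hn hyp
    by_cases hX : Subsingleton X
    · exact ⟨0, fun x => ⟨0, Subsingleton.elim _ _⟩⟩
    have hnt : Nontrivial X := not_subsingleton_iff_nontrivial.mp hX
    obtain ⟨S, hS⟩ := IsSemisimpleModule.exists_simple_submodule R X
    obtain ⟨X', hc⟩ := exists_isCompl S
    have hfS : FiniteDimensional k S := finite_submodule S
    have hfX' : FiniteDimensional k X' := finite_submodule X'
    have hSnt : Nontrivial S := IsSimpleModule.nontrivial R S
    have h1 : 0 < finrank k (X →ₗ[R] S) := by
      rw [Module.finrank_pos_iff_exists_ne_zero]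
      refine ⟨Submodule.projectionOnto S X' hc, fun h0 => ?_⟩
      obtain ⟨s, hs⟩ := exists_ne (0 : S)
      have := LinearMap.congr_fun h0 (s : X)
      rw [Submodule.projectionOnto_apply_left, LinearMap.zero_apply] at this
      exact hs this
    obtain ⟨f, hf⟩ : ∃ f : P →ₗ[R] S, f ≠ 0 :=
      Module.finrank_pos_iff_exists_ne_zero.mp (h1.trans_le (hyp S))
    have hfs : Function.Surjective f := (LinearMap.surjective_or_eq_zero f).resolve_right hf
    obtain ⟨S', hc'⟩ := exists_isCompl (LinearMap.ker f)
    let e : S' ≃ₗ[R] S :=
      (Submodule.quotientEquivOfIsCompl _ S' hc').symm ≪≫ₗ f.quotKerEquivOfSurjective hfs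
    have hlt : finrank k X' < n := by
      have e0 := ((Submodule.prodEquivOfIsCompl S X' hc).restrictScalars k).finrank_eq
      rw [Module.finrank_prod] at e0
      have : 0 < finrank k S := Module.finrank_pos
      omega
    have hfker : FiniteDimensional k (LinearMap.ker f) := finite_submodule _
    obtain ⟨g', hg'⟩ := ih _ hlt X' (LinearMap.ker f) rfl (by
      intro T _ _ _ _ _ _
      have a1 := finrank_hom_of_isCompl k T hc
      have a2 := finrank_hom_of_isCompl k T hc'
      have a3 : finrank k (S' →ₗ[R] T) = finrank k (S →ₗ[R] T) :=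
        (LinearEquiv.congrLeft T k e).finrank_eq
      have a4 := hyp T
      omega)
    refine ⟨S.subtype ∘ₗ e.toLinearMap ∘ₗ (Submodule.projectionOnto S' (LinearMap.ker f) hc'.symm)
      + X'.subtype ∘ₗ g' ∘ₗ (Submodule.projectionOnto (LinearMap.ker f) S' hc'), fun x => ?_⟩
    obtain ⟨⟨s, x'⟩, rfl⟩ := (Submodule.prodEquivOfIsCompl S X' hc).surjective x
    obtain ⟨s', rfl⟩ := e.surjective s
    obtain ⟨p', rfl⟩ := hg' x'
    refine ⟨(s' : P) + (p' : P), ?_⟩
    simp only [LinearMap.add_apply, LinearMap.comp_apply, map_add,
      Submodule.projectionOnto_apply_left, Submodule.projectionOnto_apply_right,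
      add_zero, zero_add, map_zero, Submodule.coe_prodEquivOfIsCompl', Submodule.subtype_apply,
      LinearEquiv.coe_coe]

end SS

section Precomp

variable {k : Type u} {R : Type v} [Field k] [Ring R] [Algebra k R]
variable {M : Type w} [AddCommGroup M] [Module R M]
variable {N : Type w'} [AddCommGroup N] [Module R N]
variable (S : Type*) [AddCommGroup S] [Module k S] [Module R S] [IsScalarTower k R S]

variable (k) in
/-- Precomposition with `f`, as a `k`-linear map on `Hom_R`. -/
def precomp (f : M →ₗ[R] N) : (N →ₗ[R] S) →ₗ[k] (M →ₗ[R] S) where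
  toFun g := g.comp f
  map_add' g h := LinearMap.add_comp f h g
  map_smul' c g := LinearMap.smul_comp c g f

theorem precomp_injective (f : M →ₗ[R] N) (hf : Function.Surjective f) :
    Function.Injective (precomp k S f) := by
  intro g h hgh
  apply LinearMap.ext
  intro y
  obtain ⟨x, rfl⟩ := hf y
  exact LinearMap.congr_fun hgh x

end Precomp

section Cyc

/-- If `M^n ≅ A^n` as `A`-modules (`n > 0`), `A` a finite-dimensional algebra over a field and `M`
finite-dimensional, then `M` is cyclic. -/
theorem exists_generator (k : Type u) {A : Type v} [Field k] [Ring A] [Algebra k A]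
    [FiniteDimensional k A] {M : Type w} [AddCommGroup M] [Module k M] [Module A M]
    [IsScalarTower k A M] [FiniteDimensional k M]
    (n : ℕ) (hn : 0 < n) (e : (Fin n → M) ≃ₗ[A] (Fin n → A)) :
    ∃ m : M, Submodule.span A {m} = ⊤ := by
  classical
  have hAart : IsArtinian A A := isArtinian_of_tower k inferInstance
  have hMart : IsArtinian A M := isArtinian_of_tower k inferInstance
  have hMnoeth : IsNoetherian A M := isNoetherian_of_tower k inferInstance
  have hssX : IsSemisimpleModule A (M ⧸ Module.jacobson A M) :=
    (IsArtinian.isSemisimpleModule_iff_jacobson A _).mpr (Module.jacobson_quotient_jacobson A M)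
  have hssP : IsSemisimpleModule A (A ⧸ Module.jacobson A A) :=
    (IsArtinian.isSemisimpleModule_iff_jacobson A _).mpr (Module.jacobson_quotient_jacobson A A)
  have hfX : FiniteDimensional k (M ⧸ Module.jacobson A M) :=
    Module.Finite.of_surjective ((Module.jacobson A M).mkQ.restrictScalars k)
      (Module.jacobson A M).mkQ_surjective
  have hfP : FiniteDimensional k (A ⧸ Module.jacobson A A) :=
    Module.Finite.of_surjective ((Module.jacobson A A).mkQ.restrictScalars k)
      (Module.jacobson A A).mkQ_surjective
  obtain ⟨g, hg⟩ := exists_surjective_aux (k := k) (R := A) _ (M ⧸ Module.jacobson A M)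
    (A ⧸ Module.jacobson A A) rfl (by
    intro S _ _ _ _ _ _
    have b1 : finrank k ((M ⧸ Module.jacobson A M) →ₗ[A] S) ≤ finrank k (M →ₗ[A] S) :=
      LinearMap.finrank_le_finrank_of_injective
        (precomp_injective (k := k) S _ (Module.jacobson A M).mkQ_surjective)
    have b2 : n * finrank k (M →ₗ[A] S) = n * finrank k (A →ₗ[A] S) := by
      have e1 := (LinearMap.lsum A (fun _ : Fin n => M) k (M := S)).finrank_eq
      have e2 := (LinearMap.lsum A (fun _ : Fin n => A) k (M := S)).finrank_eq
      have e3 := (LinearEquiv.congrLeft S k e).finrank_eq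
      rw [Module.finrank_pi_fintype, Finset.sum_const, Finset.card_univ, Fintype.card_fin,
        smul_eq_mul] at e1 e2
      rw [e1, e2, e3]
    have b3 : finrank k (A →ₗ[A] S) ≤ finrank k ((A ⧸ Module.jacobson A A) →ₗ[A] S) := by
      refine LinearMap.finrank_le_finrank_of_surjective
        (f := precomp k S (Module.jacobson A A).mkQ) fun f => ?_
      exact ⟨(Module.jacobson A A).liftQ f (IsSemisimpleModule.jacobson_le_ker _ _ _ _ f),
        Submodule.liftQ_mkQ _ _ _⟩
    have b4 : finrank k (M →ₗ[A] S) = finrank k (A →ₗ[A] S) := Nat.eq_of_mul_eq_mul_left hn b2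
    omega)
  obtain ⟨m, hm⟩ := (Module.jacobson A M).mkQ_surjective (g ((Module.jacobson A A).mkQ 1))
  refine ⟨m, ?_⟩
  have hsup : Submodule.span A {m} ⊔ Module.jacobson A M = ⊤ := by
    rw [eq_top_iff]
    intro x _
    obtain ⟨p, hp⟩ := hg ((Module.jacobson A M).mkQ x)
    obtain ⟨a, rfl⟩ := (Module.jacobson A A).mkQ_surjective p
    have h1 : (Module.jacobson A M).mkQ x = (Module.jacobson A M).mkQ (a • m) := by
      rw [← hp, map_smul, hm, ← map_smul, ← map_smul, smul_eq_mul, mul_one]
    have h2 : x - a • m ∈ Module.jacobson A M := by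
      rw [← Submodule.Quotient.mk_eq_zero, Submodule.Quotient.mk_sub]
      exact sub_eq_zero.mpr h1
    have : x = a • m + (x - a • m) := by abel
    rw [this]
    exact Submodule.add_mem_sup (Submodule.smul_mem _ _ (Submodule.mem_span_singleton_self m)) h2
  by_contra hne
  obtain ⟨N', hN', hle⟩ := (eq_top_or_exists_le_coatom (Submodule.span A {m})).resolve_left hne
  have hJ : Module.jacobson A M ≤ N' := sInf_le hN'
  have : (⊤ : Submodule A M) ≤ N' := hsup ▸ sup_le hle hJ
  exact hN'.1 (top_le_iff.mp this)

end Cyc

end Groth.Agent.H40.ModCancel
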