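import Mathlib
import Groth.Agent.Lib.Helper86.TruncGen

/-! # Reducing a power series modulo `(X_i ^ N_i)` to its box part (helper40) -/

set_option autoImplicit false

universe u

open MvPowerSeries

namespace Groth.Agent.H40.PSeriesBox

open Groth.Agent.Lib.Helper86.TruncGen (expo expo_apply expo_injective)

variable {R : Type u} [CommRing R] {σ : Type} [Fintype σ] [DecidableEq σ] (N : σ → ℕ)

/-- The part of a power series with exponents `< N i` for `i ∈ s`. -/
noncomputable def lowPart (s : Finset σ) (F : MvPowerSeries σ R) : MvPowerSeries σ R :=
  fun α => if ∀ i ∈ s, α i < N i then coeff α F else 0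

theorem coeff_lowPart (s : Finset σ) (F : MvPowerSeries σ R) (α : σ →₀ ℕ) :
    coeff α (lowPart N s F) = if ∀ i ∈ s, α i < N i then coeff α F else 0 := rfl

/-- The ideal `(X_i ^ N_i)` of the power series ring. -/
noncomputable def powIdeal : Ideal (MvPowerSeries σ R) :=
  Ideal.span (Set.range fun i : σ => (X i : MvPowerSeries σ R) ^ N i)

theorem sub_lowPart_mem (s : Finset σ) (F : MvPowerSeries σ R) :
    F - lowPart N s F ∈ powIdeal (R := R) N := by
  induction s using Finset.induction_on with
  | empty =>
    have : lowPart N ∅ F = F := by
      ext α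
      simp [coeff_lowPart]
    rw [this, sub_self]
    exact Ideal.zero_mem _
  | insert j s hj ih =>
    -- `lowPart s F - lowPart (insert j s) F = X_j^{N_j} * H`
    let H : MvPowerSeries σ R := fun β => coeff (β + Finsupp.single j (N j)) (lowPart N s F)
    have key : lowPart N s F - lowPart N (insert j s) F = (X j : MvPowerSeries σ R) ^ N j * H := by
      ext α
      rw [map_sub, coeff_lowPart, coeff_lowPart, X_pow_eq, coeff_monomial_mul, one_mul]
      by_cases hα : N j ≤ α j
      · have h1 : Finsupp.single j (N j) ≤ α := by
          intro i
          by_cases hij : i = j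
          · subst hij
            simpa using hα
          · simp [Ne.symm hij]
        have h2 : ¬ ∀ i ∈ insert j s, α i < N i := by
          intro h
          exact absurd (h j (Finset.mem_insert_self j s)) (not_lt.2 hα)
        rw [if_pos h1, if_neg h2, sub_zero]
        change _ = coeff (α - Finsupp.single j (N j) + Finsupp.single j (N j)) (lowPart N s F)
        rw [tsub_add_cancel_of_le h1, coeff_lowPart]
      · have h1 : ¬ Finsupp.single j (N j) ≤ α := by
          intro h
          apply hα
          have := h j
          simpa using this
        rw [if_neg h1]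
        have h2 : (∀ i ∈ insert j s, α i < N i) ↔ ∀ i ∈ s, α i < N i := by
          constructor
          · intro h i hi
            exact h i (Finset.mem_insert_of_mem hi)
          · intro h i hi
            rcases Finset.mem_insert.1 hi with rfl | hi
            · exact not_le.1 hα
            · exact h i hi
        simp only [h2, sub_self]
    have h3 : F - lowPart N (insert j s) F =
        (F - lowPart N s F) + (lowPart N s F - lowPart N (insert j s) F) := by ring
    rw [h3, key]
    refine Ideal.add_mem _ ih (Ideal.mul_mem_right _ _ (Ideal.subset_span ⟨j, rfl⟩))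

/-- The box part of a power series, as a polynomial. -/
noncomputable def boxPart (F : MvPowerSeries σ R) : MvPolynomial σ R :=
  ∑ δ : (i : σ) → Fin (N i), MvPolynomial.monomial (expo N δ) (coeff (expo N δ) F)

theorem coe_boxPart (F : MvPowerSeries σ R) :
    (boxPart N F : MvPowerSeries σ R) = lowPart N Finset.univ F := by
  ext α
  rw [MvPolynomial.coeff_coe, boxPart, MvPolynomial.coeff_sum, coeff_lowPart]
  by_cases hα : ∀ i ∈ Finset.univ, α i < N i
  · rw [if_pos hα]
    let δ₀ : (i : σ) → Fin (N i) := fun i => ⟨α i, hα i (Finset.mem_univ i)⟩
    have hδ₀ : expo N δ₀ = α := by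
      ext i
      rfl
    rw [Finset.sum_eq_single δ₀]
    · rw [MvPolynomial.coeff_monomial, if_pos hδ₀, hδ₀]
    · intro δ _ hne
      rw [MvPolynomial.coeff_monomial, if_neg]
      intro h
      apply hne
      apply expo_injective N
      rw [h, hδ₀]
    · intro h
      exact absurd (Finset.mem_univ _) h
  · rw [if_neg hα]
    apply Finset.sum_eq_zero
    intro δ _
    rw [MvPolynomial.coeff_monomial, if_neg]
    intro h
    apply hα
    intro i _
    rw [← h, expo_apply]
    exact (δ i).2

theorem sub_boxPart_mem (F : MvPowerSeries σ R) :
    F - (boxPart N F : MvPowerSeries σ R) ∈ powIdeal (R := R) N := by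
  rw [coe_boxPart]
  exact sub_lowPart_mem N Finset.univ F

end Groth.Agent.H40.PSeriesBox
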