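import Mathlib

/-! # A polynomial lying in a power-series ideal generated by polynomials killed by `aeval a`
is killed by `aeval a`, for `a` in the maximal ideal of a Noetherian local ring (helper40) -/

set_option autoImplicit false

universe u v

open MvPowerSeries

namespace Groth.Agent.H40.PSeriesBox

variable {R : Type u} [CommRing R] {A : Type v} [CommRing A] [Algebra R A]
  {σ : Type} [Fintype σ] [DecidableEq σ]

omit [Fintype σ] [DecidableEq σ] in
/-- A polynomial all of whose monomials have total degree `≥ M`, evaluated at elements of an ideal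
`I`, lies in `I ^ M`. -/
theorem aeval_mem_pow (I : Ideal A) (a : σ → A) (ha : ∀ i, a i ∈ I) (M : ℕ)
    (D : MvPolynomial σ R) (hD : ∀ x ∈ D.support, M ≤ Finsupp.degree x) :
    MvPolynomial.aeval a D ∈ I ^ M := by
  rw [MvPolynomial.aeval_def, MvPolynomial.eval₂_eq]
  apply Ideal.sum_mem
  intro x hx
  apply Ideal.mul_mem_left
  have h1 : ∏ i ∈ x.support, a i ^ x i ∈ ∏ i ∈ x.support, I ^ x i :=
    Ideal.prod_mem_prod fun i _ => Ideal.pow_mem_pow (ha i) _
  rw [Finset.prod_pow_eq_pow_sum] at h1
  exact Ideal.pow_le_pow_right (hD x hx) h1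

variable [IsLocalRing A] [IsNoetherianRing A] {ι : Type} [Fintype ι]

theorem aeval_eq_zero_of_coe_mem (a : σ → A) (ha : ∀ i, a i ∈ IsLocalRing.maximalIdeal A)
    (f : ι → MvPolynomial σ R) (hf : ∀ i, MvPolynomial.aeval a (f i) = 0)
    (G : MvPolynomial σ R)
    (hG : (G : MvPowerSeries σ R) ∈
      Ideal.span (Set.range fun i : ι => ((f i : MvPolynomial σ R) : MvPowerSeries σ R))) :
    MvPolynomial.aeval a G = 0 := by
  rw [Ideal.mem_span_range_iff_exists_fun] at hG
  obtain ⟨q, hq⟩ := hG
  have hkrull := Ideal.iInf_pow_eq_bot_of_isLocalRing (IsLocalRing.maximalIdeal A)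
    (Ideal.IsPrime.ne_top inferInstance)
  rw [← Ideal.mem_bot, ← hkrull, Ideal.mem_iInf]
  intro M
  let t : ι → MvPolynomial σ R := fun i => truncTotal M (q i)
  let D : MvPolynomial σ R := G - ∑ i, t i * f i
  have hD : ∀ x ∈ D.support, M ≤ Finsupp.degree x := by
    intro x hx
    by_contra hlt
    rw [not_le] at hlt
    apply MvPolynomial.mem_support_iff.1 hx
    have h1 : (D : MvPowerSeries σ R) = ∑ i, (q i - (t i : MvPowerSeries σ R)) * (f i : MvPowerSeries σ R) := by
      have : (D : MvPowerSeries σ R) =
          (G : MvPowerSeries σ R) - ∑ i, (t i : MvPowerSeries σ R) * (f i : MvPowerSeries σ R) := by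
        change MvPolynomial.coeToMvPowerSeries.ringHom D = _
        rw [map_sub, map_sum]
        simp only [map_mul]
        rfl
      rw [this, ← hq, ← Finset.sum_sub_distrib]
      apply Finset.sum_congr rfl
      intro i _
      ring
    rw [← MvPolynomial.coeff_coe, h1, map_sum]
    apply Finset.sum_eq_zero
    intro i _
    rw [MvPowerSeries.coeff_mul]
    apply Finset.sum_eq_zero
    intro p hp
    have hp' : p.1 + p.2 = x := Finset.HasAntidiagonal.mem_antidiagonal.1 hp
    have hdeg : Finsupp.degree p.1 < M := by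
      have : Finsupp.degree p.1 + Finsupp.degree p.2 = Finsupp.degree x := by
        rw [← map_add, hp']
      omega
    rw [map_sub, MvPolynomial.coeff_coe, coeff_truncTotal _ hdeg, sub_self, zero_mul]
  have h2 : MvPolynomial.aeval a G = MvPolynomial.aeval a D := by
    simp only [D, map_sub, map_sum, map_mul, hf, mul_zero, Finset.sum_const_zero, sub_zero]
  rw [h2]
  exact aeval_mem_pow _ a ha M D hD

end Groth.Agent.H40.PSeriesBox
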