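import Mathlib
import Groth.Agent.Lib.Helper86.TruncGen

/-! # Lifting a truncated-polynomial presentation of the special fibre of a finite flat local
algebra over a local ring to a monomial basis (helper40) -/

set_option autoImplicit false

universe u v

open TensorProduct MvPolynomial

namespace Groth.Agent.H40.PSeriesBox

open Groth.Agent.Lib.Helper86.TruncGen

section ULift

theorem bijective_fintype_iff_ulift {S : Type u} {M : Type*} [CommRing S] [AddCommGroup M]
    [Module S M] {β : Type} [Fintype β] (w : β → M) :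
    Function.Bijective (Fintype.linearCombination S w) ↔
      Function.Bijective
        (Finsupp.linearCombination S (w ∘ (ULift.down : ULift.{u} β → β))) := by
  rw [← Finsupp.linearCombination_eq_fintype_linearCombination, Finsupp.linearCombination_comp]
  have h1 : Function.Bijective (Finsupp.linearEquivFunOnFinite S S β).symm :=
    LinearEquiv.bijective _
  have h2 : Function.Bijective (Finsupp.lmapDomain S S (ULift.down : ULift.{u} β → β)) :=
    ⟨Finsupp.mapDomain_injective Equiv.ulift.injective,
      Finsupp.mapDomain_surjective Equiv.ulift.surjective⟩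
  simp only [LinearMap.coe_comp, LinearEquiv.coe_coe]
  rw [Function.Bijective.of_comp_iff _ h1, Function.Bijective.of_comp_iff _ h2]

end ULift

section lift

variable {R : Type u} [CommRing R] [IsLocalRing R] {A : Type v} [CommRing A] [Algebra R A]
  {σ : Type} [Fintype σ] [DecidableEq σ]

/-- Box monomials in a family `a`. -/
def monom (N : σ → ℕ) (a : σ → A) (δ : (i : σ) → Fin (N i)) : A := ∏ i, a i ^ (δ i : ℕ)

omit [IsLocalRing R] [DecidableEq σ] in
theorem aeval_monomial_expo (N : σ → ℕ) (a : σ → A) (δ : (i : σ) → Fin (N i)) (c : R) :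
    aeval a (monomial (expo N δ) c) = c • monom N a δ := by
  rw [aeval_monomial, Finsupp.prod_fintype _ _ (fun i => pow_zero _), Algebra.smul_def]
  rfl

variable (N : σ → ℕ)
  (θ : (IsLocalRing.ResidueField R ⊗[R] A) ≃ₐ[IsLocalRing.ResidueField R]
    (MvPolynomial σ (IsLocalRing.ResidueField R) ⧸ truncIdeal (IsLocalRing.ResidueField R) N))
  (a : σ → A)
  (ha : ∀ i, θ ((1 : IsLocalRing.ResidueField R) ⊗ₜ[R] a i) = Ideal.Quotient.mk _ (X i))

include ha

omit [DecidableEq σ] in
theorem theta_monom (δ : (i : σ) → Fin (N i)) :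
    θ ((1 : IsLocalRing.ResidueField R) ⊗ₜ[R] monom N a δ) =
      Ideal.Quotient.mk _ (monomial (expo N δ) 1) := by
  have h1 : ((1 : IsLocalRing.ResidueField R) ⊗ₜ[R] monom N a δ) =
      ∏ i, ((1 : IsLocalRing.ResidueField R) ⊗ₜ[R] a i) ^ (δ i : ℕ) := by
    change Algebra.TensorProduct.includeRight (monom N a δ) = _
    rw [monom, map_prod]
    refine Finset.prod_congr rfl fun i _ => ?_
    rw [map_pow]
    rfl
  rw [h1, map_prod, monomial_eq, C_1, one_mul, Finsupp.prod_fintype _ _ (fun i => pow_zero _),
    map_prod]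
  refine Finset.prod_congr rfl fun i _ => ?_
  rw [map_pow, ha i, map_pow]
  rfl

theorem bijective_residue :
    Function.Bijective (Fintype.linearCombination (IsLocalRing.ResidueField R)
      (fun δ : (i : σ) → Fin (N i) => (1 : IsLocalRing.ResidueField R) ⊗ₜ[R] monom N a δ)) := by
  have h : ∀ c, θ (Fintype.linearCombination (IsLocalRing.ResidueField R)
      (fun δ : (i : σ) → Fin (N i) => (1 : IsLocalRing.ResidueField R) ⊗ₜ[R] monom N a δ) c) =
      coeffMap N c := by
    intro c
    rw [Fintype.linearCombination_apply, map_sum, coeffMap_apply, map_sum]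
    refine Finset.sum_congr rfl fun δ _ => ?_
    rw [map_smul, theta_monom N θ a ha δ, ← Ideal.Quotient.mkₐ_eq_mk (IsLocalRing.ResidueField R),
      ← map_smul, smul_monomial, smul_eq_mul, mul_one]
  have h2 : (Fintype.linearCombination (IsLocalRing.ResidueField R)
      (fun δ : (i : σ) → Fin (N i) => (1 : IsLocalRing.ResidueField R) ⊗ₜ[R] monom N a δ) :
        _ → _) = θ.symm ∘ coeffMap N := by
    funext c
    rw [Function.comp_apply, ← h c, AlgEquiv.symm_apply_apply]
  rw [h2]
  exact θ.symm.bijective.comp (coeffMap_bijective N)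

variable [Module.Finite R A] [Module.Flat R A]

theorem bijective_monom : Function.Bijective (Fintype.linearCombination R (monom N a)) := by
  rw [bijective_fintype_iff_ulift.{u}]
  apply Module.IsLocalRing.linearCombination_bijective_of_flat
  have := (bijective_fintype_iff_ulift.{u} _).1 (bijective_residue N θ a ha)
  exact this

/-- The relations: `a_i ^ N_i` is a combination of box monomials with coefficients in the maximal
ideal. -/
theorem exists_rel (i : σ) :
    ∃ c : ((j : σ) → Fin (N j)) → R, (∀ δ, c δ ∈ IsLocalRing.maximalIdeal R) ∧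
      a i ^ N i = ∑ δ, c δ • monom N a δ := by
  obtain ⟨c, hc⟩ := (bijective_monom N θ a ha).2 (a i ^ N i)
  rw [Fintype.linearCombination_apply] at hc
  refine ⟨c, ?_, hc.symm⟩
  have h0 : θ ((1 : IsLocalRing.ResidueField R) ⊗ₜ[R] (a i ^ N i)) = 0 := by
    have : ((1 : IsLocalRing.ResidueField R) ⊗ₜ[R] (a i ^ N i)) =
        ((1 : IsLocalRing.ResidueField R) ⊗ₜ[R] a i) ^ N i := by
      change Algebra.TensorProduct.includeRight (a i ^ N i) = _
      rw [map_pow]
      rfl
    rw [this, map_pow, ha i, ← map_pow, Ideal.Quotient.eq_zero_iff_mem]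
    exact Ideal.subset_span ⟨i, rfl⟩
  have h1 : ((1 : IsLocalRing.ResidueField R) ⊗ₜ[R] (a i ^ N i)) = 0 := by
    rw [← map_zero θ] at h0
    exact θ.injective h0
  rw [← hc, TensorProduct.tmul_sum] at h1
  have h2 : Fintype.linearCombination (IsLocalRing.ResidueField R)
      (fun δ : (i : σ) → Fin (N i) => (1 : IsLocalRing.ResidueField R) ⊗ₜ[R] monom N a δ)
      (fun δ => IsLocalRing.residue R (c δ)) = 0 := by
    rw [Fintype.linearCombination_apply, ← h1]
    refine Finset.sum_congr rfl fun δ _ => ?_
    rw [TensorProduct.tmul_smul, ← algebraMap_smul (IsLocalRing.ResidueField R) (c δ)]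
    rfl
  have h3 := (bijective_residue N θ a ha).1 (h2.trans (map_zero _).symm)
  intro δ
  have := congrFun h3 δ
  exact (IsLocalRing.residue_eq_zero_iff _).1 this

omit [Module.Finite R A] [Module.Flat R A] [Fintype σ] [DecidableEq σ] in
/-- The lifted generators lie in the maximal ideal. -/
theorem mem_maximalIdeal_of_lift [IsLocalRing A] [Nontrivial (IsLocalRing.ResidueField R ⊗[R] A)]
    (i : σ) : a i ∈ IsLocalRing.maximalIdeal A := by
  rw [IsLocalRing.mem_maximalIdeal, mem_nonunits_iff]
  intro hu
  have h1 : IsUnit (θ ((1 : IsLocalRing.ResidueField R) ⊗ₜ[R] a i)) := by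
    have : IsUnit ((1 : IsLocalRing.ResidueField R) ⊗ₜ[R] a i) :=
      hu.map (Algebra.TensorProduct.includeRight :
        A →ₐ[R] IsLocalRing.ResidueField R ⊗[R] A)
    exact this.map θ
  rw [ha i] at h1
  have h2 : (Ideal.Quotient.mk (truncIdeal (IsLocalRing.ResidueField R) N) (X i)) ^ N i = 0 := by
    rw [← map_pow, Ideal.Quotient.eq_zero_iff_mem]
    exact Ideal.subset_span ⟨i, rfl⟩
  have h3 := (h1.pow (N i))
  rw [h2] at h3
  have : Nontrivial
      (MvPolynomial σ (IsLocalRing.ResidueField R) ⧸ truncIdeal (IsLocalRing.ResidueField R) N) :=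
    θ.injective.nontrivial
  exact not_isUnit_zero h3

end lift

end Groth.Agent.H40.PSeriesBox
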