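import Mathlib
import Groth.Agent.H40.PSeriesBox

/-! # Quotients `R[[X]]/(X_i^{N_i} + g_i)` over a complete local ring are spanned by box monomials
(helper40) -/

set_option autoImplicit false

universe u

open MvPowerSeries

namespace Groth.Agent.H40.PSeriesBox

open Groth.Agent.Lib.Helper86.TruncGen (expo expo_apply expo_injective)

section Precomplete

variable {R : Type u} [CommRing R] {ι : Type*} [Finite ι]

theorem mem_smul_top_pi_iff (J : Ideal R) (x : ι → R) :
    x ∈ (J • ⊤ : Submodule R (ι → R)) ↔ ∀ i, x i ∈ J := by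
  classical
  have := Fintype.ofFinite ι
  constructor
  · intro hx
    refine Submodule.smul_induction_on hx ?_ ?_
    · intro r hr n _ i
      rw [Pi.smul_apply, smul_eq_mul]
      exact J.mul_mem_right _ hr
    · intro x y hx hy i
      rw [Pi.add_apply]
      exact J.add_mem (hx i) (hy i)
  · intro hx
    have : x = ∑ i, x i • (Pi.single i (1 : R) : ι → R) := by
      ext j
      simp [Finset.sum_apply, Pi.single_apply]
    rw [this]
    exact Submodule.sum_mem _ fun i _ => Submodule.smul_mem_smul (hx i) Submodule.mem_top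

instance isPrecomplete_pi (I : Ideal R) [IsPrecomplete I R] : IsPrecomplete I (ι → R) := by
  constructor
  intro f hf
  have hcoord : ∀ i, ∃ L : R, ∀ n, f n i ≡ L [SMOD (I ^ n • ⊤ : Submodule R R)] := by
    intro i
    apply IsPrecomplete.prec' (I := I) (fun n => f n i)
    intro m n hmn
    have h1 := SModEq.sub_mem.1 (hf hmn)
    rw [mem_smul_top_pi_iff] at h1
    rw [SModEq.sub_mem, smul_eq_mul, Ideal.mul_top]
    exact h1 i
  choose L hL using hcoord
  refine ⟨L, fun n => ?_⟩
  rw [SModEq.sub_mem, mem_smul_top_pi_iff]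
  intro i
  have h1 := SModEq.sub_mem.1 (hL i n)
  rw [smul_eq_mul, Ideal.mul_top] at h1
  exact h1

end Precomplete

section Quot

variable {R : Type u} [CommRing R] [IsLocalRing R] [IsNoetherianRing R]
  [IsAdicComplete (IsLocalRing.maximalIdeal R) R]
  {σ : Type} [Fintype σ] [DecidableEq σ] (N : σ → ℕ) (g : σ → MvPolynomial σ R)

omit [IsLocalRing R] [IsNoetherianRing R] [IsAdicComplete (IsLocalRing.maximalIdeal R) R]
  [Fintype σ] [DecidableEq σ] in
/-- The coercion from polynomials to power series as an `R`-algebra map (with `coeAlg p = ↑p` by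
`rfl`). -/
noncomputable def coeAlg : MvPolynomial σ R →ₐ[R] MvPowerSeries σ R :=
  { MvPolynomial.coeToMvPowerSeries.ringHom with
    commutes' := fun r => by
      change ((MvPolynomial.C r : MvPolynomial σ R) : MvPowerSeries σ R) = _
      rw [MvPolynomial.coe_C, MvPowerSeries.algebraMap_apply]
      rfl }

omit [IsLocalRing R] [IsNoetherianRing R] [IsAdicComplete (IsLocalRing.maximalIdeal R) R]
  [Fintype σ] [DecidableEq σ] in
theorem coeAlg_apply (p : MvPolynomial σ R) : coeAlg p = (p : MvPowerSeries σ R) := rfl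

/-- The ideal `(X_i ^ N_i + g_i)` of the power series ring. -/
noncomputable def relIdeal : Ideal (MvPowerSeries σ R) :=
  Ideal.span (Set.range fun i : σ => (X i : MvPowerSeries σ R) ^ N i + (g i : MvPowerSeries σ R))

omit [IsLocalRing R] [IsNoetherianRing R] [IsAdicComplete (IsLocalRing.maximalIdeal R) R]
  [Fintype σ] [DecidableEq σ] in
/-- A multiple of a polynomial with coefficients in `J` lies in `J • ⊤` modulo any ideal. -/
theorem mk_mul_coe_mem (J : Ideal R) (K : Ideal (MvPowerSeries σ R)) (G : MvPolynomial σ R)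
    (hG : ∀ d, G.coeff d ∈ J) (h : MvPowerSeries σ R) :
    Ideal.Quotient.mk K (h * (G : MvPowerSeries σ R)) ∈
      (J • ⊤ : Submodule R (MvPowerSeries σ R ⧸ K)) := by
  have h1 : (G : MvPowerSeries σ R) =
      ∑ d ∈ G.support, G.coeff d • MvPowerSeries.monomial d (1 : R) := by
    classical
    ext α
    rw [MvPolynomial.coeff_coe, map_sum]
    simp only [map_smul, MvPowerSeries.coeff_monomial, smul_eq_mul, mul_ite, mul_one, mul_zero]
    rw [Finset.sum_ite_eq]
    split_ifs with hα
    · rfl
    · exact MvPolynomial.notMem_support_iff.1 hα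
  rw [h1, Finset.mul_sum, map_sum]
  apply Submodule.sum_mem
  intro d _
  have h2 : Ideal.Quotient.mk K (h * G.coeff d • MvPowerSeries.monomial d (1 : R)) =
      G.coeff d • Ideal.Quotient.mk K (h * MvPowerSeries.monomial d (1 : R)) := by
    rw [mul_smul_comm]
    rfl
  rw [h2]
  exact Submodule.smul_mem_smul (hG d) Submodule.mem_top

/-- Over a complete Noetherian local ring, every power series is congruent modulo
`(X_i ^ N_i + g_i)` (the `g_i` having coefficients in the maximal ideal) to an `R`-combination of box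
monomials. -/
theorem exists_box_repr (hg : ∀ i d, (g i).coeff d ∈ IsLocalRing.maximalIdeal R)
    (F : MvPowerSeries σ R) :
    ∃ c : ((i : σ) → Fin (N i)) → R,
      F - ((∑ δ, MvPolynomial.monomial (expo N δ) (c δ) : MvPolynomial σ R) :
        MvPowerSeries σ R) ∈ relIdeal N g := by
  set J := relIdeal N g with hJ
  let lin : (((i : σ) → Fin (N i)) → R) →ₗ[R] (MvPowerSeries σ R ⧸ J) :=
    (Ideal.Quotient.mkₐ R J).toLinearMap ∘ₗ
      (coeAlg (R := R) (σ := σ)).toLinearMap ∘ₗ
      (Fintype.linearCombination R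
        (fun δ : (i : σ) → Fin (N i) => MvPolynomial.monomial (expo N δ) (1 : R)))
  have hlin : ∀ c, lin c = Ideal.Quotient.mk J
      ((∑ δ, MvPolynomial.monomial (expo N δ) (c δ) : MvPolynomial σ R) : MvPowerSeries σ R) := by
    intro c
    have h0 : (Fintype.linearCombination R
        (fun δ : (i : σ) → Fin (N i) => MvPolynomial.monomial (expo N δ) (1 : R))) c =
        ∑ δ, MvPolynomial.monomial (expo N δ) (c δ) := by
      rw [Fintype.linearCombination_apply]
      refine Finset.sum_congr rfl fun δ _ => ?_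
      rw [MvPolynomial.smul_monomial, smul_eq_mul, mul_one]
    change Ideal.Quotient.mk J (coeAlg ((Fintype.linearCombination R
        (fun δ : (i : σ) → Fin (N i) => MvPolynomial.monomial (expo N δ) (1 : R))) c)) = _
    rw [h0]
    rfl
  have hle : (IsLocalRing.maximalIdeal R).map (algebraMap R (MvPowerSeries σ R)) ≤ Ideal.jacobson ⊥ := by
    refine le_trans ?_ (IsLocalRing.maximalIdeal_le_jacobson ⊥)
    rw [Ideal.map_le_iff_le_comap]
    intro r hr
    rw [Ideal.mem_comap, IsLocalRing.mem_maximalIdeal, mem_nonunits_iff,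
      MvPowerSeries.isUnit_iff_constantCoeff]
    have : MvPowerSeries.constantCoeff (algebraMap R (MvPowerSeries σ R) r) = r := by
      rw [MvPowerSeries.algebraMap_apply, MvPowerSeries.constantCoeff_C]
      rfl
    rw [this]
    exact hr
  have hH1 : IsHausdorff ((IsLocalRing.maximalIdeal R).map (algebraMap R (MvPowerSeries σ R))) (MvPowerSeries σ R ⧸ J) :=
    IsHausdorff.of_le_jacobson _ _ hle
  have hH : IsHausdorff (IsLocalRing.maximalIdeal R) (MvPowerSeries σ R ⧸ J) :=
    IsHausdorff.map_algebraMap_iff.mp hH1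
  have hsurj : Function.Surjective lin := by
    apply surjective_of_mkQ_comp_surjective (I := IsLocalRing.maximalIdeal R)
    intro y
    obtain ⟨q, rfl⟩ := Submodule.mkQ_surjective _ y
    obtain ⟨F', rfl⟩ := Ideal.Quotient.mk_surjective q
    clear F
    refine ⟨fun δ => coeff (expo N δ) F', ?_⟩
    rw [LinearMap.comp_apply, hlin]
    change Submodule.Quotient.mk _ = Submodule.Quotient.mk _
    rw [Submodule.Quotient.eq, ← map_sub, ← neg_sub, map_neg, neg_mem_iff]
    have h1 := sub_boxPart_mem (R := R) N F'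
    change F' - (boxPart N F' : MvPowerSeries σ R) ∈ Ideal.span _ at h1
    rw [Ideal.mem_span_range_iff_exists_fun] at h1
    obtain ⟨h, hh⟩ := h1
    change Ideal.Quotient.mk J (F' - (boxPart N F' : MvPowerSeries σ R)) ∈ _
    rw [← hh, map_sum]
    apply Submodule.sum_mem
    intro i _
    have h2 : Ideal.Quotient.mk J (h i * (X i : MvPowerSeries σ R) ^ N i) =
        - Ideal.Quotient.mk J (h i * (g i : MvPowerSeries σ R)) := by
      rw [eq_neg_iff_add_eq_zero, ← map_add, ← mul_add, Ideal.Quotient.eq_zero_iff_mem]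
      exact Ideal.mul_mem_left _ _ (Ideal.subset_span ⟨i, rfl⟩)
    rw [h2, neg_mem_iff]
    exact mk_mul_coe_mem _ J (g i) (hg i) (h i)
  obtain ⟨c, hc⟩ := hsurj (Ideal.Quotient.mk J F)
  refine ⟨c, ?_⟩
  rw [hlin] at hc
  rw [← Ideal.Quotient.eq]
  exact hc.symm

end Quot

end Groth.Agent.H40.PSeriesBox
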