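import Mathlib
import Groth.Agent.H40.PSeriesQuot
import Groth.Agent.H40.PSeriesEval
import Groth.Agent.H40.PSeriesLift

/-! # A finite flat local algebra over a complete Noetherian local ring whose special fibre is a
truncated polynomial algebra is a quotient of a power series ring by Frobenius-like relations
(helper40) -/

set_option autoImplicit false

universe u v

open TensorProduct

namespace Groth.Agent.H40.PSeriesBox

open Groth.Agent.Lib.Helper86.TruncGen

variable {R : Type u} [CommRing R] [IsLocalRing R] [IsNoetherianRing R]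
  [IsAdicComplete (IsLocalRing.maximalIdeal R) R]
  {A : Type v} [CommRing A] [Algebra R A] [Module.Finite R A] [Module.Flat R A] [IsLocalRing A]
  [Nontrivial (IsLocalRing.ResidueField R ⊗[R] A)]
  {σ : Type} [Fintype σ] [DecidableEq σ]

theorem exists_pres (N : σ → ℕ) (hN : ∀ i, 0 < N i)
    (θ : (IsLocalRing.ResidueField R ⊗[R] A) ≃ₐ[IsLocalRing.ResidueField R]
      (MvPolynomial σ (IsLocalRing.ResidueField R) ⧸ truncIdeal (IsLocalRing.ResidueField R) N)) :
    ∃ g : σ → MvPolynomial σ R,
      (∀ i, (∀ d, (g i).coeff d ∈ IsLocalRing.maximalIdeal R) ∧ (g i).degreeOf i < N i) ∧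
      Nonempty (A ≃ₐ[R] (MvPowerSeries σ R ⧸ relIdeal N g)) := by
  classical
  -- lift the generators
  have hlift : ∀ i : σ, ∃ x : A, θ ((1 : IsLocalRing.ResidueField R) ⊗ₜ[R] x) =
      Ideal.Quotient.mk _ (MvPolynomial.X i) := by
    intro i
    obtain ⟨x, hx⟩ := TensorProduct.mk_surjective R A (IsLocalRing.ResidueField R)
      IsLocalRing.residue_surjective (θ.symm (Ideal.Quotient.mk _ (MvPolynomial.X i)))
    refine ⟨x, ?_⟩
    change θ (TensorProduct.mk R (IsLocalRing.ResidueField R) A 1 x) = _
    rw [hx, AlgEquiv.apply_symm_apply]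
  choose a ha using hlift
  have hrel := exists_rel N θ a ha
  choose c hc hrel using hrel
  have hbij := bijective_monom N θ a ha
  have hmem : ∀ i, a i ∈ IsLocalRing.maximalIdeal A := mem_maximalIdeal_of_lift N θ a ha
  have hnoeth : IsNoetherianRing A :=
    isNoetherian_of_tower R (isNoetherian_of_isNoetherianRing_of_finite R A)
  let g : σ → MvPolynomial σ R := fun i => - ∑ δ, MvPolynomial.monomial (expo N δ) (c i δ)
  have hcoeff : ∀ i d, (g i).coeff d ∈ IsLocalRing.maximalIdeal R := by
    intro i d
    simp only [g, MvPolynomial.coeff_neg, MvPolynomial.coeff_sum, MvPolynomial.coeff_monomial]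
    rw [neg_mem_iff]
    refine Ideal.sum_mem _ fun δ _ => ?_
    split_ifs
    · exact hc i δ
    · exact Ideal.zero_mem _
  have hdeg : ∀ i, (g i).degreeOf i < N i := by
    intro i
    rw [MvPolynomial.degreeOf_lt_iff (hN i)]
    intro m hm
    rw [MvPolynomial.mem_support_iff] at hm
    simp only [g, MvPolynomial.coeff_neg, MvPolynomial.coeff_sum, MvPolynomial.coeff_monomial,
      ne_eq, neg_eq_zero] at hm
    obtain ⟨δ, -, hδ⟩ := Finset.exists_ne_zero_of_sum_ne_zero hm
    split_ifs at hδ with h
    · rw [← h, expo_apply]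
      exact (δ i).2
    · exact absurd rfl hδ
  refine ⟨g, fun i => ⟨hcoeff i, hdeg i⟩, ?_⟩
  -- evaluation at `a`
  let ev : MvPolynomial σ R →ₐ[R] A := MvPolynomial.aeval a
  have hevB : ∀ c' : ((i : σ) → Fin (N i)) → R,
      ev (∑ δ, MvPolynomial.monomial (expo N δ) (c' δ)) = ∑ δ, c' δ • monom N a δ := by
    intro c'
    rw [map_sum]
    exact Finset.sum_congr rfl fun δ _ => aeval_monomial_expo N a δ (c' δ)
  have hev : Function.Surjective ev := by
    intro x
    obtain ⟨c', hc'⟩ := hbij.2 x
    refine ⟨∑ δ, MvPolynomial.monomial (expo N δ) (c' δ), ?_⟩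
    rw [hevB, ← hc', Fintype.linearCombination_apply]
  have hf : ∀ i, ev (MvPolynomial.X i ^ N i + g i) = 0 := by
    intro i
    rw [map_add, map_pow]
    simp only [g, map_neg]
    rw [hevB, ← hrel i]
    simp only [ev, MvPolynomial.aeval_X, add_neg_cancel]
  have hspan : relIdeal N g = Ideal.span (Set.range fun i : σ =>
      ((MvPolynomial.X i ^ N i + g i : MvPolynomial σ R) : MvPowerSeries σ R)) := by
    unfold relIdeal
    congr 2
    funext i
    rw [MvPolynomial.coe_add, MvPolynomial.coe_pow, MvPolynomial.coe_X]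
  have key : ∀ F : MvPolynomial σ R,
      ev F = 0 ↔ (F : MvPowerSeries σ R) ∈ relIdeal N g := by
    intro F
    constructor
    · intro hF
      obtain ⟨c', hc'⟩ := exists_box_repr N g hcoeff (F : MvPowerSeries σ R)
      have h1 : ((F - ∑ δ, MvPolynomial.monomial (expo N δ) (c' δ) : MvPolynomial σ R) :
          MvPowerSeries σ R) ∈ Ideal.span (Set.range fun i : σ =>
            ((MvPolynomial.X i ^ N i + g i : MvPolynomial σ R) : MvPowerSeries σ R)) := by
        rw [← hspan]
        have : ((F - ∑ δ, MvPolynomial.monomial (expo N δ) (c' δ) : MvPolynomial σ R) :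
            MvPowerSeries σ R) = (F : MvPowerSeries σ R) -
              ((∑ δ, MvPolynomial.monomial (expo N δ) (c' δ) : MvPolynomial σ R) :
                MvPowerSeries σ R) := map_sub (coeAlg (R := R) (σ := σ)) _ _
        rw [this]
        exact hc'
      have h2 := aeval_eq_zero_of_coe_mem a hmem _ hf _ h1
      change ev _ = 0 at h2
      rw [map_sub, hF, zero_sub, neg_eq_zero, hevB] at h2
      have h3 : c' = 0 := by
        apply hbij.1
        rw [Fintype.linearCombination_apply, h2, map_zero]
      rw [h3] at hc'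
      simpa using hc'
    · intro hF
      rw [hspan] at hF
      exact aeval_eq_zero_of_coe_mem a hmem _ hf _ hF
  -- the comparison map
  let χ : MvPolynomial σ R →ₐ[R] (MvPowerSeries σ R ⧸ relIdeal N g) :=
    (Ideal.Quotient.mkₐ R (relIdeal N g)).comp coeAlg
  have hχ : Function.Surjective χ := by
    intro y
    obtain ⟨F, rfl⟩ := Ideal.Quotient.mk_surjective y
    obtain ⟨c', hc'⟩ := exists_box_repr N g hcoeff F
    refine ⟨∑ δ, MvPolynomial.monomial (expo N δ) (c' δ), ?_⟩
    symm
    exact Ideal.Quotient.eq.2 hc'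
  have hker : RingHom.ker ev = RingHom.ker χ := by
    ext F
    rw [RingHom.mem_ker, RingHom.mem_ker, key F]
    change _ ↔ Ideal.Quotient.mk _ (F : MvPowerSeries σ R) = 0
    rw [Ideal.Quotient.eq_zero_iff_mem]
  exact ⟨((Ideal.quotientKerAlgEquivOfSurjective hev).symm.trans
    (Ideal.quotientEquivAlgOfEq R hker)).trans (Ideal.quotientKerAlgEquivOfSurjective hχ)⟩

end Groth.Agent.H40.PSeriesBox
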