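import Groth.Agent.H40.GLnRed

/-! Helper lemmas (helper40): the special linear group is linearly reductive in characteristic
zero. -/

set_option autoImplicit false
universe u

open TensorProduct CoordGrp

namespace Groth.Agent.H40

section SLnRed

variable (n : ℕ) (k : Type u) [Field k]

/-- The standard comodule of `SL_n`. -/
@[reducible] noncomputable def stdS : HopfRep.Comod k (SLn n k) (Fin n → k) :=
  GLin.comodAlong (SLn.mkHom n k) (stdG n k)

theorem stdS_coact (j : Fin n) :
    (stdS n k).coact (Pi.basisFun k (Fin n) j) =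
      ∑ i, Pi.basisFun k (Fin n) i ⊗ₜ[k] (SLn.X i j : SLn n k) := by
  rw [GLin.comodAlong_coact, stdG_coact, map_sum]
  refine Finset.sum_congr rfl fun i _ => ?_
  rw [TensorProduct.map_tmul, LinearMap.id_apply]
  rfl

theorem xxPow_SLn_eq (a : ℕ) (I J : Fin a → Fin n) :
    xxPow (fun i j => (SLn.X i j : SLn n k)) a I J =
      SLn.mk n k (Mat.toGLn n k (xxPow (fun i j => (Mat.X i j : Mat n k)) a I J)) := by
  unfold xxPow
  rw [map_prod, map_prod]
  refine Finset.prod_congr rfl fun t _ => ?_
  rw [Mat.toGLn_X]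
  rfl

/-- A point of `SL_n` with values in an algebraic closure of the function field of the matrix
space: the generic matrix rescaled to determinant one. -/
theorem exists_generic_point :
    ∃ (K : Type u) (_ : Field K) (_ : Algebra k K) (ι : Mat n k →ₐ[k] K) (s : K)
      (ev : SLn n k →ₐ[k] K), Function.Injective ι ∧ s ≠ 0 ∧
        ∀ i j, ev (SLn.X i j) = s⁻¹ * ι (Mat.X i j) := by
  classical
  let F := FractionRing (Mat n k)
  let K := AlgebraicClosure F
  let ι : Mat n k →ₐ[k] K := IsScalarTower.toAlgHom k (Mat n k) K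
  have hι : Function.Injective ι := by
    have h1 : Function.Injective (algebraMap (Mat n k) F) := IsFractionRing.injective (Mat n k) F
    have h2 : Function.Injective (algebraMap F K) := (algebraMap F K).injective
    have h3 : (ι : Mat n k → K) = algebraMap F K ∘ algebraMap (Mat n k) F := by
      funext y
      exact IsScalarTower.algebraMap_apply (Mat n k) F K y
    rw [h3]
    exact h2.comp h1
  have hdet : ι (Mat.det n k) ≠ 0 := by
    intro h
    have h0 : Mat.det n k = 0 := hι (h.trans (map_zero _).symm)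
    apply Matrix.det_mvPolynomialX_ne_zero (Fin n) k
    rw [← Mat.genMat_eq_mvPolynomialX]
    exact h0
  obtain ⟨s, hs, hs0⟩ : ∃ s : K, s ^ n = ι (Mat.det n k) ∧ s ≠ 0 := by
    rcases Nat.eq_zero_or_pos n with h0 | hpos
    · subst h0
      refine ⟨1, ?_, one_ne_zero⟩
      rw [pow_zero]
      have : Mat.det 0 k = 1 := by
        unfold Mat.det
        exact Matrix.det_isEmpty
      rw [this, map_one]
    · obtain ⟨s, hs⟩ := IsAlgClosed.exists_pow_nat_eq (ι (Mat.det n k)) hpos
      refine ⟨s, hs, ?_⟩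
      intro h
      rw [h, zero_pow hpos.ne'] at hs
      exact hdet hs.symm
  let M : Matrix (Fin n) (Fin n) K := s⁻¹ • (ι : Mat n k →+* K).mapMatrix (Mat.genMat n k)
  have hMdet : M.det = 1 := by
    have h1 : ((ι : Mat n k →+* K).mapMatrix (Mat.genMat n k)).det = ι (Mat.det n k) :=
      (RingHom.map_det _ _).symm
    rw [Matrix.det_smul, h1, Fintype.card_fin, ← hs, inv_pow, inv_mul_cancel₀ (pow_ne_zero n hs0)]
  have hM : M.det * 1 = 1 := by rw [hMdet, mul_one]
  let evG : GLn n k →ₐ[k] K := GLn.pt n k M 1 hM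
  have hker : ∀ y ∈ GLn.slIdeal n k, evG y = 0 := by
    intro y hy
    obtain ⟨z, rfl⟩ := Ideal.mem_span_singleton'.mp hy
    rw [map_mul]
    have : evG (GLn.slRel n k) = 0 := by
      unfold GLn.slRel
      rw [map_sub, map_one, GLn.pt_det, hMdet, sub_self]
    rw [this, mul_zero]
  let ev : SLn n k →ₐ[k] K := Ideal.Quotient.liftₐ (GLn.slIdeal n k) evG hker
  refine ⟨K, inferInstance, inferInstance, ι, s, ev, hι, hs0, fun i j => ?_⟩
  change evG (GLn.X i j) = _
  rw [GLn.pt_X]
  rfl

/-- Separation of invariant matrices by functionals on the coordinate ring of `SL_n`. -/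
theorem hsep_SLn (a m : ℕ) (E : (Fin a → Fin n) → (Fin a → Fin n) → k)
    (hE : ∀ σ I J, E (permAct a (Fin n) σ I) (permAct a (Fin n) σ J) = E I J) :
    ∃ φ : SLn n k →ₗ[k] k, ∀ I J,
      φ (xxPow (fun i j => (SLn.X i j : SLn n k)) a I J * (1 : SLn n k) ^ m) = E I J := by
  obtain ⟨φ₀, hφ₀⟩ := exists_functional_Mat n k a E hE
  obtain ⟨K, _, _, ι, s, ev, hι, hs0, hev⟩ := exists_generic_point n k
  obtain ⟨r, hr⟩ := LinearMap.exists_leftInverse_of_injective ι.toLinearMap
    (LinearMap.ker_eq_bot.2 hι)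
  refine ⟨φ₀ ∘ₗ r ∘ₗ (LinearMap.mulLeft k (s ^ a)) ∘ₗ ev.toLinearMap, fun I J => ?_⟩
  simp only [LinearMap.comp_apply, AlgHom.toLinearMap_apply, LinearMap.mulLeft_apply, one_pow,
    mul_one]
  have h1 : ev (xxPow (fun i j => (SLn.X i j : SLn n k)) a I J) =
      (s⁻¹) ^ a * ι (xxPow (fun i j => (Mat.X i j : Mat n k)) a I J) := by
    unfold xxPow
    rw [map_prod, map_prod]
    simp only [hev]
    rw [Finset.prod_mul_distrib, Finset.prod_const, Finset.card_univ, Fintype.card_fin]
  rw [h1, ← mul_assoc, ← mul_pow, mul_inv_cancel₀ hs0, one_pow, one_mul]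
  have h2 := LinearMap.congr_fun hr (xxPow (fun i j => (Mat.X i j : Mat n k)) a I J)
  simp only [LinearMap.comp_apply, AlgHom.toLinearMap_apply, LinearMap.id_apply] at h2
  rw [h2, hφ₀]

theorem SLn_subalgebra_eq_top (B : Subalgebra k (SLn n k))
    (hX : ∀ i j, (SLn.X i j : SLn n k) ∈ B) : B = ⊤ := by
  have h1 : B.comap (SLn.mk n k) = ⊤ := by
    apply GLn_subalgebra_eq_top
    · intro i j
      exact hX i j
    · change SLn.mk n k GLn.Dinv ∈ B
      have : SLn.mk n k (GLn.Dinv : GLn n k) = 1 := by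
        have h := congrArg (SLn.mk n k) (GLn.Dinv_mul_det (n := n) (k := k))
        rw [map_mul, SLn.det_eq_one, mul_one, map_one] at h
        exact h
      rw [this]
      exact B.one_mem
  rw [eq_top_iff]
  intro y _
  obtain ⟨z, rfl⟩ := Ideal.Quotient.mk_surjective y
  have : z ∈ B.comap (SLn.mk n k) := by rw [h1]; exact Algebra.mem_top
  exact this

/-- The regular comodule of `SL_n` in characteristic zero is a sum of simple subcomodules. -/
theorem iSup_simpleSub_SLn [CharZero k] :
    (⨆ S : {S : Submodule k (SLn n k) // IsSimpleSub (C := SLn n k) (V := SLn n k) S}, S.1) = ⊤ := by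
  refine iSup_simpleSub_eq_top_of_tpow (stdS n k) (fun i j => (SLn.X i j : SLn n k))
    (stdS_coact n k) (1 : SLn n k) IsGroupLikeElem.one ?_ (hsep_SLn n k)
  intro B hX _
  exact SLn_subalgebra_eq_top n k B hX

/-- `SL_n` is linearly reductive in characteristic zero. -/
theorem isLinearlyReductive_SLn [CharZero k] : HopfRep.IsLinearlyReductive k (SLn n k) := by
  intro V _ _ _ _
  exact isSemisimpleComod_of_regular (iSup_simpleSub_SLn n k)

end SLnRed

end Groth.Agent.H40
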