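import Mathlib
import Groth.Prelude.Def_HopfRep
import Groth.Prelude.Def_ComodTens

/-! Helper lemmas (helper40): closed formula for the coaction of the tensor power comodule on
pure tensors of basis vectors. -/

set_option autoImplicit false
universe u v w

open TensorProduct

namespace Groth.Agent.H40

section TPowFormula

variable {k : Type u} [CommRing k] {A : Type v} [CommRing A] [Bialgebra k A]
  {V : Type w} [AddCommGroup V] [Module k V]

/-- The matrix coefficients of the `a`-th tensor power: products of matrix coefficients. -/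
def xxPow {ι : Type*} (x : ι → ι → A) (a : ℕ) (I J : Fin a → ι) : A := ∏ t, x (I t) (J t)

theorem xxPow_snoc {ι : Type*} (x : ι → ι → A) (a : ℕ) (I' : Fin a → ι) (i : ι)
    (J : Fin (a + 1) → ι) :
    xxPow x (a + 1) (Fin.snoc I' i) J = xxPow x a I' (Fin.init J) * x i (J (Fin.last a)) := by
  unfold xxPow
  rw [Fin.prod_univ_castSucc]
  simp [Fin.init]

/-- Closed formula for the coaction of the tensor power on pure tensors of vectors with known
coaction. -/
theorem tpow_coact_tprod {ι : Type*} [Fintype ι] (c : HopfRep.Comod k A V) (b : ι → V)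
    (x : ι → ι → A) (hx : ∀ j, c.coact (b j) = ∑ i, b i ⊗ₜ[k] x i j) :
    ∀ (a : ℕ) (J : Fin a → ι),
      (ComodTens.Comod.tpow c a).coact (PiTensorProduct.tprod k (fun t => b (J t))) =
        ∑ I : Fin a → ι, PiTensorProduct.tprod k (fun t => b (I t)) ⊗ₜ[k] xxPow x a I J := by
  intro a
  induction a with
  | zero =>
    intro J
    have h0 := ComodTens.ofEquiv_coact
      (PiTensorProduct.isEmptyEquiv (Fin 0) (R := k) (s := fun _ : Fin 0 => V)).symm
      (HopfRep.Comod.trivial k A k) (PiTensorProduct.tprod k (fun t => b (J t)))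
    refine h0.trans ?_
    have h1 : (PiTensorProduct.isEmptyEquiv (Fin 0) (R := k) (s := fun _ : Fin 0 => V)).symm.symm
        (PiTensorProduct.tprod k (fun t => b (J t))) = 1 := by
      rw [LinearEquiv.symm_symm, PiTensorProduct.isEmptyEquiv_apply_tprod]
    rw [h1]
    have h2 : (HopfRep.Comod.trivial k A k).coact (1 : k) = (1 : k) ⊗ₜ[k] (1 : A) := rfl
    rw [h2, LinearMap.rTensor_tmul]
    rw [Fintype.sum_eq_single J (fun I hI => (hI (Subsingleton.elim _ _)).elim)]
    congr 1
    rw [LinearEquiv.coe_coe, LinearEquiv.symm_apply_eq, PiTensorProduct.isEmptyEquiv_apply_tprod]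
  | succ a ih =>
    intro J
    rw [ComodTens.tpow_succ, ComodTens.ofEquiv_coact]
    -- the pure tensor is the product of its first `a` factors and the last one
    have hsplit : (TensorPower.mulEquiv (R := k) (M := V) (n := a) (m := 1)).symm
        (PiTensorProduct.tprod k (fun t => b (J t))) =
        PiTensorProduct.tprod k (fun t : Fin a => b (Fin.init J t)) ⊗ₜ[k]
          PiTensorProduct.tprod k (fun _ : Fin 1 => b (J (Fin.last a))) := by
      rw [LinearEquiv.symm_apply_eq, ← TensorPower.gMul_def, TensorPower.tprod_mul_tprod,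
        Fin.append_right_eq_snoc]
      congr 1
      funext t
      refine Fin.lastCases ?_ (fun s => ?_) t
      · simp
      · simp [Fin.init]
    rw [hsplit]
    have hone : (ComodTens.Comod.tpowOne c).coact
        (PiTensorProduct.tprod k (fun _ : Fin 1 => b (J (Fin.last a)))) =
        ∑ i, PiTensorProduct.tprod k (fun _ : Fin 1 => b i) ⊗ₜ[k] x i (J (Fin.last a)) := by
      rw [ComodTens.ofEquiv_coact, LinearEquiv.symm_symm,
        PiTensorProduct.subsingletonEquiv_apply_tprod, hx, map_sum]
      refine Finset.sum_congr rfl fun i _ => ?_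
      rw [LinearMap.rTensor_tmul]
      congr 1
      rw [LinearEquiv.coe_coe, LinearEquiv.symm_apply_eq,
        PiTensorProduct.subsingletonEquiv_apply_tprod]
    rw [ComodTens.tensor_coact_tmul_of_sum _ _ Finset.univ Finset.univ _ _ _ _ _ _
      (ih (Fin.init J)) hone]
    simp only [map_sum, LinearMap.rTensor_tmul]
    rw [← (Fin.snocEquiv (fun _ : Fin (a + 1) => ι)).sum_comp, Fintype.sum_prod_type]
    conv_rhs => rw [Finset.sum_comm]
    refine Finset.sum_congr rfl fun I' _ => Finset.sum_congr rfl fun i _ => ?_
    have hsn : (Fin.snocEquiv (fun _ : Fin (a + 1) => ι)) (i, I') = Fin.snoc I' i := rfl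
    rw [hsn, xxPow_snoc]
    congr 1
    rw [LinearEquiv.coe_coe, ← TensorPower.gMul_def, TensorPower.tprod_mul_tprod,
      Fin.append_right_eq_snoc]
    congr 1
    funext t
    refine Fin.lastCases ?_ (fun s => ?_) t
    · simp
    · simp

end TPowFormula

end Groth.Agent.H40
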