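import Groth.Agent.H40.SchurSS
import Groth.Agent.H40.TPowFormula
import Groth.Agent.H40.Coeff9

/-! Helper lemmas (helper40): combinatorics of monomials in matrix coordinates, images of semisimple
comodules, coefficient maps on a basis. -/

set_option autoImplicit false
universe u v w w'

open TensorProduct

namespace Groth.Agent.H40

section Perm

/-- Two tuples with the same fibre cardinalities differ by a permutation of the index set. -/
theorem exists_perm_comp_eq {a : ℕ} {β : Type*} [DecidableEq β] (p p' : Fin a → β)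
    (h : ∀ x, (Finset.univ.filter (fun t => p t = x)).card =
      (Finset.univ.filter (fun t => p' t = x)).card) :
    ∃ σ : Equiv.Perm (Fin a), p' = p ∘ σ := by
  have hcard : ∀ x, Fintype.card {t // p' t = x} = Fintype.card {t // p t = x} := by
    intro x
    rw [Fintype.card_subtype, Fintype.card_subtype, h]
  let e : ∀ x, {t // p' t = x} ≃ {t // p t = x} := fun x => Fintype.equivOfCardEq (hcard x)
  let σ : Equiv.Perm (Fin a) :=
    (Equiv.sigmaFiberEquiv p').symm.trans ((Equiv.sigmaCongrRight e).trans (Equiv.sigmaFiberEquiv p))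
  refine ⟨σ, ?_⟩
  funext t
  have : p (σ t) = p' t := ((e (p' t)) ⟨t, rfl⟩).2
  exact this.symm

/-- The exponent vector of the monomial `∏ t, X (I t, J t)`. -/
noncomputable def mon {a : ℕ} {ι : Type*} (I J : Fin a → ι) : (ι × ι) →₀ ℕ :=
  ∑ t, Finsupp.single (I t, J t) 1

theorem mon_apply {a : ℕ} {ι : Type*} [DecidableEq ι] (I J : Fin a → ι) (x : ι × ι) :
    mon I J x = (Finset.univ.filter (fun t => (I t, J t) = x)).card := by
  unfold mon
  rw [Finsupp.finsetSum_apply]
  simp only [Finsupp.single_apply]
  rw [Finset.card_filter]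

theorem exists_perm_of_mon_eq {a : ℕ} {ι : Type*} [DecidableEq ι] (I J I' J' : Fin a → ι)
    (h : mon I J = mon I' J') : ∃ σ : Equiv.Perm (Fin a), I' = I ∘ σ ∧ J' = J ∘ σ := by
  obtain ⟨σ, hσ⟩ := exists_perm_comp_eq (fun t => (I t, J t)) (fun t => (I' t, J' t)) (by
    intro x
    rw [← mon_apply, ← mon_apply, h])
  refine ⟨σ, ?_, ?_⟩
  · funext t
    exact congrArg Prod.fst (congrFun hσ t)
  · funext t
    exact congrArg Prod.snd (congrFun hσ t)

theorem prod_X_eq_monomial {a : ℕ} {ι : Type*} {R : Type*} [CommSemiring R] (I J : Fin a → ι) :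
    (∏ t, MvPolynomial.X (R := R) (I t, J t)) = MvPolynomial.monomial (mon I J) 1 := by
  unfold mon
  rw [MvPolynomial.monomial_sum_one]
  rfl

/-- The action of permutations of `Fin a` on tuples. -/
def permAct (a : ℕ) (ι : Type*) : Equiv.Perm (Fin a) →* Equiv.Perm (Fin a → ι) where
  toFun σ := Equiv.arrowCongr σ (Equiv.refl ι)
  map_one' := by
    ext I t
    rfl
  map_mul' σ τ := by
    ext I t
    rfl

theorem permAct_apply (a : ℕ) (ι : Type*) (σ : Equiv.Perm (Fin a)) (I : Fin a → ι) :
    permAct a ι σ I = I ∘ σ.symm := rfl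

theorem xxPow_permAct {A : Type*} [CommRing A] {ι : Type*} (x : ι → ι → A) (a : ℕ)
    (σ : Equiv.Perm (Fin a)) (I J : Fin a → ι) :
    xxPow x a (permAct a ι σ I) (permAct a ι σ J) = xxPow x a I J := by
  unfold xxPow
  simp only [permAct_apply, Function.comp_apply]
  exact Equiv.prod_comp σ.symm (fun t => x (I t) (J t))

end Perm

section Images

variable {k : Type u} [Field k] {C : Type v} [AddCommGroup C] [Module k C] [Coalgebra k C]
  {V : Type w} [AddCommGroup V] [Module k V] [HopfRep.Comod k C V]
  {V' : Type w'} [AddCommGroup V'] [Module k V'] [HopfRep.Comod k C V']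

open Groth.Agent.Lib.Helper93.Comod

/-- The image of a simple subcomodule under a comodule map is zero or a simple subcomodule. -/
theorem map_eq_bot_or_isSimpleSub (f : V →ₗ[k] V') (hf : Hoch.IsComodHom C f)
    (S : Submodule k V) (hS : IsSimpleSub (C := C) S) :
    S.map f = ⊥ ∨ IsSimpleSub (C := C) (S.map f) := by
  have hK : HopfRep.IsSubcomod (k := k) (A := C) (LinearMap.ker f ⊓ S) :=
    isSubcomod_inf _ _ (isSubcomod_ker f hf) hS.2.1
  rcases hS.2.2 _ hK inf_le_right with h | h
  · right
    have hinj : ∀ x ∈ S, f x = 0 → x = 0 := by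
      intro x hx hfx
      have : x ∈ LinearMap.ker f ⊓ S := ⟨hfx, hx⟩
      rw [h] at this
      exact this
    refine ⟨?_, isSubcomod_map f hf S hS.2.1, ?_⟩
    · intro h0
      apply hS.1
      rw [eq_bot_iff]
      intro x hx
      have : f x ∈ S.map f := Submodule.mem_map_of_mem hx
      rw [h0, Submodule.mem_bot] at this
      rw [Submodule.mem_bot]
      exact hinj x hx this
    · intro S' hS' hle
      have hT : HopfRep.IsSubcomod (k := k) (A := C) (S'.comap f ⊓ S) :=
        isSubcomod_inf _ _ (isSubcomod_comap f hf S' hS') hS.2.1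
      have hmap : S' = (S'.comap f ⊓ S).map f := by
        apply le_antisymm
        · intro y hy
          obtain ⟨x, hx, rfl⟩ := hle hy
          exact ⟨x, ⟨hy, hx⟩, rfl⟩
        · rintro _ ⟨x, hx, rfl⟩
          exact hx.1
      rcases hS.2.2 _ hT inf_le_right with h' | h'
      · left
        rw [hmap, h', Submodule.map_bot]
      · right
        rw [hmap, h']
  · left
    rw [eq_bot_iff]
    rintro _ ⟨x, hx, rfl⟩
    have : x ∈ LinearMap.ker f ⊓ S := by rw [h]; exact hx
    rw [Submodule.mem_bot]
    exact this.1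

/-- The image of a semisimple comodule lies in the sum of the simple subcomodules. -/
theorem range_le_iSup_simpleSub (f : V →ₗ[k] V') (hf : Hoch.IsComodHom C f)
    (h : HopfRep.IsSemisimpleComod k C V) :
    LinearMap.range f ≤ ⨆ S : {S : Submodule k V' // IsSimpleSub (C := C) S}, S.1 := by
  rw [← Submodule.map_top, ← iSup_simpleSub_eq_top_of_isSemisimple h, Submodule.map_iSup]
  apply iSup_le
  intro S
  rcases map_eq_bot_or_isSimpleSub f hf S.1 S.2 with h0 | h1
  · rw [h0]
    exact bot_le
  · exact le_iSup (fun S : {S : Submodule k V' // IsSimpleSub (C := C) S} => S.1) ⟨_, h1⟩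

/-- The coefficient map attached to a basis coordinate, on basis vectors. -/
theorem coeffMap_coord_basis {Idx : Type*} [Fintype Idx] [DecidableEq Idx]
    (B : Module.Basis Idx k V) (xx : Idx → Idx → C)
    (hxx : ∀ J, HopfRep.Comod.coact (k := k) (A := C) (B J) = ∑ I, B I ⊗ₜ[k] xx I J) (I J : Idx) :
    coeffMap (C := C) (B.coord I) (B J) = xx I J := by
  rw [coeffMap_apply, hxx, map_sum]
  simp only [lslice_tmul, Module.Basis.coord_apply, Module.Basis.repr_self, Finsupp.single_apply]
  rw [Finset.sum_eq_single I]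
  · simp
  · intro L _ hL
    rw [if_neg hL, zero_smul]
  · intro h
    exact (h (Finset.mem_univ I)).elim

end Images

end Groth.Agent.H40
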