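import Mathlib
import Groth.Prelude.Def_HopfRep
import Groth.Agent.H40.Comod
import Groth.Agent.S7972

/-! Helper lemmas (helper40): a comodule whose matrix coefficients are invariant under a finite
group of index permutations (of order invertible in the field) and "separate invariant matrices"
is semisimple (the Schur algebra argument: the commutant of the group action is a semisimple
algebra and consists of slice operators). -/

set_option autoImplicit false
universe u v w

open TensorProduct

namespace Groth.Agent.H40

section SchurSS

variable {k : Type u} [Field k] {C : Type v} [AddCommGroup C] [Module k C] [Coalgebra k C]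
  {T : Type w} [AddCommGroup T] [Module k T] [HopfRep.Comod k C T]

theorem coactSlice_basis {Idx : Type*} [Fintype Idx] (B : Module.Basis Idx k T)
    (xx : Idx → Idx → C)
    (hxx : ∀ J, HopfRep.Comod.coact (k := k) (A := C) (B J) = ∑ I, B I ⊗ₜ[k] xx I J)
    (φ : C →ₗ[k] k) (J : Idx) :
    coactSlice (C := C) φ (B J) = ∑ I, φ (xx I J) • B I := by
  unfold coactSlice
  rw [LinearMap.comp_apply, hxx, map_sum]
  simp only [slice_tmul]

theorem isSemisimpleComod_of_schur {Idx : Type*} [Fintype Idx] [DecidableEq Idx]
    (B : Module.Basis Idx k T) (xx : Idx → Idx → C)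
    (hxx : ∀ J, HopfRep.Comod.coact (k := k) (A := C) (B J) = ∑ I, B I ⊗ₜ[k] xx I J)
    {S : Type*} [Group S] [Finite S] (hS : (Nat.card S : k) ≠ 0) (α : S →* Equiv.Perm Idx)
    (hinv : ∀ σ I J, xx (α σ I) (α σ J) = xx I J)
    (hsep : ∀ E : Idx → Idx → k, (∀ σ I J, E (α σ I) (α σ J) = E I J) →
      ∃ φ : C →ₗ[k] k, ∀ I J, φ (xx I J) = E I J) :
    HopfRep.IsSemisimpleComod k C T := by
  classical
  have hslice := coactSlice_basis (C := C) B xx hxx
  -- the permutation representation
  let π : Representation k S T :=
    { toFun := fun σ => B.constr k (fun J => B (α σ J))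
      map_one' := by
        apply B.ext
        intro J
        simp
      map_mul' := by
        intro σ τ
        apply B.ext
        intro J
        simp [map_mul] }
  have hπ : ∀ σ J, π σ (B J) = B (α σ J) := fun σ J => Module.Basis.constr_basis _ _ _ _
  -- slices commute with the group action
  have hcomm : ∀ (φ : C →ₗ[k] k) (σ : S) (v : T),
      coactSlice (C := C) φ (π σ v) = π σ (coactSlice (C := C) φ v) := by
    intro φ σ v
    have : coactSlice (C := C) (V := T) φ ∘ₗ π σ = π σ ∘ₗ coactSlice (C := C) φ := by
      apply B.ext
      intro J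
      simp only [LinearMap.comp_apply, hπ, hslice, map_sum, map_smul]
      rw [← Equiv.sum_comp (α σ) (fun I => φ (xx I (α σ J)) • B I)]
      simp only [hinv]
    exact LinearMap.congr_fun this v
  -- module structure over the group algebra
  let _ : Module (MonoidAlgebra k S) T := Module.compHom T (π.asAlgebraHom : MonoidAlgebra k S →+* Module.End k T)
  have hsmul : ∀ (r : MonoidAlgebra k S) (t : T), r • t = π.asAlgebraHom r t := fun _ _ => rfl
  have : IsScalarTower k (MonoidAlgebra k S) T := ⟨fun c r t => by
    rw [hsmul, hsmul, map_smul, LinearMap.smul_apply]⟩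
  have hsingle : ∀ (σ : S) (t : T), (MonoidAlgebra.single σ (1 : k) : MonoidAlgebra k S) • t = π σ t := by
    intro σ t
    rw [hsmul, Representation.asAlgebraHom_single, one_smul]
  have : NeZero (Nat.card S : k) := ⟨hS⟩
  have : Module.Finite k T := Module.Finite.of_basis B
  have : Module.Finite (MonoidAlgebra k S) T := Module.Finite.of_restrictScalars_finite k _ T
  have : IsSemisimpleRing (Module.End (MonoidAlgebra k S) T) :=
    IsSemisimpleRing.moduleEnd (MonoidAlgebra k S) T
  -- every equivariant endomorphism is a slice
  have hA : ∀ e : Module.End (MonoidAlgebra k S) T, ∃ φ : C →ₗ[k] k,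
      ∀ t : T, e t = coactSlice (C := C) φ t := by
    intro e
    have he : ∀ σ t, e (π σ t) = π σ (e t) := by
      intro σ t
      rw [← hsingle, map_smul, hsingle]
    have hcoord : ∀ (σ : S) (I : Idx) (t : T), B.coord (α σ I) (π σ t) = B.coord I t := by
      intro σ I t
      have : B.coord (α σ I) ∘ₗ π σ = B.coord I := by
        apply B.ext
        intro L
        simp only [LinearMap.comp_apply, hπ, Module.Basis.coord_apply, Module.Basis.repr_self,
          Finsupp.single_apply]
        by_cases h : L = I
        · simp [h]
        · rw [if_neg h, if_neg (fun h' => h ((α σ).injective h'))]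
      exact LinearMap.congr_fun this t
    obtain ⟨φ, hφ⟩ := hsep (fun I J => B.coord I (e (B J))) (by
      intro σ I J
      rw [← hπ, he, hcoord])
    refine ⟨φ, fun t => ?_⟩
    have : (e.restrictScalars k : T →ₗ[k] T) = coactSlice (C := C) φ := by
      apply B.ext
      intro J
      rw [hslice]
      simp only [hφ]
      rw [LinearMap.restrictScalars_apply]
      conv_lhs => rw [← B.sum_repr (e (B J))]
      rfl
    exact LinearMap.congr_fun this t
  intro W hW
  have hWs := (Groth.Agent.S7972.isSubcomod_iff_slice (C := C) W).1 hW
  let W' : Submodule (Module.End (MonoidAlgebra k S) T) T :=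
    { carrier := W
      add_mem' := W.add_mem
      zero_mem' := W.zero_mem
      smul_mem' := by
        intro e t ht
        obtain ⟨φ, hφ⟩ := hA e
        change e t ∈ W
        rw [hφ]
        exact hWs φ ht }
  obtain ⟨N', hN'⟩ := exists_isCompl W'
  let N : Submodule k T :=
    { carrier := N'
      add_mem' := N'.add_mem
      zero_mem' := N'.zero_mem
      smul_mem' := by
        intro c t ht
        let ec : Module.End (MonoidAlgebra k S) T :=
          MonoidAlgebra.equivariantOfLinearOfComm (c • (LinearMap.id : T →ₗ[k] T)) (by
            intro σ v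
            simp only [LinearMap.smul_apply, LinearMap.id_apply, hsingle, map_smul])
        have : c • t = ec • t := rfl
        rw [this]
        exact N'.smul_mem ec ht }
  refine ⟨N, ?_, ?_⟩
  · rw [Groth.Agent.S7972.isSubcomod_iff_slice]
    intro ψ t ht
    let eψ : Module.End (MonoidAlgebra k S) T :=
      MonoidAlgebra.equivariantOfLinearOfComm (coactSlice (C := C) (V := T) ψ) (by
        intro σ v
        rw [hsingle, hsingle, hcomm])
    change coactSlice (C := C) ψ t ∈ N'
    have : coactSlice (C := C) ψ t = eψ • t := rfl
    rw [this]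
    exact N'.smul_mem eψ ht
  · constructor
    · rw [disjoint_iff, eq_bot_iff]
      intro x hx
      have hx' : x ∈ W' ⊓ N' := ⟨hx.1, hx.2⟩
      rw [hN'.inf_eq_bot] at hx'
      exact hx'
    · rw [codisjoint_iff, eq_top_iff]
      intro x _
      have hx : x ∈ W' ⊔ N' := by rw [hN'.sup_eq_top]; exact Submodule.mem_top
      obtain ⟨w, hw, n, hn, rfl⟩ := Submodule.mem_sup.1 hx
      exact Submodule.add_mem_sup (show w ∈ W from hw) (show n ∈ N from hn)

end SchurSS

end Groth.Agent.H40
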