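import Groth.Agent.H40.SepSplit3
import Groth.Agent.H40.MultTypeIff

/-!
# Groups of multiplicative type over a field are isotrivial (helper40)
-/

set_option autoImplicit false
open TensorProduct Coalgebra
universe u

namespace Groth.Agent.H40.SepSplit

open Groth.Agent.H40 Groth.Agent.H40.ThetaU

/-- A Hopf algebra of multiplicative type over a field is cocommutative and has no nonzero
primitive elements. -/
theorem cocomm_and_prim_of_isMultType (k : Type u) [Field k] (A : Type u) [CommRing A]
    [HopfAlgebra k A] (h : SGA3b.IsMultType k A) :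
    Coalgebra.IsCocomm k A ∧ Function.Injective (primMap (k := k) (A := A)) := by
  obtain ⟨s, hs, hloc⟩ := h
  obtain ⟨f, hf, hf0⟩ : ∃ f ∈ s, f ≠ 0 := by
    by_contra hcon
    push Not at hcon
    have h1 : Ideal.span s ≤ ⊥ := Ideal.span_le.mpr (fun x hx => by simpa using hcon x hx)
    rw [hs] at h1
    exact top_ne_bot (le_bot_iff.mp h1)
  obtain ⟨R₂, _, _, hff, M, _, ⟨e⟩⟩ := hloc f hf
  have hfu : IsUnit f := isUnit_iff_ne_zero.mpr hf0
  have hLfield : IsField (Localization.Away f) :=
    ((IsLocalization.atUnit k (Localization.Away f) f hfu).symm.toMulEquiv).isField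
      (Field.toIsField k)
  have hLnt : Nontrivial (Localization.Away f) := hLfield.nontrivial
  have hnt : Nontrivial R₂ :=
    (FaithfulSMul.algebraMap_injective (Localization.Away f) R₂).nontrivial
  obtain ⟨m, hm⟩ := Ideal.exists_maximal R₂
  let fK : Field (R₂ ⧸ m) := Ideal.Quotient.field m
  let fL : Field (Localization.Away f) := hLfield.toField
  have hX : Submodule.span R₂ {a : R₂ ⊗[Localization.Away f] (Localization.Away f ⊗[k] A) |
      IsGroupLikeElem R₂ a} = ⊤ :=
    span_groupLike_of_surjective (e.symm : MonoidAlgebra R₂ M →ₐc[R₂] _)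
      (fun y => ⟨e y, e.symm_apply_apply y⟩) MonoidAlgebra.span_isGroupLikeElem
  have hX' : Submodule.span (R₂ ⧸ m)
      {a : (R₂ ⧸ m) ⊗[Localization.Away f] (Localization.Away f ⊗[k] A) |
        IsGroupLikeElem (R₂ ⧸ m) a} = ⊤ :=
    span_groupLike_bcMap (Ideal.Quotient.mkₐ (Localization.Away f) m)
      (Localization.Away f ⊗[k] A) (Ideal.Quotient.mkₐ_surjective _ m) hX
  have hc : Coalgebra.IsCocomm (Localization.Away f) (Localization.Away f ⊗[k] A) :=
    isCocomm_of_baseChange (k := Localization.Away f) (A := Localization.Away f ⊗[k] A)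
      (R₂ ⧸ m) hX'
  have hp : Function.Injective
      (primMap (k := Localization.Away f) (A := Localization.Away f ⊗[k] A)) :=
    primMap_injective_of_baseChange (k := Localization.Away f)
      (A := Localization.Away f ⊗[k] A) (R₂ ⧸ m) hX'
  have hinj : Function.Injective (algebraMap k (Localization.Away f)) :=
    (algebraMap k (Localization.Away f)).injective
  exact ⟨isCocomm_of_isCocomm_baseChange (Localization.Away f) hinj,
    primMap_injective_of_primMap_baseChange (Localization.Away f) hp hinj⟩

/-- **Isotriviality over a field**: a Hopf algebra of finite type and of multiplicative type over a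
field `k` becomes diagonalisable over a finite separable extension of `k`. -/
theorem isotrivial_of_isMultType (k : Type u) [Field k] (A : Type u) [CommRing A] [HopfAlgebra k A]
    (hft : Algebra.FiniteType k A) (h : SGA3b.IsMultType k A) :
    ∃ E : IntermediateField k (AlgebraicClosure k), FiniteDimensional k E ∧
      Algebra.IsSeparable k E ∧
      Submodule.span E {y : E ⊗[k] A | IsGroupLikeElem E y} = ⊤ := by
  obtain ⟨hc, hp⟩ := cocomm_and_prim_of_isMultType k A h
  have hD : HopfRep.IsDiagonalizable (AlgebraicClosure k) (AlgebraicClosure k ⊗[k] A) := by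
    rw [multType_iff]
    refine ⟨hc, fun a ha => ?_⟩
    apply (injective_iff_map_eq_zero _).1 hp
    rw [primMap_apply, ha]
    abel
  exact exists_intermediateField_split hft (AlgebraicClosure k) hD

end Groth.Agent.H40.SepSplit
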