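import Mathlib
import Groth.Prelude.Def_W4c6stackyreslrsPsRefl
import Groth.Agent.H40.DiagSS

/-! # The stabiliser of a vector is a closed subgroup scheme (helper40)

For a vector `f` of a comodule `V` over a commutative Hopf algebra `A` over a field, the ideal
`coefIdeal f` generated by the coefficients of `ρ f - f ⊗ 1` is a Hopf ideal, and `f` is invariant
under the closed subscheme of an ideal `I` iff `coefIdeal f ≤ I`. -/

set_option autoImplicit false
set_option linter.unusedSectionVars false
universe u v w
open TensorProduct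

namespace Groth.Agent.H40.StabIdealHopf

section Basic

variable {k : Type u} [Field k] {A : Type v} [CommRing A] [Bialgebra k A]
  {V : Type w} [AddCommGroup V] [Module k V] [HopfRep.Comod k A V]

/-- The defect `ρ f - f ⊗ 1`. -/
noncomputable def defect (f : V) : V ⊗[k] A :=
  HopfRep.Comod.coact (k := k) (A := A) f - f ⊗ₜ[k] (1 : A)

/-- The ideal of the stabiliser of `f`. -/
noncomputable def coefIdeal (f : V) : Ideal A :=
  Ideal.span (Set.range fun φ : V →ₗ[k] k => lslice φ (defect (A := A) f))

theorem lTensor_defect_eq_zero_iff {B : Type*} [CommRing B] [Algebra k B] (g : A →ₐ[k] B) (f : V) :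
    LinearMap.lTensor V g.toLinearMap (defect (A := A) f) = 0 ↔
      coefIdeal (k := k) (A := A) f ≤ RingHom.ker g := by
  constructor
  · intro h
    rw [coefIdeal, Ideal.span_le]
    rintro _ ⟨φ, rfl⟩
    change g _ = 0
    have := lslice_lTensor g.toLinearMap φ (defect (A := A) f)
    rw [h, map_zero] at this
    exact this.symm
  · intro h
    apply eq_zero_of_forall_lslice
    intro φ
    rw [lslice_lTensor]
    exact h (Ideal.subset_span ⟨φ, rfl⟩)

theorem mem_quotInvariants_iff_le (I : Ideal A) (f : V) :
    f ∈ GLin.quotInvariants k A V I ↔ coefIdeal (k := k) (A := A) f ≤ I := by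
  rw [GLin.mem_quotInvariants_iff]
  have h1 := lTensor_defect_eq_zero_iff (Ideal.Quotient.mkₐ k I) f
  have h2 : RingHom.ker (Ideal.Quotient.mkₐ k I) = I := Ideal.Quotient.mkₐ_ker k I
  rw [h2] at h1
  rw [← h1, defect, map_sub, sub_eq_zero, LinearMap.lTensor_tmul]
  simp

end Basic

section TensorLemmas

variable {k : Type u} [Field k] {A : Type v} [CommRing A] [Algebra k A]
  {B : Type*} [CommRing B] [Algebra k B]
  {V : Type w} [AddCommGroup V] [Module k V]

theorem lTensor_map_assoc_tmul (p q : A →ₗ[k] B) (s : V ⊗[k] A) (a : A) :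
    LinearMap.lTensor V (TensorProduct.map p q) (TensorProduct.assoc k V A A (s ⊗ₜ[k] a)) =
      TensorProduct.assoc k V B B ((LinearMap.lTensor V p s) ⊗ₜ[k] q a) := by
  induction s using TensorProduct.induction_on with
  | zero => simp
  | tmul v b => simp
  | add x y hx hy => simp only [TensorProduct.add_tmul, map_add, hx, hy]

theorem lTensor_map_assoc_rTensor (p q : A →ₗ[k] B) (ρ : V →ₗ[k] V ⊗[k] A) (t : V ⊗[k] A) :
    LinearMap.lTensor V (TensorProduct.map p q)
        (TensorProduct.assoc k V A A (LinearMap.rTensor A ρ t)) =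
      TensorProduct.assoc k V B B
        (LinearMap.rTensor B (LinearMap.lTensor V p ∘ₗ ρ) (LinearMap.lTensor V q t)) := by
  induction t using TensorProduct.induction_on with
  | zero => simp
  | tmul v a =>
    rw [LinearMap.rTensor_tmul, lTensor_map_assoc_tmul, LinearMap.lTensor_tmul,
      LinearMap.rTensor_tmul, LinearMap.comp_apply]
  | add x y hx hy => simp only [map_add, hx, hy]

theorem lTensor_mul'_assoc_tmul_one (s : V ⊗[k] B) :
    LinearMap.lTensor V (LinearMap.mul' k B) (TensorProduct.assoc k V B B (s ⊗ₜ[k] (1 : B))) = s := by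
  induction s using TensorProduct.induction_on with
  | zero => simp
  | tmul v b => simp
  | add x y hx hy => simp only [TensorProduct.add_tmul, map_add, hx, hy]

end TensorLemmas

section Hopf

variable {k : Type u} [Field k] {A : Type v} [CommRing A] [HopfAlgebra k A]
  {V : Type w} [AddCommGroup V] [Module k V] [HopfRep.Comod k A V]

/-- The quotient map by the stabiliser ideal. -/
noncomputable abbrev quo (f : V) : A →ₐ[k] A ⧸ coefIdeal (k := k) (A := A) f :=
  Ideal.Quotient.mkₐ k _

theorem lTensor_quo_coact (f : V) :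
    LinearMap.lTensor V (quo (k := k) (A := A) f).toLinearMap
      (HopfRep.Comod.coact (k := k) (A := A) f) = f ⊗ₜ[k] 1 :=
  (GLin.mem_quotInvariants_iff k A V _ f).mp ((mem_quotInvariants_iff_le _ f).mpr le_rfl)

theorem lTensor_counit_coact (f : V) :
    LinearMap.lTensor V (CoalgebraStruct.counit (R := k) (A := A))
      (HopfRep.Comod.coact (k := k) (A := A) f) = f ⊗ₜ[k] 1 := by
  have := LinearMap.congr_fun (HopfRep.Comod.counit_comp (k := k) (A := A) (V := V)) f
  simpa using this

theorem coassoc_apply (f : V) :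
    TensorProduct.assoc k V A A (LinearMap.rTensor A (HopfRep.Comod.coact (k := k) (A := A))
      (HopfRep.Comod.coact (k := k) (A := A) f)) =
      LinearMap.lTensor V (CoalgebraStruct.comul (R := k) (A := A))
        (HopfRep.Comod.coact (k := k) (A := A) f) :=
  LinearMap.congr_fun (HopfRep.Comod.coassoc (k := k) (A := A) (V := V)) f

theorem coefIdeal_le_ker_counit (f : V) :
    coefIdeal (k := k) (A := A) f ≤ RingHom.ker (Bialgebra.counitAlgHom k A) := by
  rw [← lTensor_defect_eq_zero_iff, defect, map_sub, sub_eq_zero]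
  have h1 : (Bialgebra.counitAlgHom k A).toLinearMap = CoalgebraStruct.counit (R := k) (A := A) := rfl
  rw [h1, lTensor_counit_coact, LinearMap.lTensor_tmul, Bialgebra.counit_one]

theorem coefIdeal_le_ker_comul (f : V) :
    coefIdeal (k := k) (A := A) f ≤ RingHom.ker
      ((Algebra.TensorProduct.map (quo (k := k) (A := A) f) (quo (k := k) (A := A) f)).comp
        (Bialgebra.comulAlgHom k A)) := by
  rw [← lTensor_defect_eq_zero_iff, defect, map_sub, sub_eq_zero]
  have h1 : ((Algebra.TensorProduct.map (quo (k := k) (A := A) f) (quo (k := k) (A := A) f)).comp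
        (Bialgebra.comulAlgHom k A)).toLinearMap =
      TensorProduct.map (quo (k := k) (A := A) f).toLinearMap (quo (k := k) (A := A) f).toLinearMap ∘ₗ
        CoalgebraStruct.comul (R := k) (A := A) := rfl
  have hR : LinearMap.lTensor V ((Algebra.TensorProduct.map (quo (k := k) (A := A) f)
      (quo (k := k) (A := A) f)).comp (Bialgebra.comulAlgHom k A)).toLinearMap (f ⊗ₜ[k] (1 : A)) =
      f ⊗ₜ[k] 1 := by
    rw [LinearMap.lTensor_tmul, AlgHom.toLinearMap_apply, map_one]
  rw [hR, h1, LinearMap.lTensor_comp, LinearMap.comp_apply, ← coassoc_apply,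
    lTensor_map_assoc_rTensor, lTensor_quo_coact, LinearMap.rTensor_tmul, LinearMap.comp_apply,
    lTensor_quo_coact, TensorProduct.assoc_tmul, Algebra.TensorProduct.one_def]

theorem coefIdeal_le_ker_antipode (f : V) :
    coefIdeal (k := k) (A := A) f ≤ RingHom.ker
      ((quo (k := k) (A := A) f).comp (HopfAlgebra.antipodeAlgHom k A)) := by
  rw [← lTensor_defect_eq_zero_iff, defect, map_sub, sub_eq_zero]
  set π := quo (k := k) (A := A) f with hπ
  set E : A →ₐ[k] A ⧸ coefIdeal (k := k) (A := A) f := π.comp (HopfAlgebra.antipodeAlgHom k A) with hE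
  -- the map `a ⊗ b ↦ π (S a) * π b`
  let Φ : A ⊗[k] A →ₗ[k] A ⧸ coefIdeal (k := k) (A := A) f :=
    LinearMap.mul' k _ ∘ₗ TensorProduct.map E.toLinearMap π.toLinearMap
  have hΦ : Φ ∘ₗ CoalgebraStruct.comul (R := k) (A := A) =
      (Algebra.linearMap k (A ⧸ coefIdeal (k := k) (A := A) f)) ∘ₗ
        CoalgebraStruct.counit (R := k) (A := A) := by
    have h0 : Φ = π.toLinearMap ∘ₗ LinearMap.mul' k A ∘ₗ
        LinearMap.rTensor A (HopfAlgebra.antipode k) := by
      apply TensorProduct.ext'
      intro a b
      simp [Φ, hE]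
    apply LinearMap.ext
    intro a
    rw [h0]
    simp only [LinearMap.comp_apply]
    rw [HopfAlgebra.mul_antipode_rTensor_comul_apply]
    simp
  have key : LinearMap.lTensor V Φ (TensorProduct.assoc k V A A
      (LinearMap.rTensor A (HopfRep.Comod.coact (k := k) (A := A))
        (HopfRep.Comod.coact (k := k) (A := A) f))) =
      LinearMap.lTensor V E.toLinearMap (HopfRep.Comod.coact (k := k) (A := A) f) := by
    change LinearMap.lTensor V (LinearMap.mul' k _ ∘ₗ TensorProduct.map E.toLinearMap π.toLinearMap) _ = _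
    rw [LinearMap.lTensor_comp, LinearMap.comp_apply, lTensor_map_assoc_rTensor, lTensor_quo_coact,
      LinearMap.rTensor_tmul, LinearMap.comp_apply, lTensor_mul'_assoc_tmul_one]
  have hR : LinearMap.lTensor V E.toLinearMap (f ⊗ₜ[k] (1 : A)) = f ⊗ₜ[k] 1 := by
    rw [LinearMap.lTensor_tmul, AlgHom.toLinearMap_apply, map_one]
  rw [hR, ← key, coassoc_apply, ← LinearMap.comp_apply, ← LinearMap.lTensor_comp, hΦ,
    LinearMap.lTensor_comp, LinearMap.comp_apply, lTensor_counit_coact, LinearMap.lTensor_tmul]
  simp

/-- The stabiliser ideal is a Hopf ideal. -/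
theorem isHopfIdeal_coefIdeal (f : V) : (coefIdeal (k := k) (A := A) f).IsHopfIdeal k := by
  set C := coefIdeal (k := k) (A := A) f with hC
  have hco : (C.restrictScalars k).IsCoideal := by
    rw [Submodule.isCoideal_iff_comul_mem]
    refine ⟨fun x hx => coefIdeal_le_ker_counit f hx, fun x hx => ?_⟩
    have hex : Function.Exact (C.restrictScalars k).subtype (quo (k := k) (A := A) f).toLinearMap := by
      intro y
      constructor
      · intro hy
        exact ⟨⟨y, Ideal.Quotient.eq_zero_iff_mem.mp hy⟩, rfl⟩
      · rintro ⟨z, rfl⟩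
        exact Ideal.Quotient.eq_zero_iff_mem.mpr z.2
    have hsurj : Function.Surjective (quo (k := k) (A := A) f).toLinearMap :=
      Ideal.Quotient.mkₐ_surjective k _
    rw [← TensorProduct.map_ker hex hsurj hex hsurj, LinearMap.mem_ker]
    exact coefIdeal_le_ker_comul f hx
  refine { toIsCoideal := hco, antipode_mem := fun x hx => ?_ }
  have := coefIdeal_le_ker_antipode f hx
  exact Ideal.Quotient.eq_zero_iff_mem.mp this

end Hopf

end Groth.Agent.H40.StabIdealHopf
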