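import Mathlib
import Groth.Prelude.Def_GLin
import Groth.Agent.Lib.Helper59.StableTrans
import Groth.Agent.Lib.Helper84.UnipPts

/-! # Strongly étale equivariant maps (helper40) -/

set_option autoImplicit false
set_option linter.unusedSectionVars false
universe u
open TensorProduct

namespace Groth.Agent.H40.StronglyEtale

open Groth.Agent.Lib.Helper59.StableTrans Groth.Agent.Lib.Helper84.UnipPts

section Basic

variable {k : Type u} [Field k] {A : Type u} [CommRing A] [HopfAlgebra k A]
  {R : Type u} [CommRing R] [Algebra k R] [HopfRep.Comod k A R] [GLin.IsCoactAlg k A R]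

/-- The translated point. -/
theorem actPt_apply (g : A →ₐ[k] k) (x : R →ₐ[k] k) (f : R) :
    GLin.actPt k g x f = x (HopfRep.Comod.act k A R g f) :=
  apply_orbitHom x g f

theorem act_of_mem_invariants (g : A →ₐ[k] k) {f : R} (hf : f ∈ GLin.invariants k A R) :
    HopfRep.Comod.act k A R g f = f :=
  act_of_mem_fixedPts g (show f ∈ HopfRep.fixedPts k A R from hf)

theorem sub_algebraMap_mem_invariants {f : R} (hf : f ∈ GLin.invariants k A R) (c : k) :
    f - algebraMap k R c ∈ GLin.invariants k A R :=
  Subalgebra.sub_mem _ hf (Subalgebra.algebraMap_mem _ c)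

end Basic

section Equivariant

variable {k : Type u} [Field k] {A : Type u} [CommRing A] [HopfAlgebra k A]
  {S : Type u} [CommRing S] [Algebra k S] [HopfRep.Comod k A S] [GLin.IsCoactAlg k A S]
  {R : Type u} [CommRing R] [Algebra k R] [HopfRep.Comod k A R] [GLin.IsCoactAlg k A R]
  [Algebra S R] [IsScalarTower k S R]

theorem act_algebraMap
    (hequiv : ∀ s : S, HopfRep.Comod.coact (k := k) (A := A) (algebraMap S R s) =
      Algebra.TensorProduct.map (IsScalarTower.toAlgHom k S R) (AlgHom.id k A)
        (HopfRep.Comod.coact (k := k) (A := A) s))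
    (g : A →ₐ[k] k) (s : S) :
    HopfRep.Comod.act k A R g (algebraMap S R s) = algebraMap S R (HopfRep.Comod.act k A S g s) := by
  unfold HopfRep.Comod.act
  simp only [LinearMap.comp_apply, LinearEquiv.coe_coe]
  rw [hequiv]
  generalize HopfRep.Comod.coact (k := k) (A := A) s = t
  induction t using TensorProduct.induction_on with
  | zero => simp
  | tmul a b =>
    simp [Algebra.smul_def, IsScalarTower.algebraMap_apply k S R]
  | add a b ha hb => simp only [map_add, ha, hb]

theorem actPt_comp
    (hequiv : ∀ s : S, HopfRep.Comod.coact (k := k) (A := A) (algebraMap S R s) =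
      Algebra.TensorProduct.map (IsScalarTower.toAlgHom k S R) (AlgHom.id k A)
        (HopfRep.Comod.coact (k := k) (A := A) s))
    (g : A →ₐ[k] k) (x : R →ₐ[k] k) :
    (GLin.actPt k g x).comp (IsScalarTower.toAlgHom k S R) =
      GLin.actPt k g (x.comp (IsScalarTower.toAlgHom k S R)) := by
  apply AlgHom.ext
  intro s
  rw [AlgHom.comp_apply, actPt_apply, actPt_apply, IsScalarTower.coe_toAlgHom',
    act_algebraMap hequiv, AlgHom.comp_apply, IsScalarTower.coe_toAlgHom']

end Equivariant

section Cart

variable {S : Type u} [CommRing S] {R : Type u} [CommRing R] [Algebra S R]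
    {S₀ : Type u} [CommRing S₀] [Algebra S₀ S]
    {R₀ : Type u} [CommRing R₀] [Algebra R₀ R]
    [Algebra S₀ R₀] [Algebra S₀ R] [IsScalarTower S₀ S R] [IsScalarTower S₀ R₀ R]

theorem etale_of_cart [Algebra.Etale S₀ R₀]
    (hcart : Function.Bijective (Algebra.TensorProduct.productMap
      (IsScalarTower.toAlgHom S₀ S R) (IsScalarTower.toAlgHom S₀ R₀ R))) :
    Algebra.Etale S R := by
  let P : S ⊗[S₀] R₀ →ₐ[S] R :=
    Algebra.TensorProduct.productLeftAlgHom (Algebra.ofId S R) (IsScalarTower.toAlgHom S₀ R₀ R)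
  have hP : ∀ t, P t = Algebra.TensorProduct.productMap
      (IsScalarTower.toAlgHom S₀ S R) (IsScalarTower.toAlgHom S₀ R₀ R) t := by
    intro t
    induction t using TensorProduct.induction_on with
    | zero => simp
    | tmul a b => simp [P, Algebra.ofId_apply]
    | add a b ha hb => simp only [map_add, ha, hb]
  have hbij : Function.Bijective P := by
    have : (P : S ⊗[S₀] R₀ → R) = Algebra.TensorProduct.productMap
      (IsScalarTower.toAlgHom S₀ S R) (IsScalarTower.toAlgHom S₀ R₀ R) := funext hP
    rw [this]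
    exact hcart
  exact Algebra.Etale.of_equiv (AlgEquiv.ofBijective P hbij)

theorem exists_rep
    (hcart : Function.Bijective (Algebra.TensorProduct.productMap
      (IsScalarTower.toAlgHom S₀ S R) (IsScalarTower.toAlgHom S₀ R₀ R))) (f : R) :
    ∃ T : Finset (S × R₀), f = ∑ p ∈ T, algebraMap S R p.1 * algebraMap R₀ R p.2 := by
  obtain ⟨t, rfl⟩ := hcart.2 f
  obtain ⟨T, hT⟩ := TensorProduct.exists_finset t
  refine ⟨T, ?_⟩
  rw [hT, map_sum]
  apply Finset.sum_congr rfl
  intro p _
  simp

theorem ringHom_ext_of_cart {B : Type*} [CommRing B]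
    (hcart : Function.Bijective (Algebra.TensorProduct.productMap
      (IsScalarTower.toAlgHom S₀ S R) (IsScalarTower.toAlgHom S₀ R₀ R)))
    (φ ψ : R →+* B) (h1 : ∀ s : S, φ (algebraMap S R s) = ψ (algebraMap S R s))
    (h2 : ∀ r : R₀, φ (algebraMap R₀ R r) = ψ (algebraMap R₀ R r)) : φ = ψ := by
  apply RingHom.ext
  intro f
  obtain ⟨T, rfl⟩ := exists_rep hcart f
  simp only [map_sum, map_mul, h1, h2]

end Cart

section Point

variable {k : Type u} [Field k]
    {S : Type u} [CommRing S] [Algebra k S] {R : Type u} [CommRing R] [Algebra k R]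
    [Algebra S R] [IsScalarTower k S R]
    {S₀ : Type u} [CommRing S₀] [Algebra S₀ S]
    {R₀ : Type u} [CommRing R₀] [Algebra R₀ R]
    [Algebra S₀ R₀] [Algebra S₀ R] [IsScalarTower S₀ S R] [IsScalarTower S₀ R₀ R]

/-- Glue a point of `S` and a ring map on `R₀` agreeing on `S₀` to a point of `R`. -/
theorem exists_point_of_compat
    (hcart : Function.Bijective (Algebra.TensorProduct.productMap
      (IsScalarTower.toAlgHom S₀ S R) (IsScalarTower.toAlgHom S₀ R₀ R)))
    (z' : S →ₐ[k] k) (x₀ : R₀ →+* k)
    (hcompat : ∀ s₀ : S₀, z' (algebraMap S₀ S s₀) = x₀ (algebraMap S₀ R₀ s₀)) :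
    ∃ z : R →ₐ[k] k, (∀ s, z (algebraMap S R s) = z' s) ∧ ∀ r, z (algebraMap R₀ R r) = x₀ r := by
  let _ : Algebra S₀ k := (z'.toRingHom.comp (algebraMap S₀ S)).toAlgebra
  let z'' : S →ₐ[S₀] k := { z'.toRingHom with commutes' := fun s₀ => rfl }
  let x₀'' : R₀ →ₐ[S₀] k := { x₀ with commutes' := fun s₀ => (hcompat s₀).symm }
  let Q : S ⊗[S₀] R₀ →ₐ[S₀] k := Algebra.TensorProduct.productMap z'' x₀''
  let e : S ⊗[S₀] R₀ ≃+* R := RingEquiv.ofBijective (Algebra.TensorProduct.productMap
      (IsScalarTower.toAlgHom S₀ S R) (IsScalarTower.toAlgHom S₀ R₀ R)) hcart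
  let zr : R →+* k := Q.toRingHom.comp e.symm.toRingHom
  have hS : ∀ s, zr (algebraMap S R s) = z' s := by
    intro s
    have h1 : e.symm (algebraMap S R s) = s ⊗ₜ[S₀] (1 : R₀) := by
      rw [RingEquiv.symm_apply_eq]
      simp [e]
    change Q (e.symm (algebraMap S R s)) = z' s
    rw [h1]
    simp [Q, z'']
  have hR : ∀ r, zr (algebraMap R₀ R r) = x₀ r := by
    intro r
    have h1 : e.symm (algebraMap R₀ R r) = (1 : S) ⊗ₜ[S₀] r := by
      rw [RingEquiv.symm_apply_eq]
      simp [e]
    change Q (e.symm (algebraMap R₀ R r)) = x₀ r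
    rw [h1]
    simp [Q, x₀'']
  refine ⟨{ zr with commutes' := fun c => ?_ }, hS, hR⟩
  change zr (algebraMap k R c) = algebraMap k k c
  rw [IsScalarTower.algebraMap_apply k S R, hS, AlgHom.commutes]

end Point

section Main

variable {k : Type u} [Field k] [IsAlgClosed k]
    {A : Type u} [CommRing A] [HopfAlgebra k A] [Algebra.FiniteType k A]
    {S : Type u} [CommRing S] [Algebra k S] [Algebra.FiniteType k S] [HopfRep.Comod k A S]
    [GLin.IsCoactAlg k A S]
    {R : Type u} [CommRing R] [Algebra k R] [Algebra.FiniteType k R] [HopfRep.Comod k A R]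
    [GLin.IsCoactAlg k A R]
    [Algebra S R] [IsScalarTower k S R]
    {S₀ : Type u} [CommRing S₀] [Algebra k S₀] [Algebra S₀ S] [IsScalarTower k S₀ S]
    {R₀ : Type u} [CommRing R₀] [Algebra k R₀] [Algebra R₀ R] [IsScalarTower k R₀ R]
    [Algebra S₀ R₀] [Algebra S₀ R] [IsScalarTower S₀ S R] [IsScalarTower S₀ R₀ R]

omit [IsAlgClosed k] [Algebra.FiniteType k A] [Algebra.FiniteType k S] [Algebra.FiniteType k R]
  [IsScalarTower k S₀ S] [Algebra k S₀] in
/-- Stabilisers: a group point fixing the image fixes the point. -/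
theorem actPt_eq_of_actPt_comp_eq
    (hequiv : ∀ s : S, HopfRep.Comod.coact (k := k) (A := A) (algebraMap S R s) =
      Algebra.TensorProduct.map (IsScalarTower.toAlgHom k S R) (AlgHom.id k A)
        (HopfRep.Comod.coact (k := k) (A := A) s))
    (hR₀ : (IsScalarTower.toAlgHom k R₀ R).range = GLin.invariants k A R)
    (hcart : Function.Bijective (Algebra.TensorProduct.productMap
      (IsScalarTower.toAlgHom S₀ S R) (IsScalarTower.toAlgHom S₀ R₀ R)))
    (x : R →ₐ[k] k) (g : A →ₐ[k] k)
    (hg : GLin.actPt k g (x.comp (IsScalarTower.toAlgHom k S R)) =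
      x.comp (IsScalarTower.toAlgHom k S R)) :
    GLin.actPt k g x = x := by
  have hinv : ∀ r : R₀, algebraMap R₀ R r ∈ GLin.invariants k A R := by
    intro r
    rw [← hR₀]
    exact ⟨r, rfl⟩
  have key : (GLin.actPt k g x).toRingHom = x.toRingHom := by
    apply ringHom_ext_of_cart hcart
    · intro s
      have h1 := AlgHom.congr_fun (actPt_comp hequiv g x) s
      rw [hg] at h1
      exact h1
    · intro r
      change GLin.actPt k g x (algebraMap R₀ R r) = x (algebraMap R₀ R r)
      rw [actPt_apply, act_of_mem_invariants g (hinv r)]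
  apply AlgHom.ext
  intro f
  exact RingHom.congr_fun key f

/-- Closed orbits correspond. -/
theorem isClosedOrbit_iff_comp
    (hequiv : ∀ s : S, HopfRep.Comod.coact (k := k) (A := A) (algebraMap S R s) =
      Algebra.TensorProduct.map (IsScalarTower.toAlgHom k S R) (AlgHom.id k A)
        (HopfRep.Comod.coact (k := k) (A := A) s))
    (hS₀ : (IsScalarTower.toAlgHom k S₀ S).range = GLin.invariants k A S)
    (hR₀ : (IsScalarTower.toAlgHom k R₀ R).range = GLin.invariants k A R)
    (hcart : Function.Bijective (Algebra.TensorProduct.productMap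
      (IsScalarTower.toAlgHom S₀ S R) (IsScalarTower.toAlgHom S₀ R₀ R)))
    (x : R →ₐ[k] k) :
    GLin.IsClosedOrbit k A x ↔
      GLin.IsClosedOrbit k A (x.comp (IsScalarTower.toAlgHom k S R)) := by
  have hinvR : ∀ r : R₀, algebraMap R₀ R r ∈ GLin.invariants k A R := by
    intro r
    rw [← hR₀]
    exact ⟨r, rfl⟩
  have hinvS : ∀ s₀ : S₀, algebraMap S₀ S s₀ ∈ GLin.invariants k A S := by
    intro s₀
    rw [← hS₀]
    exact ⟨s₀, rfl⟩
  -- an invariant takes the same value on a point of the orbit closure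
  have hconstR : ∀ z : R →ₐ[k] k,
      (∀ f : R, (∀ g : A →ₐ[k] k, x (HopfRep.Comod.act k A R g f) = 0) → z f = 0) →
        ∀ f ∈ GLin.invariants k A R, z f = x f := by
    intro z hz f hf
    have h1 := hz (f - algebraMap k R (x f)) (fun g => by
      rw [act_of_mem_invariants g (sub_algebraMap_mem_invariants hf _), map_sub, AlgHom.commutes]
      simp)
    rw [map_sub, AlgHom.commutes, sub_eq_zero] at h1
    simpa using h1
  have hconstS : ∀ z' : S →ₐ[k] k,
      (∀ s : S, (∀ g : A →ₐ[k] k, (x.comp (IsScalarTower.toAlgHom k S R))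
        (HopfRep.Comod.act k A S g s) = 0) → z' s = 0) →
        ∀ s ∈ GLin.invariants k A S, z' s = x (algebraMap S R s) := by
    intro z' hz' s hs
    have h1 := hz' (s - algebraMap k S (x (algebraMap S R s))) (fun g => by
      rw [act_of_mem_invariants g (sub_algebraMap_mem_invariants hs _), map_sub, AlgHom.commutes,
        AlgHom.comp_apply, IsScalarTower.coe_toAlgHom']
      simp)
    rw [map_sub, AlgHom.commutes, sub_eq_zero] at h1
    simpa using h1
  rw [isClosedOrbit_iff, isClosedOrbit_iff]
  constructor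
  · intro hx z' hz'
    -- glue `z'` with `x` on invariants
    obtain ⟨z, hzS, hzR⟩ := exists_point_of_compat (k := k) hcart z'
      (x.toRingHom.comp (algebraMap R₀ R)) (fun s₀ => by
        rw [hconstS z' hz' _ (hinvS s₀)]
        change x (algebraMap S R (algebraMap S₀ S s₀)) = x (algebraMap R₀ R (algebraMap S₀ R₀ s₀))
        rw [← IsScalarTower.algebraMap_apply S₀ S R, ← IsScalarTower.algebraMap_apply S₀ R₀ R])
    have hz : ∀ f : R, (∀ g : A →ₐ[k] k, x (HopfRep.Comod.act k A R g f) = 0) → z f = 0 := by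
      intro f hf
      obtain ⟨T, rfl⟩ := exists_rep hcart f
      have h1 : ∀ g : A →ₐ[k] k, (x.comp (IsScalarTower.toAlgHom k S R))
          (HopfRep.Comod.act k A S g (∑ p ∈ T, x (algebraMap R₀ R p.2) • p.1)) = 0 := by
        intro g
        have h2 := hf g
        rw [← actPt_apply, map_sum] at h2
        rw [map_sum, map_sum, ← h2]
        apply Finset.sum_congr rfl
        intro p _
        rw [map_smul, map_smul, smul_eq_mul, map_mul, actPt_apply, actPt_apply,
          act_of_mem_invariants g (hinvR p.2), act_algebraMap hequiv, AlgHom.comp_apply,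
          IsScalarTower.coe_toAlgHom', mul_comm]
      have h3 := hz' _ h1
      rw [map_sum] at h3 ⊢
      rw [← h3]
      apply Finset.sum_congr rfl
      intro p _
      rw [map_mul, hzS, hzR, map_smul, smul_eq_mul, mul_comm]
      rfl
    obtain ⟨g, hg⟩ := hx z hz
    refine ⟨g, fun s => ?_⟩
    rw [← hzS, hg, act_algebraMap hequiv, AlgHom.comp_apply, IsScalarTower.coe_toAlgHom']
  · intro hy z hz
    have hz' : ∀ s : S, (∀ g : A →ₐ[k] k, (x.comp (IsScalarTower.toAlgHom k S R))
        (HopfRep.Comod.act k A S g s) = 0) →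
        (z.comp (IsScalarTower.toAlgHom k S R)) s = 0 := by
      intro s hs
      rw [AlgHom.comp_apply, IsScalarTower.coe_toAlgHom']
      apply hz
      intro g
      rw [act_algebraMap hequiv]
      exact hs g
    obtain ⟨g, hg⟩ := hy _ hz'
    refine ⟨g, ?_⟩
    have key : z.toRingHom = (GLin.actPt k g x).toRingHom := by
      apply ringHom_ext_of_cart hcart
      · intro s
        have h1 := hg s
        rw [AlgHom.comp_apply, IsScalarTower.coe_toAlgHom', AlgHom.comp_apply,
          IsScalarTower.coe_toAlgHom', ← act_algebraMap hequiv, ← actPt_apply] at h1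
        exact h1
      · intro r
        change z (algebraMap R₀ R r) = GLin.actPt k g x (algebraMap R₀ R r)
        rw [actPt_apply, act_of_mem_invariants g (hinvR r), hconstR z hz _ (hinvR r)]
    intro f
    rw [← actPt_apply]
    exact RingHom.congr_fun key f

end Main

end Groth.Agent.H40.StronglyEtale
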