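import Mathlib
import Groth.Agent.H40.StronglyEtale
import Groth.Agent.Lib.Helper59.LinRedAlg

/-! # Strongly étale maps restrict to closed invariant subschemes (helper40) -/

set_option autoImplicit false
set_option linter.unusedSectionVars false
universe u
open TensorProduct

namespace Groth.Agent.H40.StronglyEtaleRestrict

open Groth.Agent.H40.StronglyEtale

section Factor

/-- Factor a ring map through an injective ring map containing its image. -/
theorem exists_ringHom_factor {X Y Z : Type*} [CommRing X] [CommRing Y] [CommRing Z]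
    (f : X →+* Z) (g : Y →+* Z) (hg : Function.Injective g) (h : ∀ x, ∃ y, g y = f x) :
    ∃ φ : X →+* Y, ∀ x, g (φ x) = f x := by
  choose φ hφ using h
  refine ⟨{ toFun := φ, map_one' := ?_, map_mul' := ?_, map_zero' := ?_, map_add' := ?_ }, hφ⟩
  · apply hg; rw [hφ, map_one, map_one]
  · intro a b; apply hg; rw [hφ, map_mul, map_mul, hφ, hφ]
  · apply hg; rw [hφ, map_zero, map_zero]
  · intro a b; apply hg; rw [hφ, map_add, map_add, hφ, hφ]

end Factor

section Abstract

variable {S₀ S R R₀ : Type u} [CommRing S₀] [CommRing S] [CommRing R] [CommRing R₀]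
  [Algebra S₀ S] [Algebra S R] [Algebra R₀ R] [Algebra S₀ R₀] [Algebra S₀ R]
  [IsScalarTower S₀ S R] [IsScalarTower S₀ R₀ R]
  (J : Ideal S)
  {S₁ R₁ : Type u} [CommRing S₁] [CommRing R₁]
  [Algebra S₁ (S ⧸ J)] [Algebra R₁ (R ⧸ J.map (algebraMap S R))] [Algebra S₁ R₁]
  [Algebra S₁ (R ⧸ J.map (algebraMap S R))]
  [IsScalarTower S₁ (S ⧸ J) (R ⧸ J.map (algebraMap S R))]
  [IsScalarTower S₁ R₁ (R ⧸ J.map (algebraMap S R))]

/-- The étale part. -/
theorem etale_of_restrict [Algebra.Etale S₀ R₀]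
    (hS₁i : Function.Injective (algebraMap S₁ (S ⧸ J)))
    (hR₁i : Function.Injective (algebraMap R₁ (R ⧸ J.map (algebraMap S R))))
    (hS₁r : ∀ s₁ : S₁, ∃ s₀ : S₀, algebraMap S₁ (S ⧸ J) s₁ = Ideal.Quotient.mk J (algebraMap S₀ S s₀))
    (hS₀m : ∀ s₀ : S₀, ∃ s₁ : S₁, algebraMap S₁ (S ⧸ J) s₁ = Ideal.Quotient.mk J (algebraMap S₀ S s₀))
    (hR₁r : ∀ r₁ : R₁, ∃ r₀ : R₀, algebraMap R₁ (R ⧸ J.map (algebraMap S R)) r₁ =
      Ideal.Quotient.mk _ (algebraMap R₀ R r₀))
    (hR₀m : ∀ r₀ : R₀, ∃ r₁ : R₁, algebraMap R₁ (R ⧸ J.map (algebraMap S R)) r₁ =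
      Ideal.Quotient.mk _ (algebraMap R₀ R r₀))
    (hker : ∀ r₀ : R₀, algebraMap R₀ R r₀ ∈ J.map (algebraMap S R) →
      r₀ ∈ (J.comap (algebraMap S₀ S)).map (algebraMap S₀ R₀)) :
    Algebra.Etale S₁ R₁ := by
  obtain ⟨α, hα⟩ := exists_ringHom_factor ((Ideal.Quotient.mk J).comp (algebraMap S₀ S))
    (algebraMap S₁ (S ⧸ J)) hS₁i hS₀m
  obtain ⟨β, hβ⟩ := exists_ringHom_factor
    ((Ideal.Quotient.mk (J.map (algebraMap S R))).comp (algebraMap R₀ R))
    (algebraMap R₁ (R ⧸ J.map (algebraMap S R))) hR₁i hR₀m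
  simp only [RingHom.comp_apply] at hα hβ
  have hαs : Function.Surjective α := by
    intro s₁
    obtain ⟨s₀, hs₀⟩ := hS₁r s₁
    exact ⟨s₀, hS₁i (by rw [hα, hs₀])⟩
  have hβs : Function.Surjective β := by
    intro r₁
    obtain ⟨r₀, hr₀⟩ := hR₁r r₁
    exact ⟨r₀, hR₁i (by rw [hβ, hr₀])⟩
  have hcomp : ∀ s₀ : S₀, β (algebraMap S₀ R₀ s₀) = algebraMap S₁ R₁ (α s₀) := by
    intro s₀
    apply hR₁i
    rw [hβ, ← IsScalarTower.algebraMap_apply S₁ R₁ (R ⧸ J.map (algebraMap S R)),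
      IsScalarTower.algebraMap_apply S₁ (S ⧸ J) (R ⧸ J.map (algebraMap S R)), hα,
      ← IsScalarTower.algebraMap_apply S₀ R₀ R, IsScalarTower.algebraMap_apply S₀ S R]
    rfl
  let _ : Algebra S₀ S₁ := α.toAlgebra
  let _ : Algebra S₀ R₁ := ((algebraMap S₁ R₁).comp α).toAlgebra
  have _ : IsScalarTower S₀ S₁ R₁ := IsScalarTower.of_algebraMap_eq (fun _ => rfl)
  let β' : R₀ →ₐ[S₀] R₁ := { β with commutes' := fun s₀ => hcomp s₀ }
  let Φ : S₁ ⊗[S₀] R₀ →ₐ[S₁] R₁ :=
    Algebra.TensorProduct.productLeftAlgHom (Algebra.ofId S₁ R₁) β'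
  have hΦ1 : ∀ r₀ : R₀, Φ ((1 : S₁) ⊗ₜ[S₀] r₀) = β r₀ := by
    intro r₀
    simp [Φ, β']
  have hone : ∀ t : S₁ ⊗[S₀] R₀, ∃ r₀ : R₀, t = (1 : S₁) ⊗ₜ[S₀] r₀ := by
    intro t
    induction t using TensorProduct.induction_on with
    | zero => exact ⟨0, by simp⟩
    | tmul s₁ r =>
      obtain ⟨s₀, rfl⟩ := hαs s₁
      refine ⟨s₀ • r, ?_⟩
      rw [← TensorProduct.smul_tmul, Algebra.smul_def, mul_one]
      rfl
    | add a b ha hb =>
      obtain ⟨ra, rfl⟩ := ha
      obtain ⟨rb, rfl⟩ := hb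
      exact ⟨ra + rb, by rw [TensorProduct.tmul_add]⟩
  have hbij : Function.Bijective Φ := by
    constructor
    · rw [injective_iff_map_eq_zero]
      intro t ht
      obtain ⟨r₀, rfl⟩ := hone t
      rw [hΦ1] at ht
      have h1 : algebraMap R₀ R r₀ ∈ J.map (algebraMap S R) := by
        rw [← Ideal.Quotient.eq_zero_iff_mem, ← hβ, ht, map_zero]
      have h2 := hker r₀ h1
      have hle : (J.comap (algebraMap S₀ S)).map (algebraMap S₀ R₀) ≤
          RingHom.ker (Algebra.TensorProduct.includeRight (R := S₀) (A := S₁) (B := R₀)) := by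
        rw [Ideal.map_le_iff_le_comap]
        intro c hc
        rw [Ideal.mem_comap, RingHom.mem_ker, Algebra.TensorProduct.includeRight_apply,
          Algebra.algebraMap_eq_smul_one, ← TensorProduct.smul_tmul, Algebra.smul_def, mul_one]
        have : algebraMap S₀ S₁ c = 0 := by
          apply hS₁i
          change algebraMap S₁ (S ⧸ J) (α c) = _
          rw [hα, map_zero]
          exact Ideal.Quotient.eq_zero_iff_mem.mpr hc
        rw [this, TensorProduct.zero_tmul]
      exact hle h2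
    · intro r₁
      obtain ⟨r₀, rfl⟩ := hβs r₁
      exact ⟨1 ⊗ₜ r₀, hΦ1 r₀⟩
  exact Algebra.Etale.of_equiv (AlgEquiv.ofBijective Φ hbij)

/-- The cartesian part. -/
theorem bijective_of_restrict
    (hcart : Function.Bijective (Algebra.TensorProduct.productMap
      (IsScalarTower.toAlgHom S₀ S R) (IsScalarTower.toAlgHom S₀ R₀ R)))
    (hS₁i : Function.Injective (algebraMap S₁ (S ⧸ J)))
    (hR₁i : Function.Injective (algebraMap R₁ (R ⧸ J.map (algebraMap S R))))
    (hS₀m : ∀ s₀ : S₀, ∃ s₁ : S₁, algebraMap S₁ (S ⧸ J) s₁ = Ideal.Quotient.mk J (algebraMap S₀ S s₀))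
    (hR₁r : ∀ r₁ : R₁, ∃ r₀ : R₀, algebraMap R₁ (R ⧸ J.map (algebraMap S R)) r₁ =
      Ideal.Quotient.mk _ (algebraMap R₀ R r₀))
    (hR₀m : ∀ r₀ : R₀, ∃ r₁ : R₁, algebraMap R₁ (R ⧸ J.map (algebraMap S R)) r₁ =
      Ideal.Quotient.mk _ (algebraMap R₀ R r₀)) :
    Function.Bijective (Algebra.TensorProduct.productMap
      (IsScalarTower.toAlgHom S₁ (S ⧸ J) (R ⧸ J.map (algebraMap S R)))
      (IsScalarTower.toAlgHom S₁ R₁ (R ⧸ J.map (algebraMap S R)))) := by
  obtain ⟨α, hα⟩ := exists_ringHom_factor ((Ideal.Quotient.mk J).comp (algebraMap S₀ S))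
    (algebraMap S₁ (S ⧸ J)) hS₁i hS₀m
  obtain ⟨β, hβ⟩ := exists_ringHom_factor
    ((Ideal.Quotient.mk (J.map (algebraMap S R))).comp (algebraMap R₀ R))
    (algebraMap R₁ (R ⧸ J.map (algebraMap S R))) hR₁i hR₀m
  simp only [RingHom.comp_apply] at hα hβ
  have hβs : Function.Surjective β := by
    intro r₁
    obtain ⟨r₀, hr₀⟩ := hR₁r r₁
    exact ⟨r₀, hR₁i (by rw [hβ, hr₀])⟩
  have hcomp : ∀ s₀ : S₀, β (algebraMap S₀ R₀ s₀) = algebraMap S₁ R₁ (α s₀) := by
    intro s₀
    apply hR₁i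
    rw [hβ, ← IsScalarTower.algebraMap_apply S₁ R₁ (R ⧸ J.map (algebraMap S R)),
      IsScalarTower.algebraMap_apply S₁ (S ⧸ J) (R ⧸ J.map (algebraMap S R)), hα,
      ← IsScalarTower.algebraMap_apply S₀ R₀ R, IsScalarTower.algebraMap_apply S₀ S R]
    rfl
  set Ψ := Algebra.TensorProduct.productMap
      (IsScalarTower.toAlgHom S₁ (S ⧸ J) (R ⧸ J.map (algebraMap S R)))
      (IsScalarTower.toAlgHom S₁ R₁ (R ⧸ J.map (algebraMap S R))) with hΨ
  set P := Algebra.TensorProduct.productMap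
      (IsScalarTower.toAlgHom S₀ S R) (IsScalarTower.toAlgHom S₀ R₀ R) with hP
  -- the natural map `S ⊗ R₀ → S̄ ⊗ R₁`
  let T := (S ⧸ J) ⊗[S₁] R₁
  let _ : Algebra S₀ T := ((algebraMap S₁ T).comp α).toAlgebra
  let f₁ : S →ₐ[S₀] T :=
    { (Algebra.TensorProduct.includeLeftRingHom.comp (Ideal.Quotient.mk J) : S →+* T) with
      commutes' := fun s₀ => by
        change ((Ideal.Quotient.mk J) (algebraMap S₀ S s₀)) ⊗ₜ[S₁] (1 : R₁) = algebraMap S₁ T (α s₀)
        rw [← hα, Algebra.TensorProduct.algebraMap_apply] }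
  let f₂ : R₀ →ₐ[S₀] T :=
    { ((Algebra.TensorProduct.includeRight (R := S₁) (A := S ⧸ J) (B := R₁)).toRingHom.comp β :
        R₀ →+* T) with
      commutes' := fun s₀ => by
        change (1 : S ⧸ J) ⊗ₜ[S₁] β (algebraMap S₀ R₀ s₀) = algebraMap S₁ T (α s₀)
        rw [hcomp, Algebra.TensorProduct.algebraMap_apply, Algebra.algebraMap_eq_smul_one (α s₀),
          Algebra.algebraMap_eq_smul_one (A := S ⧸ J) (α s₀), TensorProduct.smul_tmul] }
  let N : S ⊗[S₀] R₀ →ₐ[S₀] T := Algebra.TensorProduct.productMap f₁ f₂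
  have hN : ∀ s r, N (s ⊗ₜ[S₀] r) = (Ideal.Quotient.mk J s) ⊗ₜ[S₁] β r := by
    intro s r
    change (Ideal.Quotient.mk J s ⊗ₜ[S₁] (1 : R₁)) * ((1 : S ⧸ J) ⊗ₜ[S₁] β r) = _
    rw [Algebra.TensorProduct.tmul_mul_tmul, mul_one, one_mul]
  have hNs : Function.Surjective N := by
    intro t
    induction t using TensorProduct.induction_on with
    | zero => exact ⟨0, map_zero _⟩
    | tmul a b =>
      obtain ⟨s, rfl⟩ := Ideal.Quotient.mk_surjective a
      obtain ⟨r, rfl⟩ := hβs b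
      exact ⟨s ⊗ₜ r, hN s r⟩
    | add a b ha hb =>
      obtain ⟨ta, rfl⟩ := ha
      obtain ⟨tb, rfl⟩ := hb
      exact ⟨ta + tb, map_add _ _ _⟩
  have hΨN : ∀ t, Ψ (N t) = Ideal.Quotient.mk (J.map (algebraMap S R)) (P t) := by
    intro t
    induction t using TensorProduct.induction_on with
    | zero => simp
    | tmul s r =>
      rw [hN, hΨ, hP, Algebra.TensorProduct.productMap_apply_tmul,
        Algebra.TensorProduct.productMap_apply_tmul, map_mul, IsScalarTower.coe_toAlgHom',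
        IsScalarTower.coe_toAlgHom', IsScalarTower.coe_toAlgHom', IsScalarTower.coe_toAlgHom', hβ]
      rfl
    | add a b ha hb => simp only [map_add, ha, hb]
  constructor
  · rw [injective_iff_map_eq_zero]
    intro t ht
    obtain ⟨t', rfl⟩ := hNs t
    rw [hΨN, Ideal.Quotient.eq_zero_iff_mem] at ht
    -- `t'` lies in the extension of `J`
    have hmap : J.map (algebraMap S R) =
        (J.map (Algebra.TensorProduct.includeLeftRingHom : S →+* S ⊗[S₀] R₀)).map P.toRingHom := by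
      rw [Ideal.map_map]
      congr 1
      ext s
      simp [hP]
    rw [hmap, Ideal.mem_map_iff_of_surjective P.toRingHom hcart.2] at ht
    obtain ⟨t'', ht'', heq⟩ := ht
    have : t'' = t' := hcart.1 heq
    subst this
    have hle : J.map (Algebra.TensorProduct.includeLeftRingHom : S →+* S ⊗[S₀] R₀) ≤
        RingHom.ker N.toRingHom := by
      rw [Ideal.map_le_iff_le_comap]
      intro s hs
      rw [Ideal.mem_comap, RingHom.mem_ker]
      change N (s ⊗ₜ[S₀] (1 : R₀)) = 0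
      rw [hN, Ideal.Quotient.eq_zero_iff_mem.mpr hs, TensorProduct.zero_tmul]
    exact hle ht''
  · intro y
    obtain ⟨f, rfl⟩ := Ideal.Quotient.mk_surjective y
    obtain ⟨t, rfl⟩ := hcart.2 f
    exact ⟨N t, hΨN t⟩

end Abstract

section Coact

open Groth.Agent.Lib.Helper59.LinRed

variable {k : Type u} [Field k]
    {A : Type u} [CommRing A] [HopfAlgebra k A]
    {S : Type u} [CommRing S] [Algebra k S] [HopfRep.Comod k A S] [GLin.IsCoactAlg k A S]
    {R : Type u} [CommRing R] [Algebra k R] [HopfRep.Comod k A R] [GLin.IsCoactAlg k A R]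

/-- An equivariant algebra map is a comodule map. -/
theorem isComodHom_of_equiv (φ : S →ₐ[k] R)
    (hφ : ∀ s : S, HopfRep.Comod.coact (k := k) (A := A) (φ s) =
      Algebra.TensorProduct.map φ (AlgHom.id k A) (HopfRep.Comod.coact (k := k) (A := A) s)) :
    Hoch.IsComodHom A φ.toLinearMap := by
  apply LinearMap.ext
  intro s
  simp only [LinearMap.comp_apply, AlgHom.toLinearMap_apply]
  rw [hφ]
  generalize HopfRep.Comod.coact (k := k) (A := A) s = t
  induction t using TensorProduct.induction_on with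
  | zero => simp
  | tmul a b => simp
  | add a b ha hb => simp only [map_add, ha, hb]

theorem map_mem_invariants (φ : S →ₐ[k] R)
    (hφ : ∀ s : S, HopfRep.Comod.coact (k := k) (A := A) (φ s) =
      Algebra.TensorProduct.map φ (AlgHom.id k A) (HopfRep.Comod.coact (k := k) (A := A) s))
    {s : S} (hs : s ∈ GLin.invariants k A S) : φ s ∈ GLin.invariants k A R :=
  map_mem_fixedPts φ.toLinearMap (isComodHom_of_equiv φ hφ)
    (show s ∈ HopfRep.fixedPts k A S from hs)

theorem exists_invariant_preimage (hG : HopfRep.IsLinearlyReductive k A) (φ : S →ₐ[k] R)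
    (hφ : ∀ s : S, HopfRep.Comod.coact (k := k) (A := A) (φ s) =
      Algebra.TensorProduct.map φ (AlgHom.id k A) (HopfRep.Comod.coact (k := k) (A := A) s))
    (hsurj : Function.Surjective φ) {r : R} (hr : r ∈ GLin.invariants k A R) :
    ∃ s ∈ GLin.invariants k A S, φ s = r := by
  obtain ⟨s, hs, h⟩ := exists_fixed_preimage hG φ.toLinearMap (isComodHom_of_equiv φ hφ) hsurj
    (show r ∈ HopfRep.fixedPts k A R from hr)
  exact ⟨s, hs, h⟩

end Coact

section Ker

open Groth.Agent.Lib.Helper59.LinRed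

variable {k : Type u} [Field k]
    {A : Type u} [CommRing A] [HopfAlgebra k A]
    {S : Type u} [CommRing S] [Algebra k S] [HopfRep.Comod k A S] [GLin.IsCoactAlg k A S]
    {R : Type u} [CommRing R] [Algebra k R] [HopfRep.Comod k A R] [GLin.IsCoactAlg k A R]
    [Algebra S R] [IsScalarTower k S R]
    {S₀ : Type u} [CommRing S₀] [Algebra k S₀] [Algebra S₀ S] [IsScalarTower k S₀ S]
    {R₀ : Type u} [CommRing R₀] [Algebra k R₀] [Algebra R₀ R] [IsScalarTower k R₀ R]
    [Algebra S₀ R₀] [Algebra S₀ R] [IsScalarTower S₀ S R] [IsScalarTower S₀ R₀ R]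

/-- Invariants of `R` lying in `J R` come from `(J ∩ S₀) R₀`. -/
theorem mem_map_comap_of_mem_map (hG : HopfRep.IsLinearlyReductive k A)
    (hequiv : ∀ s : S, HopfRep.Comod.coact (k := k) (A := A) (algebraMap S R s) =
      Algebra.TensorProduct.map (IsScalarTower.toAlgHom k S R) (AlgHom.id k A)
        (HopfRep.Comod.coact (k := k) (A := A) s))
    (hS₀ : (IsScalarTower.toAlgHom k S₀ S).range = GLin.invariants k A S)
    (hR₀i : Function.Injective (algebraMap R₀ R))
    (hR₀ : (IsScalarTower.toAlgHom k R₀ R).range = GLin.invariants k A R)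
    (hcart : Function.Bijective (Algebra.TensorProduct.productMap
      (IsScalarTower.toAlgHom S₀ S R) (IsScalarTower.toAlgHom S₀ R₀ R)))
    (J : Ideal S) (hJ : HopfRep.IsSubcomod (k := k) (A := A) (J.restrictScalars k))
    (r₀ : R₀) (h : algebraMap R₀ R r₀ ∈ J.map (algebraMap S R)) :
    r₀ ∈ (J.comap (algebraMap S₀ S)).map (algebraMap S₀ R₀) := by
  obtain ⟨ES, hES⟩ := exists_isReynolds (V := S) hG
  obtain ⟨ER, hER⟩ := exists_isReynolds (V := R) hG
  have hmulR := GLin.IsCoactAlg.coact_mul (k := k) (A := A) (R := R)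
  have hinvR : ∀ r : R₀, algebraMap R₀ R r ∈ HopfRep.fixedPts k A R := by
    intro r
    have : algebraMap R₀ R r ∈ GLin.invariants k A R := by
      rw [← hR₀]
      exact ⟨r, rfl⟩
    exact this
  set K : Ideal R₀ := (J.comap (algebraMap S₀ S)).map (algebraMap S₀ R₀) with hK
  let M : Submodule R₀ R := Submodule.map (Algebra.linearMap R₀ R) K
  have key1 : ∀ a ∈ J, ∀ r : R₀, ER (algebraMap S R a * algebraMap R₀ R r) ∈ M := by
    intro a ha r
    rw [hER.map_mul_of_mem hG hmulR _ (hinvR r)]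
    have h1 : ER (algebraMap S R a) = algebraMap S R (ES a) := by
      have := hES.natural hG hER (IsScalarTower.toAlgHom k S R).toLinearMap
        (isComodHom_of_equiv (IsScalarTower.toAlgHom k S R) hequiv) a
      simpa using this.symm
    have h2 : ES a ∈ J :=
      hES.apply_mem_of_isSubcomod hG (J.restrictScalars k) hJ (x := a) ha
    have h3 : ES a ∈ GLin.invariants k A S := hES.apply_mem a
    rw [← hS₀] at h3
    obtain ⟨c, hc⟩ := h3
    have hc' : algebraMap S₀ S c = ES a := hc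
    rw [h1, ← hc', ← IsScalarTower.algebraMap_apply S₀ S R, IsScalarTower.algebraMap_apply S₀ R₀ R,
      ← map_mul]
    refine ⟨algebraMap S₀ R₀ c * r, ?_, rfl⟩
    apply Ideal.mul_mem_right
    apply Ideal.mem_map_of_mem
    rw [Ideal.mem_comap, hc']
    exact h2
  set P := Algebra.TensorProduct.productMap
      (IsScalarTower.toAlgHom S₀ S R) (IsScalarTower.toAlgHom S₀ R₀ R) with hP
  have key2 : ∀ u : (J.restrictScalars S₀) ⊗[S₀] R₀,
      ER (P (LinearMap.rTensor R₀ (Submodule.subtype (J.restrictScalars S₀)) u)) ∈ M := by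
    intro u
    induction u using TensorProduct.induction_on with
    | zero => simp
    | tmul a r =>
      rw [LinearMap.rTensor_tmul, hP, Algebra.TensorProduct.productMap_apply_tmul]
      exact key1 a.1 a.2 r
    | add x y hx hy =>
      rw [map_add, map_add, map_add]
      exact M.add_mem hx hy
  have hmap : J.map (algebraMap S R) =
      (J.map (Algebra.TensorProduct.includeLeft : S →ₐ[S₀] S ⊗[S₀] R₀)).map P := by
    unfold Ideal.map
    rw [← Ideal.map.eq_1 P, Ideal.map_span, Set.image_image]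
    congr 2
    ext s
    simp [hP]
  rw [hmap, Ideal.mem_map_iff_of_surjective P hcart.2] at h
  obtain ⟨t, ht, heq⟩ := h
  have ht' : t ∈ (J.map (Algebra.TensorProduct.includeLeft : S →ₐ[S₀] S ⊗[S₀] R₀)).restrictScalars S₀ :=
    ht
  rw [Ideal.map_includeLeft_eq] at ht'
  obtain ⟨u, rfl⟩ := ht'
  have h4 := key2 u
  rw [heq, hER.apply_of_mem (hinvR r₀)] at h4
  obtain ⟨m, hm, hm'⟩ := h4
  have : m = r₀ := hR₀i hm'
  rw [← this]
  exact hm

end Ker

end Groth.Agent.H40.StronglyEtaleRestrict
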