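import Groth.Agent.H40.SchurGen
import Groth.Prelude.Def_ComodTens

/-! Helper lemmas (helper40): semisimplicity of (twisted) tensor powers of a comodule on `k^n` with
"generic enough" matrix coefficients, and cosemisimplicity of the bialgebra they span. -/

set_option autoImplicit false
universe u v

open TensorProduct

namespace Groth.Agent.H40

section TPowSS

variable (n : ℕ) (k : Type u) [Field k]

/-- The basis of pure tensors of standard basis vectors of the tensor power of `k^n`. -/
noncomputable def tpBasis (a : ℕ) :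
    Module.Basis (Fin a → Fin n) k (TensorPower k a (Fin n → k)) :=
  Basis.piTensorProduct (fun _ : Fin a => Pi.basisFun k (Fin n))

theorem tpBasis_apply (a : ℕ) (J : Fin a → Fin n) :
    tpBasis n k a J = PiTensorProduct.tprod k (fun t => Pi.basisFun k (Fin n) (J t)) :=
  Basis.piTensorProduct_apply _ _

variable {n k}
variable {A : Type v} [CommRing A] [Bialgebra k A] (c : HopfRep.Comod k A (Fin n → k))
  (x : Fin n → Fin n → A)
  (hx : ∀ j, c.coact (Pi.basisFun k (Fin n) j) = ∑ i, Pi.basisFun k (Fin n) i ⊗ₜ[k] x i j)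

include hx in
theorem tpow_coact_tpBasis (a : ℕ) (J : Fin a → Fin n) :
    (ComodTens.Comod.tpow c a).coact (tpBasis n k a J) =
      ∑ I, tpBasis n k a I ⊗ₜ[k] xxPow x a I J := by
  simp only [tpBasis_apply]
  exact tpow_coact_tprod c _ x hx a J

include hx in
theorem twist_tpow_coact_tpBasis (g : A) (hg : IsGroupLikeElem k g) (a : ℕ) (J : Fin a → Fin n) :
    (ComodTens.Comod.twist (ComodTens.Comod.tpow c a) g hg).coact (tpBasis n k a J) =
      ∑ I, tpBasis n k a I ⊗ₜ[k] (xxPow x a I J * g) :=
  ComodTens.twist_coact_of_sum _ g hg Finset.univ _ _ _ (tpow_coact_tpBasis c x hx a J)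

include hx in
/-- Semisimplicity of a twisted tensor power, given the separation property of its coefficients. -/
theorem isSemisimpleComod_twist_tpow [CharZero k] (g : A) (hg : IsGroupLikeElem k g) (a : ℕ)
    (hsep : ∀ E : (Fin a → Fin n) → (Fin a → Fin n) → k,
      (∀ σ I J, E (permAct a (Fin n) σ I) (permAct a (Fin n) σ J) = E I J) →
      ∃ φ : A →ₗ[k] k, ∀ I J, φ (xxPow x a I J * g) = E I J) :
    @HopfRep.IsSemisimpleComod k A _ _ _ _ (TensorPower k a (Fin n → k)) _ _
      (ComodTens.Comod.twist (ComodTens.Comod.tpow c a) g hg) := by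
  let _ := ComodTens.Comod.twist (ComodTens.Comod.tpow c a) g hg
  refine isSemisimpleComod_of_schur (tpBasis n k a) (fun I J => xxPow x a I J * g)
    (twist_tpow_coact_tpBasis c x hx g hg a) (S := Equiv.Perm (Fin a)) ?_ (permAct a (Fin n)) ?_ hsep
  · exact Nat.cast_ne_zero.2 Nat.card_pos.ne'
  · intro σ I J
    rw [xxPow_permAct]

theorem xxPow_snoc_snoc (a : ℕ) (I J : Fin a → Fin n) (i j : Fin n) :
    xxPow x (a + 1) (Fin.snoc I i) (Fin.snoc J j) = xxPow x a I J * x i j := by
  rw [xxPow_snoc]
  simp

include hx in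
/-- If the elements `(∏ x_{i_t j_t}) g^m` span `A` and satisfy the separation property then the
regular comodule of `A` is the sum of its simple subcomodules. -/
theorem iSup_simpleSub_eq_top_of_tpow [CharZero k] (g : A) (hg : IsGroupLikeElem k g)
    (hspan : ∀ B : Subalgebra k A, (∀ i j, x i j ∈ B) → g ∈ B → B = ⊤)
    (hsep : ∀ (a m : ℕ) (E : (Fin a → Fin n) → (Fin a → Fin n) → k),
      (∀ σ I J, E (permAct a (Fin n) σ I) (permAct a (Fin n) σ J) = E I J) →
      ∃ φ : A →ₗ[k] k, ∀ I J, φ (xxPow x a I J * g ^ m) = E I J) :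
    (⨆ S : {S : Submodule k A // IsSimpleSub (C := A) (V := A) S}, S.1) = ⊤ := by
  classical
  set Sg : Submodule k A := ⨆ S : {S : Submodule k A // IsSimpleSub (C := A) (V := A) S}, S.1
    with hSg
  -- each generator lies in the sum of simples
  have hgen : ∀ (a m : ℕ) (I J : Fin a → Fin n), xxPow x a I J * g ^ m ∈ Sg := by
    intro a m I J
    have hgm : IsGroupLikeElem k (g ^ m) := hg.pow
    let cT := ComodTens.Comod.twist (ComodTens.Comod.tpow c a) (g ^ m) hgm
    have hss := isSemisimpleComod_twist_tpow c x hx (g ^ m) hgm a (hsep a m)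
    have hcoact := twist_tpow_coact_tpBasis c x hx (g ^ m) hgm a
    have hle := range_le_iSup_simpleSub (C := A)
      (coeffMap (C := A) ((tpBasis n k a).coord I)) (isComodHom_coeffMap _) hss
    apply hle
    refine ⟨tpBasis n k a J, ?_⟩
    exact coeffMap_coord_basis (tpBasis n k a) (fun I J => xxPow x a I J * g ^ m) hcoact I J
  -- the span of the generators
  let P : Submodule k A := Submodule.span k {y | ∃ (a m : ℕ) (I J : Fin a → Fin n),
    y = xxPow x a I J * g ^ m}
  have hPS : P ≤ Sg := by
    apply Submodule.span_le.2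
    rintro y ⟨a, m, I, J, rfl⟩
    exact hgen a m I J
  have hmulx : ∀ i j, ∀ p ∈ P, p * x i j ∈ P := by
    intro i j p hp
    induction hp using Submodule.span_induction with
    | mem y hy =>
      obtain ⟨a, m, I, J, rfl⟩ := hy
      apply Submodule.subset_span
      refine ⟨a + 1, m, Fin.snoc I i, Fin.snoc J j, ?_⟩
      rw [xxPow_snoc_snoc]
      ring
    | zero => rw [zero_mul]; exact Submodule.zero_mem _
    | add y z _ _ hy hz => rw [add_mul]; exact Submodule.add_mem _ hy hz
    | smul r y _ hy => rw [smul_mul_assoc]; exact Submodule.smul_mem _ _ hy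
  have hmulg : ∀ p ∈ P, p * g ∈ P := by
    intro p hp
    induction hp using Submodule.span_induction with
    | mem y hy =>
      obtain ⟨a, m, I, J, rfl⟩ := hy
      apply Submodule.subset_span
      refine ⟨a, m + 1, I, J, ?_⟩
      rw [pow_succ]
      ring
    | zero => rw [zero_mul]; exact Submodule.zero_mem _
    | add y z _ _ hy hz => rw [add_mul]; exact Submodule.add_mem _ hy hz
    | smul r y _ hy => rw [smul_mul_assoc]; exact Submodule.smul_mem _ _ hy
  let B : Subalgebra k A :=
    { carrier := {b | ∀ p ∈ P, p * b ∈ P}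
      mul_mem' := by
        intro b b' hb hb' p hp
        rw [← mul_assoc]
        exact hb' _ (hb p hp)
      add_mem' := by
        intro b b' hb hb' p hp
        rw [mul_add]
        exact Submodule.add_mem _ (hb p hp) (hb' p hp)
      algebraMap_mem' := by
        intro r p hp
        rw [mul_comm, ← Algebra.smul_def]
        exact Submodule.smul_mem _ _ hp }
  have hB : B = ⊤ := hspan B (fun i j => hmulx i j) hmulg
  have h1 : (1 : A) ∈ P := by
    apply Submodule.subset_span
    refine ⟨0, 0, Fin.elim0, Fin.elim0, ?_⟩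
    simp [xxPow]
  rw [eq_top_iff]
  intro y _
  have hy : y ∈ B := by rw [hB]; exact Algebra.mem_top
  have := hy 1 h1
  rw [one_mul] at this
  exact hPS this

end TPowSS

end Groth.Agent.H40
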