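import Groth.Agent.H40.TraceIntegral
import Groth.Agent.H40.Coeff

/-! Helper lemmas (helper40): a finite-dimensional commutative Hopf algebra whose dimension is
invertible in the base field has nondegenerate trace form, hence is étale. -/

set_option autoImplicit false
universe u v

open TensorProduct

namespace Groth.Agent.H40

section Generic

variable {k : Type u} [Field k] {A : Type v} [CommRing A] [Algebra k A]

theorem lslice_one_tmul_mul (ψ : A →ₗ[k] k) (b : A) (z : A ⊗[k] A) :
    lslice ψ (((1 : A) ⊗ₜ[k] b) * z) = b * lslice ψ z := by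
  induction z using TensorProduct.induction_on with
  | zero => simp
  | tmul u v =>
    rw [Algebra.TensorProduct.tmul_mul_tmul, one_mul, lslice_tmul, lslice_tmul, mul_smul_comm]
  | add p q hp hq => rw [mul_add, map_add, hp, hq, map_add, mul_add]

theorem apply_slice (ψ φ : A →ₗ[k] k) (z : A ⊗[k] A) :
    ψ (slice φ z) = φ (lslice ψ z) := by
  induction z using TensorProduct.induction_on with
  | zero => simp
  | tmul u v => simp [mul_comm]
  | add p q hp hq => simp only [map_add, hp, hq]

theorem sum_basis_tmul_lslice [Module.Finite k A] (z : A ⊗[k] A) :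
    z = ∑ i, (Module.finBasis k A i) ⊗ₜ[k] lslice ((Module.finBasis k A).coord i) z := by
  induction z using TensorProduct.induction_on with
  | zero => simp
  | tmul u v =>
    simp only [lslice_tmul, Module.Basis.coord_apply]
    simp_rw [← TensorProduct.smul_tmul]
    rw [← TensorProduct.sum_tmul, (Module.finBasis k A).sum_repr]
  | add p q hp hq =>
    simp only [map_add, TensorProduct.tmul_add, Finset.sum_add_distrib]
    rw [← hp, ← hq]

end Generic

section TraceForm

variable {k : Type u} [Field k] {A : Type v} [CommRing A] [HopfAlgebra k A] [Module.Finite k A]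

/-- The radical of the trace form. -/
def InTraceRad (x : A) : Prop := ∀ b : A, Algebra.trace k A (x * b) = 0

theorem slice_trace_shear (z : A ⊗[k] A) :
    slice (Algebra.trace k A) (shear (k := k) z) = slice (Algebra.trace k A) z := by
  rw [← trace_eq_slice, ← trace_eq_slice]
  exact Algebra.trace_eq_of_algEquiv (shearEquiv (k := k) (A := A)) z

omit [Module.Finite k A] in
theorem shear_one_tmul (a : A) :
    shear (k := k) ((1 : A) ⊗ₜ[k] a) = Coalgebra.comul (R := k) a := by
  rw [shear_tmul]
  change (1 : A ⊗[k] A) * _ = _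
  rw [one_mul]

theorem slice_trace_mul_comul (a b : A) :
    slice (Algebra.trace k A) (((1 : A) ⊗ₜ[k] b) * Coalgebra.comul (R := k) a) =
      slice (Algebra.trace k A) (shearInv (k := k) ((1 : A) ⊗ₜ[k] b) * ((1 : A) ⊗ₜ[k] a)) := by
  rw [← slice_trace_shear (shearInv (k := k) ((1 : A) ⊗ₜ[k] b) * ((1 : A) ⊗ₜ[k] a)),
    map_mul (shear (k := k) (A := A)), shear_one_tmul]
  congr 2
  exact (AlgHom.congr_fun shear_comp_shearInv ((1 : A) ⊗ₜ[k] b)).symm

omit [Module.Finite k A] in
theorem slice_trace_mul_of_inTraceRad {x : A} (hx : InTraceRad (k := k) x) (w : A ⊗[k] A) :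
    slice (Algebra.trace k A) (w * ((1 : A) ⊗ₜ[k] x)) = 0 := by
  induction w using TensorProduct.induction_on with
  | zero => simp
  | tmul u v =>
    rw [Algebra.TensorProduct.tmul_mul_tmul, slice_tmul, mul_comm v x, hx v, zero_smul]
  | add p q hp hq => rw [add_mul, map_add, hp, hq, add_zero]

theorem slice_trace_mul_comul_eq_zero {x : A} (hx : InTraceRad (k := k) x) (b : A) :
    slice (Algebra.trace k A) (((1 : A) ⊗ₜ[k] b) * Coalgebra.comul (R := k) x) = 0 := by
  rw [slice_trace_mul_comul, slice_trace_mul_of_inTraceRad hx]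

theorem inTraceRad_lslice_comul {x : A} (hx : InTraceRad (k := k) x) (ψ : A →ₗ[k] k) :
    InTraceRad (k := k) (lslice ψ (Coalgebra.comul (R := k) x)) := by
  intro b
  rw [mul_comm, ← lslice_one_tmul_mul, ← apply_slice, slice_trace_mul_comul_eq_zero hx, map_zero]

theorem counit_eq_zero_of_inTraceRad (hn : (Module.finrank k A : k) ≠ 0) {x : A}
    (hx : InTraceRad (k := k) x) : Coalgebra.counit (R := k) x = 0 := by
  have h1 := HopfAlgebra.mul_antipode_rTensor_comul_apply (R := k) x
  rw [sum_basis_tmul_lslice (Coalgebra.comul (R := k) x)] at h1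
  simp only [map_sum, LinearMap.rTensor_tmul, LinearMap.mul'_apply] at h1
  have h2 := congrArg (Algebra.trace k A) h1
  rw [map_sum, Algebra.trace_algebraMap] at h2
  have h3 : ∀ i ∈ Finset.univ, Algebra.trace k A (HopfAlgebra.antipode k (Module.finBasis k A i) *
      lslice ((Module.finBasis k A).coord i) (Coalgebra.comul (R := k) x)) = 0 := by
    intro i _
    rw [mul_comm]
    exact inTraceRad_lslice_comul hx _ _
  rw [Finset.sum_eq_zero h3] at h2
  rw [nsmul_eq_mul] at h2
  exact (mul_eq_zero.1 h2.symm).resolve_left hn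

theorem eq_zero_of_inTraceRad (hn : (Module.finrank k A : k) ≠ 0) {x : A}
    (hx : InTraceRad (k := k) x) : x = 0 := by
  have h1 := Coalgebra.lTensor_counit_comul (R := k) x
  rw [sum_basis_tmul_lslice (Coalgebra.comul (R := k) x)] at h1
  simp only [map_sum, LinearMap.lTensor_tmul] at h1
  have h3 : ∀ i ∈ Finset.univ, (Module.finBasis k A i) ⊗ₜ[k] Coalgebra.counit (R := k)
      (lslice ((Module.finBasis k A).coord i) (Coalgebra.comul (R := k) x)) = 0 := by
    intro i _
    rw [counit_eq_zero_of_inTraceRad hn (inTraceRad_lslice_comul hx _), TensorProduct.tmul_zero]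
  rw [Finset.sum_eq_zero h3] at h1
  have h4 := congrArg (TensorProduct.rid k A) h1
  simpa using h4.symm

end TraceForm

section Etale

variable {k : Type u} [Field k] {A : Type u} [CommRing A] [HopfAlgebra k A] [Module.Finite k A]

theorem isReduced_of_finrank_ne_zero (hn : (Module.finrank k A : k) ≠ 0) : IsReduced A := by
  constructor
  intro x hx
  apply eq_zero_of_inTraceRad hn
  intro b
  have h1 : IsNilpotent (x * b) := (Commute.all x b).isNilpotent_mul_right hx
  exact (Algebra.isNilpotent_trace_of_isNilpotent (R := k) h1).eq_zero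

omit [HopfAlgebra k A] [Module.Finite k A] in
theorem isIdempotentElem_of_isSemisimpleRing [IsSemisimpleRing A] (I : Ideal A) :
    IsIdempotentElem I := by
  obtain ⟨I', hI'⟩ := exists_isCompl (I : Submodule A A)
  have h1 : (1 : A) ∈ (I : Submodule A A) ⊔ I' := by
    rw [hI'.sup_eq_top]
    exact Submodule.mem_top
  obtain ⟨e, he, e', he', hee⟩ := Submodule.mem_sup.1 h1
  apply le_antisymm Ideal.mul_le_right
  intro x hx
  have h2 : x * e' = 0 := by
    have h3 : x * e' ∈ (I : Submodule A A) ⊓ I' := by
      refine ⟨I.mul_mem_right _ hx, ?_⟩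
      have := I'.smul_mem x he'
      simpa using this
    rw [hI'.inf_eq_bot] at h3
    exact (Submodule.mem_bot A).1 h3
  have h4 : x = x * e := by
    calc x = x * (e + e') := by rw [hee, mul_one]
      _ = x * e := by rw [mul_add, h2, add_zero]
  rw [h4]
  exact Ideal.mul_mem_mul hx he

omit [Module.Finite k A] in
theorem lmul'_eq_comp_shear :
    (Algebra.TensorProduct.lmul' k : A ⊗[k] A →ₐ[k] A) =
      ((Algebra.TensorProduct.rid k k A).toAlgHom.comp
        (Algebra.TensorProduct.map (AlgHom.id k A) (Bialgebra.counitAlgHom k A))).comp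
        ((shear (k := k) (A := A)).restrictScalars k) := by
  apply Algebra.TensorProduct.ext'
  intro x y
  simp only [AlgHom.comp_apply, AlgHom.restrictScalars_apply, shear_tmul, map_mul,
    Algebra.TensorProduct.lmul'_apply_tmul]
  have h1 := Coalgebra.lTensor_counit_comul (R := k) y
  have h2 : Algebra.TensorProduct.map (AlgHom.id k A) (Bialgebra.counitAlgHom k A)
      (Coalgebra.comul (R := k) y) = y ⊗ₜ[k] (1 : k) := h1
  rw [h2]
  simp

theorem isIdempotentElem_kaehler_ideal
    (hI : IsIdempotentElem (RingHom.ker (Bialgebra.counitAlgHom k A))) :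
    IsIdempotentElem (KaehlerDifferential.ideal k A) := by
  let e : A ⊗[k] A ≃+* A ⊗[k] A := (shearEquiv (k := k) (A := A)).toRingEquiv
  let φ : A ⊗[k] A →ₐ[k] A ⊗[k] k :=
    Algebra.TensorProduct.map (AlgHom.id k A) (Bialgebra.counitAlgHom k A)
  have hφ : RingHom.ker φ = (RingHom.ker (Bialgebra.counitAlgHom k A)).map
      (Algebra.TensorProduct.includeRight : A →ₐ[k] A ⊗[k] A) :=
    Algebra.TensorProduct.lTensor_ker _ (fun r => ⟨algebraMap k A r, by simp⟩)
  have hK : IsIdempotentElem (RingHom.ker φ) := by
    unfold IsIdempotentElem at hI ⊢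
    rw [hφ, ← Ideal.map_mul, hI]
  have h1 : KaehlerDifferential.ideal k A = (RingHom.ker φ).comap e := by
    ext z
    rw [Ideal.mem_comap, RingHom.mem_ker, RingHom.mem_ker]
    have h2 := AlgHom.congr_fun (lmul'_eq_comp_shear (k := k) (A := A)) z
    simp only [AlgHom.comp_apply, AlgHom.restrictScalars_apply] at h2
    have h3 : e z = shear (k := k) z := rfl
    rw [h3]
    change Algebra.TensorProduct.lmul' k z = 0 ↔ φ (shear (k := k) z) = 0
    rw [h2]
    exact (Algebra.TensorProduct.rid k k A).map_eq_zero_iff
  rw [h1, ← Ideal.map_symm]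
  unfold IsIdempotentElem at hK ⊢
  rw [← Ideal.map_mul, hK]

/-- A finite-dimensional commutative Hopf algebra of dimension invertible in `k` is étale. -/
theorem etale_of_finrank_ne_zero (hn : (Module.finrank k A : k) ≠ 0) : Algebra.Etale k A := by
  have hred : IsReduced A := isReduced_of_finrank_ne_zero hn
  have hart : IsArtinianRing A := IsArtinianRing.of_finite k A
  have hss : IsSemisimpleRing A := IsArtinianRing.isSemisimpleRing_of_isReduced A
  have hI := isIdempotentElem_of_isSemisimpleRing (RingHom.ker (Bialgebra.counitAlgHom k A))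
  have hΩ : Subsingleton (Ω[A⁄k]) :=
    (Ideal.cotangent_subsingleton_iff _).2 (isIdempotentElem_kaehler_ideal hI)
  have hunr : Algebra.FormallyUnramified k A := ⟨hΩ⟩
  have hfe : Algebra.FormallyEtale k A := Algebra.FormallyEtale.of_formallyUnramified_of_field k A
  have hfp : Algebra.FinitePresentation k A :=
    Algebra.FinitePresentation.of_finiteType.1 inferInstance
  exact ⟨hfe, hfp⟩

end Etale

end Groth.Agent.H40
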