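import Groth.Agent.H40.HochH1
import Groth.Agent.H40.Integral

/-! Helper lemmas (helper40): the trace form of a finite-dimensional commutative Hopf algebra is an
integral; in characteristic zero this gives linear reductivity (Maschke for finite group schemes). -/

set_option autoImplicit false
universe u v

open TensorProduct

namespace Groth.Agent.H40

section TraceIntegral

variable {k : Type u} [Field k] {A : Type v} [CommRing A] [HopfAlgebra k A]

/-- `(u ⊗ (v ⊗ w)) ↦ (u v) ⊗ w`. -/
noncomputable def mulFst : A ⊗[k] (A ⊗[k] A) →ₗ[k] A ⊗[k] A :=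
  (LinearMap.mul' k A).rTensor A ∘ₗ (TensorProduct.assoc k A A A).symm.toLinearMap

@[simp] theorem mulFst_tmul (u v w : A) :
    mulFst (k := k) (u ⊗ₜ[k] (v ⊗ₜ[k] w)) = (u * v) ⊗ₜ[k] w := by
  simp [mulFst]

/-- The shear map `x ⊗ y ↦ (x ⊗ 1) Δ(y)` as an `A`-algebra endomorphism of `A ⊗ A`. -/
noncomputable def shear : A ⊗[k] A →ₐ[A] A ⊗[k] A :=
  Algebra.TensorProduct.lift (Algebra.TensorProduct.includeLeft (S := A))
    (Bialgebra.comulAlgHom k A) (fun _ _ => Commute.all _ _)

/-- The candidate inverse `x ⊗ y ↦ (x ⊗ 1) (S ⊗ id)(Δ y)`. -/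
noncomputable def shearInv : A ⊗[k] A →ₐ[A] A ⊗[k] A :=
  Algebra.TensorProduct.lift (Algebra.TensorProduct.includeLeft (S := A))
    ((Algebra.TensorProduct.map (HopfAlgebra.antipodeAlgHom k A) (AlgHom.id k A)).comp
      (Bialgebra.comulAlgHom k A)) (fun _ _ => Commute.all _ _)

theorem shear_tmul (x y : A) :
    shear (k := k) (x ⊗ₜ[k] y) = (x ⊗ₜ[k] (1 : A)) * Coalgebra.comul (R := k) y := by
  simp [shear]

theorem shear_eq_mulFst (s : A ⊗[k] A) :
    shear (k := k) s = mulFst (k := k) ((Coalgebra.comul (R := k) (A := A)).lTensor A s) := by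
  induction s using TensorProduct.induction_on with
  | zero => simp
  | tmul u v =>
    rw [shear_tmul, LinearMap.lTensor_tmul]
    generalize Coalgebra.comul (R := k) v = t
    induction t using TensorProduct.induction_on with
    | zero => simp
    | tmul p q => simp
    | add a b ha hb => simp only [mul_add, TensorProduct.tmul_add, map_add, ha, hb]
  | add a b ha hb => simp only [map_add, ha, hb]

theorem mulFst_map_assoc (w : (A ⊗[k] A) ⊗[k] A) :
    mulFst (k := k) (TensorProduct.map (HopfAlgebra.antipode k (A := A)) LinearMap.id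
      (TensorProduct.assoc k A A A w)) =
    (LinearMap.mul' k A ∘ₗ (HopfAlgebra.antipode k (A := A)).rTensor A).rTensor A w := by
  induction w using TensorProduct.induction_on with
  | zero => simp
  | tmul t r =>
    induction t using TensorProduct.induction_on with
    | zero => simp
    | tmul p q => simp
    | add a b ha hb => simp only [TensorProduct.add_tmul, map_add, ha, hb]
  | add a b ha hb => simp only [map_add, ha, hb]

theorem shear_shearInv_one_tmul (y : A) :
    shear (k := k) (shearInv (k := k) ((1 : A) ⊗ₜ[k] y)) = (1 : A) ⊗ₜ[k] y := by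
  have h1 : shearInv (k := k) ((1 : A) ⊗ₜ[k] y) =
      TensorProduct.map (HopfAlgebra.antipode k (A := A)) LinearMap.id
        (Coalgebra.comul (R := k) y) := by
    simp only [shearInv, Algebra.TensorProduct.lift_tmul, map_one, one_mul, AlgHom.comp_apply,
      Bialgebra.comulAlgHom_apply]
    generalize Coalgebra.comul (R := k) y = t
    induction t using TensorProduct.induction_on with
    | zero => simp
    | tmul p q => simp
    | add a b ha hb => simp only [map_add, ha, hb]
  rw [h1, shear_eq_mulFst]
  have h2 : (Coalgebra.comul (R := k) (A := A)).lTensor A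
      (TensorProduct.map (HopfAlgebra.antipode k (A := A)) LinearMap.id
        (Coalgebra.comul (R := k) y)) =
      TensorProduct.map (HopfAlgebra.antipode k (A := A)) LinearMap.id
        ((Coalgebra.comul (R := k) (A := A)).lTensor A (Coalgebra.comul (R := k) y)) := by
    generalize Coalgebra.comul (R := k) y = t
    induction t using TensorProduct.induction_on with
    | zero => simp
    | tmul p q => simp
    | add a b ha hb => simp only [map_add, ha, hb]
  rw [h2, ← Coalgebra.coassoc_apply, mulFst_map_assoc, ← LinearMap.comp_apply,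
    ← LinearMap.rTensor_comp]
  have h3 : (LinearMap.mul' k A ∘ₗ (HopfAlgebra.antipode k (A := A)).rTensor A) ∘ₗ
      Coalgebra.comul (R := k) (A := A) = Algebra.linearMap k A ∘ₗ Coalgebra.counit := by
    rw [LinearMap.comp_assoc]
    exact HopfAlgebra.mul_antipode_rTensor_comul
  rw [h3, LinearMap.rTensor_comp, LinearMap.comp_apply, Coalgebra.rTensor_counit_comul]
  simp

theorem shear_comp_shearInv : (shear (k := k) (A := A)).comp shearInv = AlgHom.id A _ := by
  apply Algebra.TensorProduct.ext
  · apply AlgHom.ext
    intro x
    simp [shear, shearInv]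
  · apply AlgHom.ext
    intro y
    simp only [AlgHom.comp_apply, AlgHom.coe_restrictScalars',
      Algebra.TensorProduct.includeRight_apply, AlgHom.coe_id, id_eq]
    exact shear_shearInv_one_tmul y

variable [Module.Finite k A]

theorem shear_bijective : Function.Bijective (shear (k := k) (A := A)) := by
  have hsurj : Function.Surjective (shear (k := k) (A := A)) := by
    intro t
    refine ⟨shearInv (k := k) t, ?_⟩
    have := congrArg (fun f : A ⊗[k] A →ₐ[A] A ⊗[k] A => f t) (shear_comp_shearInv (k := k) (A := A))
    simpa using this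
  refine ⟨?_, hsurj⟩
  exact OrzechProperty.injective_of_surjective_endomorphism
    (shear (k := k) (A := A)).toLinearMap hsurj

/-- The shear map as an `A`-algebra automorphism of `A ⊗ A`. -/
noncomputable def shearEquiv : A ⊗[k] A ≃ₐ[A] A ⊗[k] A :=
  AlgEquiv.ofBijective (shear (k := k) (A := A)) shear_bijective

theorem trace_comul (a : A) :
    Algebra.trace A (A ⊗[k] A) (Coalgebra.comul (R := k) a) =
      Algebra.trace A (A ⊗[k] A) ((1 : A) ⊗ₜ[k] a) := by
  have h := Algebra.trace_eq_of_algEquiv (shearEquiv (k := k) (A := A)) ((1 : A) ⊗ₜ[k] a)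
  have e : shearEquiv (k := k) (A := A) ((1 : A) ⊗ₜ[k] a) = Coalgebra.comul (R := k) a := by
    change shear (k := k) ((1 : A) ⊗ₜ[k] a) = _
    rw [shear_tmul]
    change (1 : A ⊗[k] A) * _ = _
    rw [one_mul]
  rw [e] at h
  exact h

theorem trace_one_tmul (a : A) :
    Algebra.trace A (A ⊗[k] A) ((1 : A) ⊗ₜ[k] a) = algebraMap k A (Algebra.trace k A a) := by
  rw [Algebra.trace_apply, Algebra.trace_apply, ← LinearMap.trace_baseChange]
  congr 1
  apply TensorProduct.AlgebraTensorModule.ext
  intro x y
  simp

theorem trace_eq_slice (t : A ⊗[k] A) :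
    Algebra.trace A (A ⊗[k] A) t = slice (Algebra.trace k A) t := by
  induction t using TensorProduct.induction_on with
  | zero => simp
  | tmul x y =>
    have e : x ⊗ₜ[k] y = x • ((1 : A) ⊗ₜ[k] y) := by
      rw [TensorProduct.smul_tmul', smul_eq_mul, mul_one]
    have h1 : Algebra.trace A (A ⊗[k] A) (x ⊗ₜ[k] y) =
        x • algebraMap k A (Algebra.trace k A y) := by
      rw [e, map_smul, trace_one_tmul]
    rw [h1, slice_tmul, smul_eq_mul, Algebra.smul_def, mul_comm]
  | add a b ha hb => simp only [map_add, ha, hb]

/-- The trace form of a finite-dimensional commutative Hopf algebra is an integral. -/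
theorem slice_trace_comul (a : A) :
    slice (Algebra.trace k A) (Coalgebra.comul (R := k) a) = Algebra.trace k A a • (1 : A) := by
  rw [← trace_eq_slice, trace_comul, trace_one_tmul, Algebra.smul_def, mul_one]

/-- Maschke: a finite-dimensional commutative Hopf algebra over a field of characteristic zero is
linearly reductive. -/
theorem isLinearlyReductive_of_finite_charZero [CharZero k] : HopfRep.IsLinearlyReductive k A := by
  have hnt : Nontrivial A := by
    refine ⟨⟨0, 1, fun h => ?_⟩⟩
    have := congrArg (Coalgebra.counit (R := k) (A := A)) h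
    rw [map_zero, Bialgebra.counit_one] at this
    exact zero_ne_one this
  have hpos : 0 < Module.finrank k A := Module.finrank_pos
  have hne : (Module.finrank k A : k) ≠ 0 := by
    exact_mod_cast hpos.ne'
  let I : A →ₗ[k] k := (Module.finrank k A : k)⁻¹ • Algebra.trace k A
  have hI1 : I 1 = 1 := by
    change (Module.finrank k A : k)⁻¹ • Algebra.trace k A 1 = 1
    have : Algebra.trace k A 1 = (Module.finrank k A : k) := by
      have := Algebra.trace_algebraMap (S := A) (1 : k)
      rw [map_one] at this
      rw [this]
      simp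
    rw [this, smul_eq_mul, inv_mul_cancel₀ hne]
  have hI : ∀ a : A, slice I (Coalgebra.comul (R := k) a) = I a • (1 : A) := by
    intro a
    have : slice (V := A) I = (Module.finrank k A : k)⁻¹ • slice (V := A) (Algebra.trace k A) := by
      apply TensorProduct.ext'
      intro x y
      simp [I, smul_smul]
    rw [this, LinearMap.smul_apply, slice_trace_comul]
    change _ = ((Module.finrank k A : k)⁻¹ • Algebra.trace k A a) • (1 : A)
    rw [smul_smul]
    rfl
  apply linearlyReductive_of_H1
  intro V _ _ _ _
  exact cocycles_le_coboundaries_of_integral V I hI1 hI 0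

end TraceIntegral

end Groth.Agent.H40
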