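import Mathlib
import Groth.Prelude.Def_GLin
import Groth.Agent.H40.DiagSS
import Groth.Agent.Lib.Helper59.OrbitClosure
import Groth.Agent.Lib.Helper59.PointsOfFT
import Groth.Agent.Lib.Helper84.HopfCartier

/-! # G-linearisations of the trivial line bundle (helper40)

A cocycle `θ ∈ R ⊗ A` (a `G`-line bundle structure on the trivial bundle of `Spec R`) is a unit;
if all units of `R` are constant, or all units of `A` are multiples of characters, and `Spec R` is
connected, then `θ = 1 ⊗ χ` for a group-like `χ`. -/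

set_option autoImplicit false
set_option linter.unusedSectionVars false
universe u
open TensorProduct

namespace Groth.Agent.H40.TrivBundle

section Slices

variable {k : Type u} [Field k] {V C : Type u} [AddCommGroup V] [Module k V]
  [AddCommGroup C] [Module k C]

theorem eq_zero_of_forall_slice (t : V ⊗[k] C) (h : ∀ ψ : C →ₗ[k] k, slice ψ t = 0) : t = 0 := by
  have h1 := mem_range_rTensor_subtype_of_forall_slice (⊥ : Submodule k V) t
    (fun ψ => by rw [h ψ]; exact Submodule.zero_mem _)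
  obtain ⟨r, hr⟩ := h1
  rw [← hr]
  have : (⊥ : Submodule k V).subtype = 0 := by
    apply LinearMap.ext
    intro x
    exact (Submodule.mem_bot k).1 x.2
  rw [this, LinearMap.rTensor_zero, LinearMap.zero_apply]

end Slices

section Alg

variable {k : Type u} [Field k] {A : Type u} [CommRing A] [Algebra k A]
  {R : Type u} [CommRing R] [Algebra k R]

/-- Evaluate the `A`-factor at a point. -/
noncomputable def evR (g : A →ₐ[k] k) : R ⊗[k] A →ₐ[k] R :=
  Algebra.TensorProduct.lift (AlgHom.id k R) ((Algebra.ofId k R).comp g) (fun _ _ => Commute.all _ _)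

theorem evR_eq_slice (g : A →ₐ[k] k) (t : R ⊗[k] A) : evR g t = slice g.toLinearMap t := by
  induction t using TensorProduct.induction_on with
  | zero => simp
  | tmul x y =>
    simp [evR, Algebra.ofId_apply, Algebra.smul_def, mul_comm]
  | add x y hx hy => simp only [map_add, hx, hy]

/-- Evaluate the `R`-factor at a point. -/
noncomputable def evA (x : R →ₐ[k] k) : R ⊗[k] A →ₐ[k] A :=
  Algebra.TensorProduct.lift ((Algebra.ofId k A).comp x) (AlgHom.id k A) (fun _ _ => Commute.all _ _)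

theorem evA_eq_lslice (x : R →ₐ[k] k) (t : R ⊗[k] A) : evA x t = lslice x.toLinearMap t := by
  induction t using TensorProduct.induction_on with
  | zero => simp
  | tmul r a =>
    simp [evA, Algebra.ofId_apply, Algebra.smul_def]
  | add x y hx hy => simp only [map_add, hx, hy]

end Alg

section Unit

variable {k : Type u} [Field k] {A : Type u} [CommRing A] [HopfAlgebra k A]
  {R : Type u} [CommRing R] [Algebra k R] [HopfRep.Comod k A R] [GLin.IsCoactAlg k A R]

/-- `ρ ⊗ id : R ⊗ A → (R ⊗ A) ⊗ A`. -/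
noncomputable def coactL : R ⊗[k] A →ₐ[k] (R ⊗[k] A) ⊗[k] A :=
  Algebra.TensorProduct.map (GLin.coactAlgHom k A R) (AlgHom.id k A)

/-- `(x ⊗ b) ↦ x · (1 ⊗ S b)`. -/
noncomputable def mulS : (R ⊗[k] A) ⊗[k] A →ₐ[k] R ⊗[k] A :=
  Algebra.TensorProduct.productMap (AlgHom.id k (R ⊗[k] A))
    ((Algebra.TensorProduct.includeRight).comp (HopfAlgebra.antipodeAlgHom k A))

theorem rTensor_tw (θ x : R ⊗[k] A) :
    ((LinearMap.mulRight k θ) ∘ₗ HopfRep.Comod.coact (k := k) (A := A) (V := R)).rTensor A x =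
      coactL x * (θ ⊗ₜ[k] (1 : A)) := by
  induction x using TensorProduct.induction_on with
  | zero => simp
  | tmul r a =>
    simp [coactL, Algebra.TensorProduct.tmul_mul_tmul]
  | add x y hx hy => simp only [map_add, hx, hy, add_mul]

theorem mulS_assoc_symm_tmul (r : R) (z : A ⊗[k] A) :
    mulS ((TensorProduct.assoc k R A A).symm (r ⊗ₜ[k] z)) =
      r ⊗ₜ[k] LinearMap.mul' k A (LinearMap.lTensor A (HopfAlgebra.antipode k) z) := by
  induction z using TensorProduct.induction_on with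
  | zero => simp
  | tmul a b =>
    simp [mulS, Algebra.TensorProduct.productMap_apply_tmul, Algebra.TensorProduct.tmul_mul_tmul]
  | add x y hx hy => simp only [map_add, hx, hy, TensorProduct.tmul_add]

theorem mulS_assoc_symm_comul (t : R ⊗[k] A) :
    mulS ((TensorProduct.assoc k R A A).symm
      ((CoalgebraStruct.comul (R := k) (A := A)).lTensor R t)) =
      (Algebra.linearMap k A).lTensor R ((CoalgebraStruct.counit (R := k) (A := A)).lTensor R t) := by
  induction t using TensorProduct.induction_on with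
  | zero => simp
  | tmul r a =>
    rw [LinearMap.lTensor_tmul, mulS_assoc_symm_tmul, HopfAlgebra.mul_antipode_lTensor_comul_apply]
    simp
  | add x y hx hy => simp only [map_add, hx, hy]

/-- The cocycle identity. -/
theorem cocycle (θ : R ⊗[k] A)
    (hassoc : (TensorProduct.assoc k R A A).toLinearMap ∘ₗ
        ((LinearMap.mulRight k θ) ∘ₗ HopfRep.Comod.coact (k := k) (A := A) (V := R)).rTensor A ∘ₗ
          ((LinearMap.mulRight k θ) ∘ₗ HopfRep.Comod.coact (k := k) (A := A) (V := R)) =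
      (CoalgebraStruct.comul (R := k) (A := A)).lTensor R ∘ₗ
        ((LinearMap.mulRight k θ) ∘ₗ HopfRep.Comod.coact (k := k) (A := A) (V := R))) :
    TensorProduct.assoc k R A A (coactL θ * (θ ⊗ₜ[k] (1 : A))) =
      (CoalgebraStruct.comul (R := k) (A := A)).lTensor R θ := by
  have h := LinearMap.congr_fun hassoc (1 : R)
  simp only [LinearMap.coe_comp, LinearEquiv.coe_coe, Function.comp_apply,
    LinearMap.mulRight_apply] at h
  rw [GLin.IsCoactAlg.coact_one (k := k) (A := A) (R := R), one_mul] at h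
  rw [← rTensor_tw]
  exact h

theorem counit_eq (θ : R ⊗[k] A)
    (hcounit : (CoalgebraStruct.counit (R := k) (A := A)).lTensor R ∘ₗ
        ((LinearMap.mulRight k θ) ∘ₗ HopfRep.Comod.coact (k := k) (A := A) (V := R)) =
      (TensorProduct.mk k R k).flip 1) :
    (CoalgebraStruct.counit (R := k) (A := A)).lTensor R θ = (1 : R) ⊗ₜ[k] (1 : k) := by
  have h := LinearMap.congr_fun hcounit (1 : R)
  simp only [LinearMap.coe_comp, Function.comp_apply, LinearMap.mulRight_apply] at h
  rw [GLin.IsCoactAlg.coact_one (k := k) (A := A) (R := R), one_mul] at h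
  rw [h]
  simp

theorem isUnit_of_cocycle (θ : R ⊗[k] A)
    (hc : TensorProduct.assoc k R A A (coactL θ * (θ ⊗ₜ[k] (1 : A))) =
      (CoalgebraStruct.comul (R := k) (A := A)).lTensor R θ)
    (he : (CoalgebraStruct.counit (R := k) (A := A)).lTensor R θ = (1 : R) ⊗ₜ[k] (1 : k)) :
    IsUnit θ := by
  have h1 := mulS_assoc_symm_comul (k := k) (A := A) (R := R) θ
  rw [← hc, LinearEquiv.symm_apply_apply, he, map_mul] at h1
  have h2 : mulS (θ ⊗ₜ[k] (1 : A)) = θ := by
    simp only [mulS, Algebra.TensorProduct.productMap_apply_tmul, AlgHom.coe_id, id_eq, map_one,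
      mul_one]
  rw [h2] at h1
  have h3 : (Algebra.linearMap k A).lTensor R ((1 : R) ⊗ₜ[k] (1 : k)) = 1 := by
    simp [Algebra.TensorProduct.one_def]
  rw [h3] at h1
  exact IsUnit.of_mul_eq_one _ (by rw [mul_comm]; exact h1)

end Unit

section GroupLike

variable {k : Type u} [Field k] {A : Type u} [CommRing A] [HopfAlgebra k A]
  {R : Type u} [CommRing R] [Algebra k R] [HopfRep.Comod k A R] [GLin.IsCoactAlg k A R]

/-- If the cocycle is `1 ⊗ χ`, then `χ` is group-like. -/
theorem isGroupLikeElem_of_eq [Nontrivial R] (χ : A)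
    (hc : TensorProduct.assoc k R A A (coactL ((1 : R) ⊗ₜ[k] χ) * (((1 : R) ⊗ₜ[k] χ) ⊗ₜ[k] (1 : A))) =
      (CoalgebraStruct.comul (R := k) (A := A)).lTensor R ((1 : R) ⊗ₜ[k] χ))
    (he : (CoalgebraStruct.counit (R := k) (A := A)).lTensor R ((1 : R) ⊗ₜ[k] χ) =
      (1 : R) ⊗ₜ[k] (1 : k)) :
    IsGroupLikeElem k χ := by
  obtain ⟨π, hπ⟩ := LinearMap.exists_leftInverse_of_injective (Algebra.linearMap k R)
    (LinearMap.ker_eq_bot.mpr (algebraMap k R).injective)
  have hπ1 : π 1 = 1 := by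
    have := LinearMap.congr_fun hπ (1 : k)
    simpa using this
  constructor
  · have := congrArg (lslice π) he
    simpa [hπ1] using this
  · have h1 : coactL ((1 : R) ⊗ₜ[k] χ) = ((1 : R) ⊗ₜ[k] (1 : A)) ⊗ₜ[k] χ := by
      simp [coactL, GLin.IsCoactAlg.coact_one (k := k) (A := A) (R := R),
        Algebra.TensorProduct.one_def]
    rw [h1, Algebra.TensorProduct.tmul_mul_tmul, Algebra.TensorProduct.tmul_mul_tmul, one_mul,
      one_mul, mul_one, TensorProduct.assoc_tmul, LinearMap.lTensor_tmul] at hc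
    have := congrArg (lslice π) hc
    simpa [hπ1] using this.symm

end GroupLike

section CaseR

variable {k : Type u} [Field k] [IsAlgClosed k] {A : Type u} [CommRing A] [Algebra k A]
  [Algebra.FiniteType k A] [IsReduced A]
  {R : Type u} [CommRing R] [Algebra k R] [Nontrivial R]

/-- If every unit of `R` is a scalar, a unit of `R ⊗ A` is of the form `1 ⊗ χ`. -/
theorem eq_one_tmul_of_units_scalar (θ : R ⊗[k] A) (hθ : IsUnit θ)
    (hu : ∀ u : Rˣ, (u : R) ∈ Set.range (algebraMap k R)) :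
    ∃ χ : A, θ = (1 : R) ⊗ₜ[k] χ := by
  obtain ⟨π, hπ⟩ := LinearMap.exists_leftInverse_of_injective (Algebra.linearMap k R)
    (LinearMap.ker_eq_bot.mpr (algebraMap k R).injective)
  have hπ1 : ∀ c : k, π (algebraMap k R c) = c := fun c => LinearMap.congr_fun hπ c
  refine ⟨lslice π θ, ?_⟩
  rw [← sub_eq_zero]
  apply eq_zero_of_forall_lslice
  intro φ
  apply IsNilpotent.eq_zero
  apply Groth.Agent.Lib.Helper59.LinRed.isNilpotent_of_forall_algHom_eq_zero k A
  intro g
  have h1 := apply_lslice_eq φ g.toLinearMap (θ - (1 : R) ⊗ₜ[k] lslice π θ)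
  rw [AlgHom.toLinearMap_apply] at h1
  rw [h1]
  obtain ⟨c, hc⟩ := hu ((hθ.map (evR g)).unit)
  rw [IsUnit.unit_spec, evR_eq_slice] at hc
  have h2 := apply_lslice_eq π g.toLinearMap θ
  rw [AlgHom.toLinearMap_apply, ← hc, hπ1] at h2
  rw [map_sub, slice_tmul, AlgHom.toLinearMap_apply, h2, ← hc, Algebra.algebraMap_eq_smul_one,
    sub_self, map_zero]

end CaseR

section CaseA

variable {k : Type u} [Field k] [IsAlgClosed k] {A : Type u} [CommRing A] [HopfAlgebra k A]
  {R : Type u} [CommRing R] [Algebra k R] [Algebra.FiniteType k R] [IsReduced R]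
  [ConnectedSpace (PrimeSpectrum R)]

/-- The ideal cutting out the locus where `θ(x, ·) = χ`. -/
noncomputable def locIdeal (θ : R ⊗[k] A) (χ : A) : Ideal R :=
  Ideal.span (Set.range fun φ : A →ₗ[k] k => slice φ (θ - (1 : R) ⊗ₜ[k] χ))

omit [IsAlgClosed k] [Algebra.FiniteType k R] [IsReduced R] [ConnectedSpace (PrimeSpectrum R)] in
theorem locIdeal_le_ker_iff (θ : R ⊗[k] A) (χ : A) (x : R →ₐ[k] k) :
    locIdeal θ χ ≤ RingHom.ker x ↔ lslice x.toLinearMap θ = χ := by
  have key : ∀ φ : A →ₗ[k] k, x (slice φ (θ - (1 : R) ⊗ₜ[k] χ)) =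
      φ (lslice x.toLinearMap θ - χ) := by
    intro φ
    have h := apply_lslice_eq x.toLinearMap φ (θ - (1 : R) ⊗ₜ[k] χ)
    rw [AlgHom.toLinearMap_apply] at h
    rw [← h, map_sub, lslice_tmul, AlgHom.toLinearMap_apply, map_one, one_smul]
  constructor
  · intro h
    rw [← sub_eq_zero, ← Module.forall_dual_apply_eq_zero_iff k]
    intro φ
    rw [← key]
    exact h (Ideal.subset_span ⟨φ, rfl⟩)
  · intro h
    rw [locIdeal, Ideal.span_le]
    rintro _ ⟨φ, rfl⟩
    change x _ = 0
    rw [key, h, sub_self, map_zero]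

omit [IsAlgClosed k] [Algebra.FiniteType k R] [IsReduced R] [ConnectedSpace (PrimeSpectrum R)] in
theorem eq_of_locIdeal_eq_bot (θ : R ⊗[k] A) (χ : A) (h : locIdeal θ χ = ⊥) :
    θ = (1 : R) ⊗ₜ[k] χ := by
  rw [← sub_eq_zero]
  apply eq_zero_of_forall_slice
  intro φ
  have : slice φ (θ - (1 : R) ⊗ₜ[k] χ) ∈ locIdeal θ χ := Ideal.subset_span ⟨φ, rfl⟩
  rw [h] at this
  exact this

/-- If every unit of `A` is a multiple of a group-like element, a unit `θ` of `R ⊗ A` with
`θ(x, e) = 1` is `1 ⊗ χ` for a group-like `χ` (`Spec R` connected, reduced of finite type). -/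
theorem eq_one_tmul_of_units_groupLike (θ : R ⊗[k] A) (hθ : IsUnit θ)
    (he : (CoalgebraStruct.counit (R := k) (A := A)).lTensor R θ = (1 : R) ⊗ₜ[k] (1 : k))
    (hu : ∀ u : Aˣ, ∃ (c : k) (χ : A), IsGroupLikeElem k χ ∧ (u : A) = c • χ) :
    ∃ χ : A, IsGroupLikeElem k χ ∧ θ = (1 : R) ⊗ₜ[k] χ := by
  classical
  -- every slice at a rational point is group-like
  have hgl : ∀ x : R →ₐ[k] k, IsGroupLikeElem k (lslice x.toLinearMap θ) := by
    intro x
    obtain ⟨c, χ, hχ, hc⟩ := hu ((hθ.map (evA x)).unit)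
    rw [IsUnit.unit_spec, evA_eq_lslice] at hc
    have h1 := apply_lslice_eq x.toLinearMap (CoalgebraStruct.counit (R := k) (A := A)) θ
    have h2 : slice (CoalgebraStruct.counit (R := k) (A := A)) θ = (1 : R) := by
      rw [slice, LinearMap.comp_apply, he]
      simp
    rw [h2, AlgHom.toLinearMap_apply, map_one, hc, map_smul, hχ.counit_eq_one, smul_eq_mul,
      mul_one] at h1
    rw [hc, h1, one_smul]
    exact hχ
  -- a finite-dimensional space containing all slices
  obtain ⟨V, hVfin, hV⟩ := TensorProduct.exists_finite_submodule_right_of_setFinite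
    ({θ} : Set (R ⊗[k] A)) (Set.finite_singleton θ)
  have hθV : θ ∈ LinearMap.range (LinearMap.lTensor R V.subtype) := hV rfl
  have hslV : ∀ x : R →ₐ[k] k, lslice x.toLinearMap θ ∈ V :=
    fun x => lslice_mem_of_mem_range V θ hθV _
  -- finitely many group-like elements in `V`
  let T : Set A := {χ | IsGroupLikeElem k χ ∧ χ ∈ V}
  have hTfin : T.Finite := by
    have hli : LinearIndependent k (fun χ : T => (⟨χ.1, χ.2.2⟩ : V)) := by
      apply LinearIndependent.of_comp V.subtype
      have : LinearIndepOn k id T :=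
        (linearIndepOn_isGroupLikeElem (R := k) (A := A)).mono (fun χ hχ => hχ.1)
      exact this
    have : Finite T := hli.finite_of_isNoetherian
    exact Set.toFinite T
  have hxT : ∀ x : R →ₐ[k] k, lslice x.toLinearMap θ ∈ T := fun x => ⟨hgl x, hslV x⟩
  have hJ : IsJacobsonRing R := isJacobsonRing_of_finiteType (A := k) (B := R)
  -- the closed sets
  let Z : A → Set (PrimeSpectrum R) := fun χ => PrimeSpectrum.zeroLocus (locIdeal θ χ : Set R)
  have hZclosed : ∀ χ, IsClosed (Z χ) := fun χ => PrimeSpectrum.isClosed_zeroLocus _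
  -- cover
  have hcover : ∀ p : PrimeSpectrum R, ∃ χ ∈ T, p ∈ Z χ := by
    intro p
    by_contra hcon
    push Not at hcon
    have hex : ∀ χ : A, χ ∈ T → ∃ f ∈ locIdeal θ χ, f ∉ p.asIdeal := by
      intro χ hχ
      have := hcon χ hχ
      rw [PrimeSpectrum.mem_zeroLocus] at this
      exact Set.not_subset.mp this
    choose! f hf1 hf2 using hex
    have hprod : (∏ χ ∈ hTfin.toFinset, f χ) ∉ p.asIdeal := by
      rw [Ideal.IsPrime.prod_mem_iff]
      push Not
      intro χ hχ
      exact hf2 χ (hTfin.mem_toFinset.mp hχ)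
    have hjac : p.asIdeal.jacobson = p.asIdeal := IsJacobsonRing.out' _ p.2.isRadical
    rw [← hjac, Ideal.jacobson, Ideal.mem_sInf] at hprod
    push Not at hprod
    obtain ⟨m, ⟨hpm, hm⟩, hnot⟩ := hprod
    obtain ⟨x, hx⟩ := Groth.Agent.Lib.Helper59.exists_algHom_ker_eq_of_isMaximal k R m
    have hle : locIdeal θ (lslice x.toLinearMap θ) ≤ m := by
      rw [← hx, locIdeal_le_ker_iff]
    apply hnot
    apply Ideal.mem_of_dvd _ (Finset.dvd_prod_of_mem f (hTfin.mem_toFinset.mpr (hxT x)))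
    exact hle (hf1 _ (hxT x))
  -- disjoint
  have hdisj : ∀ χ χ' : A, ∀ p : PrimeSpectrum R, p ∈ Z χ → p ∈ Z χ' → χ = χ' := by
    intro χ χ' p h1 h2
    obtain ⟨m, hm, hpm⟩ := Ideal.exists_le_maximal p.asIdeal p.2.ne_top
    obtain ⟨x, hx⟩ := Groth.Agent.Lib.Helper59.exists_algHom_ker_eq_of_isMaximal k R m
    rw [PrimeSpectrum.mem_zeroLocus, SetLike.coe_subset_coe] at h1 h2
    have e1 := (locIdeal_le_ker_iff θ χ x).mp (by rw [hx]; exact h1.trans hpm)
    have e2 := (locIdeal_le_ker_iff θ χ' x).mp (by rw [hx]; exact h2.trans hpm)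
    rw [← e1, ← e2]
  -- connectedness
  obtain ⟨p0⟩ : Nonempty (PrimeSpectrum R) := inferInstance
  obtain ⟨χ0, hχ0T, hp0⟩ := hcover p0
  have hopen : IsOpen (Z χ0) := by
    have hcompl : (Z χ0)ᶜ = ⋃ χ ∈ hTfin.toFinset.erase χ0, Z χ := by
      ext p
      simp only [Set.mem_compl_iff, Set.mem_iUnion, Finset.mem_erase, Set.Finite.mem_toFinset,
        exists_prop]
      constructor
      · intro hp
        obtain ⟨χ, hχT, hpχ⟩ := hcover p
        refine ⟨χ, ⟨?_, hχT⟩, hpχ⟩
        rintro rfl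
        exact hp hpχ
      · rintro ⟨χ, ⟨hne, _⟩, hpχ⟩ hp
        exact hne (hdisj χ χ0 p hpχ hp)
    rw [← isClosed_compl_iff, hcompl]
    exact Set.Finite.isClosed_biUnion (Finset.finite_toSet _) (fun χ _ => hZclosed χ)
  have huniv : Z χ0 = Set.univ := IsClopen.eq_univ ⟨hZclosed χ0, hopen⟩ ⟨p0, hp0⟩
  have hbot : locIdeal θ χ0 = ⊥ := by
    rw [eq_bot_iff, ← Ideal.zero_eq_bot, ← nilradical_eq_zero R, nilradical_eq_sInf, le_sInf_iff]
    intro P hP
    have : (⟨P, hP⟩ : PrimeSpectrum R) ∈ Z χ0 := by rw [huniv]; trivial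
    rw [PrimeSpectrum.mem_zeroLocus, SetLike.coe_subset_coe] at this
    exact this
  exact ⟨χ0, hχ0T.1, eq_of_locIdeal_eq_bot θ χ0 hbot⟩

end CaseA

end Groth.Agent.H40.TrivBundle
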