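import Mathlib
import Groth.Prelude.Def_GSzCSA
import Groth.Agent.Lib.Helper39.GalDescent
import Groth.Agent.H40.ModCancel

/-!
# Hilbert 90 for the units of `K ⊗[k] A`, `A` any finite-dimensional `k`-algebra

Every 1-cocycle of `Gal(K/k)` with values in `(K ⊗[k] A)ˣ` is a coboundary (`exists_unit`).
Proof: twisted Galois descent gives a left `A`-submodule `M₀ ⊆ K ⊗ A` with `K ⊗ M₀ ≅ K ⊗ A`,
hence `M₀^n ≅ A^n`; `ModCancel.exists_generator` gives a generator, which is a unit.
-/

set_option autoImplicit false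
set_option linter.unusedSectionVars false

namespace Groth.Agent.H40.UnitsH90

open scoped TensorProduct
open Groth.Agent.Lib.Helper39

attribute [local instance] CSAGal.tensorAction GpH1.unitsAction

universe u v w

variable {k : Type u} [Field k] {K : Type v} [Field K] [Algebra k K]
variable {A : Type w} [Ring A] [Algebra k A]

/-- `A` acts on `K ⊗ A` by left multiplication with `1 ⊗ b`. -/
@[reducible] noncomputable def modA : Module A (K ⊗[k] A) :=
  Module.compHom _ (Algebra.TensorProduct.includeRight : A →ₐ[k] K ⊗[k] A).toRingHom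

attribute [local instance] modA

theorem smulA_def (b : A) (x : K ⊗[k] A) : b • x = ((1 : K) ⊗ₜ[k] b) * x := rfl

instance towerA : IsScalarTower k A (K ⊗[k] A) :=
  ⟨fun c b x => by
    rw [smulA_def, smulA_def, TensorProduct.tmul_smul, smul_mul_assoc]⟩

instance commA : SMulCommClass A K (K ⊗[k] A) :=
  ⟨fun b c x => by rw [smulA_def, smulA_def, mul_smul_comm]⟩

theorem gal_smul_smul (σ : K ≃ₐ[k] K) (c : K) (x : K ⊗[k] A) : σ • (c • x) = σ c • σ • x := by
  rw [Algebra.smul_def, Algebra.smul_def, smul_mul']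
  congr 1

theorem gal_smul_one_tmul (σ : K ≃ₐ[k] K) (b : A) :
    σ • ((1 : K) ⊗ₜ[k] b) = (1 : K) ⊗ₜ[k] b := by
  rw [TensorProduct.smul_tmul', smul_one]

variable (a : GpH1.OneCocycle (K ≃ₐ[k] K) (K ⊗[k] A)ˣ)

theorem cocycle_one : a 1 = 1 := by
  have h := a.2 1 1
  rw [one_smul, mul_one] at h
  exact (mul_eq_left.mp h.symm)

/-- The twisted action `x ↦ σ(x) · a_σ⁻¹`. -/
noncomputable def rho (σ : K ≃ₐ[k] K) : (K ⊗[k] A) →+ (K ⊗[k] A) where
  toFun x := (σ • x) * ((a σ)⁻¹ : (K ⊗[k] A)ˣ)
  map_zero' := by rw [smul_zero, zero_mul]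
  map_add' x y := by rw [smul_add, add_mul]

theorem rho_apply (σ : K ≃ₐ[k] K) (x : K ⊗[k] A) :
    rho a σ x = (σ • x) * ((a σ)⁻¹ : (K ⊗[k] A)ˣ) := rfl

theorem rho_semilinear [FiniteDimensional k K] [IsGalois k K] : IsSemilinearAction (rho a) where
  one m := by rw [rho_apply, cocycle_one, inv_one, Units.val_one, mul_one, one_smul]
  mul σ τ m := by
    rw [rho_apply, rho_apply, rho_apply, a.2 σ τ, mul_inv_rev, Units.val_mul, smul_mul', mul_smul,
      mul_assoc]
    rfl
  smul σ c m := by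
    rw [rho_apply, rho_apply, gal_smul_smul, smul_mul_assoc]

/-- The fixed points of the twisted action, a left `A`-submodule of `K ⊗ A`. -/
noncomputable def M₀ : Submodule A (K ⊗[k] A) where
  carrier := {x | ∀ σ, rho a σ x = x}
  zero_mem' σ := map_zero _
  add_mem' hx hy σ := by rw [map_add, hx σ, hy σ]
  smul_mem' b x hx σ := by
    have := hx σ
    rw [rho_apply] at this ⊢
    rw [smulA_def, smul_mul', gal_smul_one_tmul, mul_assoc, this]

theorem mem_M₀ (x : K ⊗[k] A) : x ∈ M₀ a ↔ ∀ σ, rho a σ x = x := Iff.rfl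

section Main

variable [FiniteDimensional k K] [IsGalois k K]

/-- The inclusion `M₀ → K ⊗ A` as a `k`-linear map. -/
noncomputable def iota : M₀ a →ₗ[k] K ⊗[k] A := (M₀ a).subtype.restrictScalars k

theorem iota_apply (x : M₀ a) : iota a x = (x : K ⊗[k] A) := rfl

theorem iota_injective : Function.Injective (iota a) := Subtype.val_injective

theorem range_iota (m : K ⊗[k] A) : m ∈ LinearMap.range (iota a) ↔ ∀ σ, rho a σ m = m := by
  constructor
  · rintro ⟨x, rfl⟩
    exact x.2
  · intro h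
    exact ⟨⟨m, h⟩, rfl⟩

theorem lift_bijective : Function.Bijective ((iota a).liftBaseChange K) :=
  (rho_semilinear a).liftBaseChange_bijective (iota a) (iota_injective a) (range_iota a)

variable {n : ℕ} (e : Module.Basis (Fin n) k K)

/-- `(m_i) ↦ ∑ e_i • m_i`. -/
noncomputable def thetaM : (Fin n → M₀ a) →ₗ[A] K ⊗[k] A where
  toFun m := ∑ i, e i • (m i : K ⊗[k] A)
  map_add' m m' := by
    simp only [Pi.add_apply, Submodule.coe_add, smul_add, Finset.sum_add_distrib]
  map_smul' b m := by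
    simp only [Pi.smul_apply, Submodule.coe_smul, RingHom.id_apply, Finset.smul_sum]
    refine Finset.sum_congr rfl fun i _ => ?_
    exact (smul_comm b (e i) ((m i : M₀ a) : K ⊗[k] A)).symm

theorem thetaM_eq (m : Fin n → M₀ a) :
    thetaM a e m = (iota a).liftBaseChange K
      ((TensorProduct.equivFinsuppOfBasisLeft e).symm (Finsupp.equivFunOnFinite.symm m)) := by
  classical
  rw [TensorProduct.equivFinsuppOfBasisLeft_symm_apply, Finsupp.sum_fintype _ _ (by simp),
    map_sum]
  rfl

theorem thetaM_bijective : Function.Bijective (thetaM a e) := by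
  have : ⇑(thetaM a e) = (iota a).liftBaseChange K ∘
      (TensorProduct.equivFinsuppOfBasisLeft e).symm ∘ Finsupp.equivFunOnFinite.symm := by
    funext m
    exact thetaM_eq a e m
  rw [this]
  exact (lift_bijective a).comp
    ((TensorProduct.equivFinsuppOfBasisLeft e).symm.bijective.comp (Equiv.bijective _))

/-- `(b_i) ↦ ∑ e_i ⊗ b_i`. -/
noncomputable def thetaA : (Fin n → A) →ₗ[A] K ⊗[k] A where
  toFun b := ∑ i, e i ⊗ₜ[k] b i
  map_add' b b' := by
    simp only [Pi.add_apply, TensorProduct.tmul_add, Finset.sum_add_distrib]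
  map_smul' c b := by
    simp only [Pi.smul_apply, RingHom.id_apply, Finset.smul_sum]
    refine Finset.sum_congr rfl fun i _ => ?_
    rw [smulA_def, Algebra.TensorProduct.tmul_mul_tmul, one_mul, smul_eq_mul]

theorem thetaA_bijective : Function.Bijective (thetaA (A := A) e) := by
  classical
  have : ⇑(thetaA (A := A) e) =
      (TensorProduct.equivFinsuppOfBasisLeft e).symm ∘ Finsupp.equivFunOnFinite.symm := by
    funext b
    rw [Function.comp_apply, TensorProduct.equivFinsuppOfBasisLeft_symm_apply,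
      Finsupp.sum_fintype _ _ (by simp)]
    rfl
  rw [this]
  exact (TensorProduct.equivFinsuppOfBasisLeft e).symm.bijective.comp (Equiv.bijective _)

/-- `M₀^n ≅ A^n` as `A`-modules. -/
noncomputable def eqv : (Fin n → M₀ a) ≃ₗ[A] (Fin n → A) :=
  (LinearEquiv.ofBijective (thetaM a e) (thetaM_bijective a e)) ≪≫ₗ
    (LinearEquiv.ofBijective (thetaA e) (thetaA_bijective e)).symm

variable [FiniteDimensional k A]

/-- Hilbert 90 for `(K ⊗ A)ˣ`. -/
theorem exists_unit : ∃ c : (K ⊗[k] A)ˣ, ∀ σ, a σ = c⁻¹ * σ • c := by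
  classical
  have hn : 0 < Module.finrank k K := Module.finrank_pos
  have hfin : FiniteDimensional k (M₀ a) := ModCancel.finite_submodule (M₀ a)
  obtain ⟨m, hm⟩ := ModCancel.exists_generator k _ hn (eqv a (Module.finBasis k K))
  have hsub : ∀ x : K ⊗[k] A, (∀ σ, rho a σ x = x) → ∃ y, x = y * (m : K ⊗[k] A) := by
    intro x hx
    have : (⟨x, hx⟩ : M₀ a) ∈ Submodule.span A {m} := hm ▸ Submodule.mem_top
    obtain ⟨b, hb⟩ := Submodule.mem_span_singleton.mp this
    exact ⟨1 ⊗ₜ b, by rw [← smulA_def]; exact congrArg Subtype.val hb.symm⟩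
  let L : Submodule K (K ⊗[k] A) :=
    { carrier := {x | ∃ y, x = y * (m : K ⊗[k] A)}
      zero_mem' := ⟨0, by rw [zero_mul]⟩
      add_mem' := by
        rintro _ _ ⟨y, rfl⟩ ⟨y', rfl⟩
        exact ⟨y + y', by rw [add_mul]⟩
      smul_mem' := by
        rintro c _ ⟨y, rfl⟩
        exact ⟨c • y, by rw [smul_mul_assoc]⟩ }
  have hL : L = ⊤ := by
    rw [eq_top_iff, ← (rho_semilinear a).span_fixed_eq_top, Submodule.span_le]
    intro x hx
    exact hsub x hx
  obtain ⟨y, hy⟩ : (1 : K ⊗[k] A) ∈ L := hL ▸ Submodule.mem_top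
  have hart : IsArtinianRing (K ⊗[k] A) := isArtinian_of_tower K inferInstance
  obtain ⟨c, hc⟩ : IsUnit (m : K ⊗[k] A) := IsUnit.of_mul_eq_one_right y hy.symm
  refine ⟨c, fun σ => ?_⟩
  have hfix := m.2 σ
  rw [rho_apply, ← hc] at hfix
  have h2 : σ • c = c * a σ := by
    apply Units.ext
    rw [Units.val_mul, ← hfix, mul_assoc, ← Units.val_mul, inv_mul_cancel, Units.val_one, mul_one]
    rfl
  rw [h2, inv_mul_cancel_left]

end Main

end Groth.Agent.H40.UnitsH90
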