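import Mathlib

/-! # Monic relation with derivative a unit at all unramified maximal ideals (helper40)
For `B = A[u]` finite over a local ring `A`. -/

set_option autoImplicit false
universe u

open Polynomial

namespace Groth.Agent.H40.UnramMonic

variable {A B : Type u} [CommRing A] [CommRing B] [Algebra A B]

/-- A derivation `B → B ⧸ n` with `D u = 1`, when `B = A[u]` and all relations `g(u) = 0` have
`g'(u) ∈ n`. -/
theorem exists_derivation (u : B) (hsurj : Function.Surjective (aeval (R := A) u))
    (n : Ideal B)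
    (hn : ∀ g : A[X], aeval u g = 0 → aeval u (derivative g) ∈ n) :
    ∃ D : Derivation A B (B ⧸ n), D u = 1 := by
  classical
  let f : A[X] →ₗ[A] B := (aeval (R := A) u).toLinearMap
  let δ : A[X] →ₗ[A] B ⧸ n :=
    (Ideal.Quotient.mkₐ A n).toLinearMap ∘ₗ f ∘ₗ (derivative : A[X] →ₗ[A] A[X])
  have hδ : ∀ g : A[X], δ g = Ideal.Quotient.mk n (aeval u (derivative g)) := fun g => rfl
  have hker : LinearMap.ker f ≤ LinearMap.ker δ := by
    intro g hg
    rw [LinearMap.mem_ker] at hg ⊢
    rw [hδ]
    exact Ideal.Quotient.eq_zero_iff_mem.mpr (hn g hg)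
  have hf : Function.Surjective f := hsurj
  let e := f.quotKerEquivOfSurjective hf
  let D₀ : B →ₗ[A] B ⧸ n := (Submodule.liftQ (LinearMap.ker f) δ hker) ∘ₗ e.symm.toLinearMap
  have hD₀ : ∀ g : A[X], D₀ (aeval u g) = δ g := by
    intro g
    have : e.symm (aeval u g) = Submodule.Quotient.mk g := by
      rw [LinearEquiv.symm_apply_eq]
      rfl
    change (Submodule.liftQ (LinearMap.ker f) δ hker) (e.symm (aeval u g)) = _
    rw [this, Submodule.liftQ_apply]
  refine ⟨Derivation.mk' D₀ ?_, ?_⟩
  · intro a b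
    obtain ⟨g₁, rfl⟩ := hsurj a
    obtain ⟨g₂, rfl⟩ := hsurj b
    rw [← map_mul, hD₀, hD₀, hD₀, hδ, hδ, hδ, derivative_mul, map_add, map_mul, map_mul, map_add]
    rw [← Ideal.Quotient.mk_eq_mk, ← Ideal.Quotient.mk_eq_mk, ← Ideal.Quotient.mk_eq_mk,
      ← Ideal.Quotient.mk_eq_mk]
    rw [← Submodule.Quotient.mk_smul, ← Submodule.Quotient.mk_smul, smul_eq_mul, smul_eq_mul,
      mul_comm (aeval u g₂) _, add_comm]
  · have : u = aeval (R := A) u X := by simp
    change D₀ u = 1
    rw [this, hD₀, hδ]
    simp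

/-- If `B = A[u]` is unramified over `A` at the prime `n`, some relation `g(u) = 0` has
`g'(u) ∉ n`. -/
theorem exists_relation_derivative_notMem (u : B)
    (hsurj : Function.Surjective (aeval (R := A) u))
    (n : Ideal B) [hnp : n.IsPrime] (hunr : Algebra.IsUnramifiedAt A n) :
    ∃ g : A[X], aeval u g = 0 ∧ aeval u (derivative g) ∉ n := by
  by_contra hcon
  push Not at hcon
  obtain ⟨D, hD⟩ := exists_derivation u hsurj n hcon
  have hmem : (⟨n, hnp⟩ : PrimeSpectrum B) ∈ Algebra.unramifiedLocus A B := hunr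
  rw [Algebra.unramifiedLocus_eq_compl_support, Set.mem_compl_iff,
    Module.notMem_support_iff'] at hmem
  obtain ⟨s, hs, hs0⟩ := hmem (KaehlerDifferential.D A B u)
  have h1 := congrArg D.liftKaehlerDifferential hs0
  rw [map_smul, Derivation.liftKaehlerDifferential_comp_D, hD, map_zero] at h1
  apply hs
  change s ∈ n
  rw [← Ideal.Quotient.eq_zero_iff_mem]
  have : s • (1 : B ⧸ n) = Ideal.Quotient.mk n s := by
    rw [← Ideal.Quotient.mk_eq_mk]
    change s • Submodule.Quotient.mk (1 : B) = _
    rw [← Submodule.Quotient.mk_smul, smul_eq_mul, mul_one]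
  rw [← this]
  exact h1

/-- A polynomial with coefficients in `P` takes values in `n` when `P` maps into `n`. -/
theorem aeval_mem_of_coeff_mem (u : B) (P : Ideal A) (n : Ideal B)
    (hPn : P ≤ n.comap (algebraMap A B)) (r : A[X]) (hr : ∀ i, r.coeff i ∈ P) :
    aeval u r ∈ n := by
  rw [aeval_eq_sum_range]
  refine Ideal.sum_mem _ fun i _ => ?_
  rw [Algebra.smul_def]
  exact Ideal.mul_mem_right _ _ (hPn (hr i))

theorem exists_monic (A B : Type u) [CommRing A] [IsLocalRing A]
    [CommRing B] [Algebra A B] [Module.Finite A B] (u : B)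
    (hu : Algebra.adjoin A ({u} : Set B) = ⊤) :
    ∃ F : Polynomial A, F.Monic ∧ Polynomial.aeval u F = 0 ∧
      ∀ (n : Ideal B) [n.IsMaximal], Algebra.IsUnramifiedAt A n →
        Polynomial.aeval u (Polynomial.derivative F) ∉ n := by
  cases subsingleton_or_nontrivial B
  · refine ⟨1, monic_one, Subsingleton.elim _ _, ?_⟩
    intro n hn
    exact absurd (Subsingleton.elim n ⊤) hn.ne_top
  have hsurj : Function.Surjective (aeval (R := A) u) :=
    (AlgHom.range_eq_top _).mp ((Algebra.adjoin_singleton_eq_range_aeval A u).symm.trans hu)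
  have hint : IsIntegral A u := Algebra.IsIntegral.isIntegral u
  let P := IsLocalRing.maximalIdeal A
  let I := RingHom.ker (aeval (R := A) u).toRingHom
  obtain ⟨p, hpI, hp⟩ := Ideal.exists_mem_span_singleton_map_residueField_eq P I
  have hpu : aeval u p = 0 := hpI
  have hMu : aeval u (minpoly A u) = 0 := minpoly.aeval A u
  have hFu' : aeval u (derivative (minpoly A u ^ (p.natDegree + 2) + p)) =
      aeval u (derivative p) := by
    rw [derivative_add, derivative_pow, map_add, map_mul, map_mul, map_pow, hMu]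
    simp
  refine ⟨minpoly A u ^ (p.natDegree + 2) + p, ?_, ?_, ?_⟩
  · refine ((minpoly.monic hint).pow _).add_of_left (degree_lt_degree ?_)
    grw [natDegree_pow' (by simp [minpoly.monic hint]),
      ← Nat.le_mul_of_pos_right _ (minpoly.natDegree_pos hint)]; lia
  · rw [map_add, map_pow, hMu, hpu]
    simp
  intro n hn hunr
  obtain ⟨g, hg0, hgn⟩ := exists_relation_derivative_notMem u hsurj n hunr
  rw [hFu']
  intro hpn
  apply hgn
  have hPn : P ≤ n.comap (algebraMap A B) := by
    have : (n.comap (algebraMap A B)).IsMaximal :=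
      Ideal.isMaximal_comap_of_isIntegral_of_isMaximal n
    exact (IsLocalRing.eq_maximalIdeal this).ge
  have hgI : g ∈ I := hg0
  have h1 : g.map (algebraMap A P.ResidueField) ∈
      Ideal.span {p.map (algebraMap A P.ResidueField)} := by
    rw [hp]
    exact Ideal.mem_map_of_mem _ hgI
  obtain ⟨c, hc⟩ := Ideal.mem_span_singleton'.mp h1
  have hsurjA : Function.Surjective (algebraMap A P.ResidueField) :=
    Ideal.algebraMap_residueField_surjective P
  obtain ⟨c', rfl⟩ := Polynomial.map_surjective _ hsurjA c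
  have hr : (g - c' * p) ∈ RingHom.ker (mapRingHom (algebraMap A P.ResidueField)) := by
    rw [RingHom.mem_ker, map_sub, map_mul, coe_mapRingHom, hc, sub_self]
  rw [Polynomial.ker_mapRingHom, Ideal.ker_algebraMap_residueField, Ideal.mem_map_C_iff] at hr
  have hr' : aeval u (derivative (g - c' * p)) ∈ n := by
    refine aeval_mem_of_coeff_mem u P n hPn _ fun i => ?_
    rw [coeff_derivative]
    exact Ideal.mul_mem_right _ _ (hr _)
  have hg : g = c' * p + (g - c' * p) := by ring
  rw [hg, derivative_add, derivative_mul, map_add, map_add, map_mul, map_mul, hpu, mul_zero,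
    zero_add]
  exact Ideal.add_mem _ (Ideal.mul_mem_left _ _ hpn) hr'

end Groth.Agent.H40.UnramMonic
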